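import Cfsg.Agent.SporadicStructure.M11InvPerms
import Cfsg.Prelude.Def_Spor_Mathieu
import Cfsg.Prelude.Def_ClassificationK
import Cfsg.Prelude.Def_Transfer
import Cfsg.Prelude.Def_Spor_Conway
import Cfsg.Agent.S0387
import Cfsg.Agent.S0095
import Cfsg.Agent.SmallSimple.S1000.PSLFacts


/-!
# S1763, case [HN]: S1758 gives the Higman–Sims group

A simple group with an involution whose centraliser has order 7680, with generalised Fitting subgroup of order 64,
containing an elementary abelian subgroup of order 8, and satisfying the conclusion of S1758, is the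
Higman–Sims group.
-/

set_option autoImplicit false

open scoped Pointwise
open Cfsg

namespace Cfsg.Agent.HNType.Alt

section PSLTwo

open Matrix

variable {F : Type*} [Field F]

theorem mem_center_of_smul (A : SpecialLinearGroup (Fin 2) F) {t r : F} (ht : t ≠ 0)
    (h : t • (A : Matrix (Fin 2) (Fin 2) F) = r • (1 : Matrix (Fin 2) (Fin 2) F)) :
    A ∈ Subgroup.center (SpecialLinearGroup (Fin 2) F) := by
  have hA : (A : Matrix (Fin 2) (Fin 2) F) = (t⁻¹ * r) • (1 : Matrix (Fin 2) (Fin 2) F) := by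
    rw [mul_smul, ← h, smul_smul, inv_mul_cancel₀ ht, one_smul]
  rw [Subgroup.mem_center_iff]
  intro B
  apply Subtype.ext
  show (B : Matrix (Fin 2) (Fin 2) F) * (A : Matrix (Fin 2) (Fin 2) F) =
    (A : Matrix (Fin 2) (Fin 2) F) * (B : Matrix (Fin 2) (Fin 2) F)
  rw [hA, smul_mul_assoc, mul_smul_comm, one_mul, mul_one]

theorem sq_eq (A : SpecialLinearGroup (Fin 2) F) :
    (A : Matrix (Fin 2) (Fin 2) F) * (A : Matrix (Fin 2) (Fin 2) F) =
      (A.1 0 0 + A.1 1 1) • (A : Matrix (Fin 2) (Fin 2) F) - (1 : Matrix (Fin 2) (Fin 2) F) := by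
  have hdet : A.1 0 0 * A.1 1 1 - A.1 0 1 * A.1 1 0 = 1 := by
    have := A.2
    rwa [Matrix.det_fin_two] at this
  ext i j
  fin_cases i <;> fin_cases j <;>
    simp [Matrix.mul_apply, Fin.sum_univ_two] <;>
    first | ring1 | linear_combination -hdet

theorem sq_eq_neg_one (A : SpecialLinearGroup (Fin 2) F)
    (hA : A ∉ Subgroup.center (SpecialLinearGroup (Fin 2) F))
    (hA2 : A * A ∈ Subgroup.center (SpecialLinearGroup (Fin 2) F)) :
    (A : Matrix (Fin 2) (Fin 2) F) * (A : Matrix (Fin 2) (Fin 2) F) = -1 := by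
  rw [Matrix.SpecialLinearGroup.mem_center_iff] at hA2
  obtain ⟨r, -, hr⟩ := hA2
  have h1 : (A : Matrix (Fin 2) (Fin 2) F) * (A : Matrix (Fin 2) (Fin 2) F) =
      r • (1 : Matrix (Fin 2) (Fin 2) F) := by
    have h2 : ((A * A : SpecialLinearGroup (Fin 2) F) : Matrix (Fin 2) (Fin 2) F) =
      (A : Matrix (Fin 2) (Fin 2) F) * (A : Matrix (Fin 2) (Fin 2) F) := rfl
    rw [← h2, ← hr]
    ext i j
    simp [Matrix.scalar_apply, Matrix.diagonal_apply, Matrix.one_apply]
  by_cases ht : A.1 0 0 + A.1 1 1 = 0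
  · rw [sq_eq, ht, zero_smul, zero_sub]
  · exfalso
    apply hA
    apply mem_center_of_smul A (r := r + 1) ht
    have h3 := sq_eq A
    rw [h1] at h3
    have h4 : (r + 1) • (1 : Matrix (Fin 2) (Fin 2) F) = r • (1 : Matrix (Fin 2) (Fin 2) F) + 1 := by
      rw [add_smul, one_smul]
    rw [h4, h3]
    exact (sub_add_cancel _ _).symm

theorem anticomm (A B : SpecialLinearGroup (Fin 2) F)
    (hA : A ∉ Subgroup.center (SpecialLinearGroup (Fin 2) F))
    (hA2 : A * A ∈ Subgroup.center (SpecialLinearGroup (Fin 2) F))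
    (hB : B ∉ Subgroup.center (SpecialLinearGroup (Fin 2) F))
    (hB2 : B * B ∈ Subgroup.center (SpecialLinearGroup (Fin 2) F))
    (hAB : A * B ∉ Subgroup.center (SpecialLinearGroup (Fin 2) F))
    (hAB2 : A * B * (A * B) ∈ Subgroup.center (SpecialLinearGroup (Fin 2) F)) :
    (B : Matrix (Fin 2) (Fin 2) F) * (A : Matrix (Fin 2) (Fin 2) F) =
      -((A : Matrix (Fin 2) (Fin 2) F) * (B : Matrix (Fin 2) (Fin 2) F)) := by
  have h1 := sq_eq_neg_one A hA hA2
  have h2 := sq_eq_neg_one B hB hB2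
  have h3 := sq_eq_neg_one (A * B) hAB hAB2
  have h4 : ((A * B : SpecialLinearGroup (Fin 2) F) : Matrix (Fin 2) (Fin 2) F) =
      (A : Matrix (Fin 2) (Fin 2) F) * (B : Matrix (Fin 2) (Fin 2) F) := rfl
  rw [h4] at h3
  set a := (A : Matrix (Fin 2) (Fin 2) F)
  set b := (B : Matrix (Fin 2) (Fin 2) F)
  have h5 : a * (a * b * (a * b)) * b = a * a * (b * a) * (b * b) := by noncomm_ring
  rw [h3, h1, h2] at h5
  have h6 : a * (-1) * b = -(a * b) := by noncomm_ring
  have h7 : (-1 : Matrix (Fin 2) (Fin 2) F) * (b * a) * (-1) = b * a := by noncomm_ring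
  rw [h6, h7] at h5
  exact h5.symm

/-- No elementary abelian subgroups of order eight in `PSL(2, F)`, `char F ≠ 2`. -/
theorem card_ne_eight (h2 : (2 : F) ≠ 0) (E : Subgroup (ProjectiveSpecialLinearGroup (Fin 2) F))
    (hE : IsElementaryAbelian 2 E) : Nat.card E ≠ 8 := by
  intro h8
  have hn : (E : Set (ProjectiveSpecialLinearGroup (Fin 2) F)).ncard = 8 := by
    rw [← h8]; exact Nat.card_coe_set_eq _
  have hex : ∀ S : Finset (ProjectiveSpecialLinearGroup (Fin 2) F), S.card ≤ 4 →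
      ∃ x ∈ E, x ∉ S := by
    intro S hS
    have h3 : (S : Set (ProjectiveSpecialLinearGroup (Fin 2) F)).ncard <
        (E : Set (ProjectiveSpecialLinearGroup (Fin 2) F)).ncard := by
      rw [hn, Set.ncard_coe_finset]; omega
    obtain ⟨x, hx, hx2⟩ := Set.exists_mem_notMem_of_ncard_lt_ncard h3 S.finite_toSet
    exact ⟨x, hx, by simpa using hx2⟩
  classical
  obtain ⟨a, ha, ha1⟩ := hex {1} (by simp)
  obtain ⟨b, hb, hb1⟩ := hex {1, a} (le_trans Finset.card_le_two (by norm_num))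
  obtain ⟨c, hc, hc1⟩ := hex {1, a, b, a * b} Finset.card_le_four
  simp only [Finset.mem_singleton, Finset.mem_insert, not_or] at ha1 hb1 hc1
  have hcomm : ∀ x ∈ E, ∀ y ∈ E, x * y = y * x := by
    intro x hx y hy
    have := hE.1.is_comm.comm ⟨x, hx⟩ ⟨y, hy⟩
    exact congrArg Subtype.val this
  have hsq : ∀ x ∈ E, x * x = 1 := by
    intro x hx
    have := hE.2 x hx
    rwa [pow_two] at this
  have hinv : ∀ x ∈ E, ∀ y, x * y = 1 → y = x := by
    intro x hx y hxy
    exact (mul_left_cancel ((hsq x hx).trans hxy.symm)).symm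
  obtain ⟨A, rfl⟩ := QuotientGroup.mk_surjective a
  obtain ⟨B, rfl⟩ := QuotientGroup.mk_surjective b
  obtain ⟨C, rfl⟩ := QuotientGroup.mk_surjective c
  have key : ∀ X : SpecialLinearGroup (Fin 2) F,
      ((X : ProjectiveSpecialLinearGroup (Fin 2) F) ∈ E) →
      ((X : ProjectiveSpecialLinearGroup (Fin 2) F) ≠ 1) →
      X ∉ Subgroup.center (SpecialLinearGroup (Fin 2) F) ∧
        X * X ∈ Subgroup.center (SpecialLinearGroup (Fin 2) F) := by
    intro X hX hX1
    refine ⟨fun h => hX1 ((QuotientGroup.eq_one_iff X).2 h), ?_⟩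
    exact (QuotientGroup.eq_one_iff (X * X)).1 (hsq _ hX)
  have kA := key A ha ha1
  have kB := key B hb hb1.1
  have kC := key C hc hc1.1
  have kAB := key (A * B) (E.mul_mem ha hb) (fun h => hb1.2 (hinv _ ha _ h))
  have kAC := key (A * C) (E.mul_mem ha hc) (fun h => hc1.2.1 (hinv _ ha _ h))
  have kBC := key (B * C) (E.mul_mem hb hc) (fun h => hc1.2.2.1 (hinv _ hb _ h))
  have kABC := key (A * B * C) (E.mul_mem (E.mul_mem ha hb) hc)
    (fun h => hc1.2.2.2 (hinv _ (E.mul_mem ha hb) _ h))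
  have h3 := anticomm A C kA.1 kA.2 kC.1 kC.2 kAC.1 kAC.2
  have h4 := anticomm B C kB.1 kB.2 kC.1 kC.2 kBC.1 kBC.2
  have h5 := anticomm (A * B) C kAB.1 kAB.2 kC.1 kC.2 kABC.1 kABC.2
  have h6 : ((A * B : SpecialLinearGroup (Fin 2) F) : Matrix (Fin 2) (Fin 2) F) =
      (A : Matrix (Fin 2) (Fin 2) F) * (B : Matrix (Fin 2) (Fin 2) F) := rfl
  rw [h6] at h5
  have h7 : (C : Matrix (Fin 2) (Fin 2) F) * ((A : Matrix (Fin 2) (Fin 2) F) * (B : Matrix (Fin 2) (Fin 2) F)) =
      (A : Matrix (Fin 2) (Fin 2) F) * (B : Matrix (Fin 2) (Fin 2) F) * (C : Matrix (Fin 2) (Fin 2) F) := by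
    rw [← mul_assoc, h3, neg_mul, mul_assoc, h4, mul_neg, neg_neg, mul_assoc]
  rw [h7] at h5
  have h8' : ((A * B * C : SpecialLinearGroup (Fin 2) F) : Matrix (Fin 2) (Fin 2) F) =
      (A : Matrix (Fin 2) (Fin 2) F) * (B : Matrix (Fin 2) (Fin 2) F) * (C : Matrix (Fin 2) (Fin 2) F) := rfl
  rw [← h8'] at h5
  have h9 : (2 : F) • ((A * B * C : SpecialLinearGroup (Fin 2) F) : Matrix (Fin 2) (Fin 2) F) = 0 := by
    rw [two_smul]
    nth_rewrite 2 [h5]
    exact add_neg_cancel _
  have h10 : ((A * B * C : SpecialLinearGroup (Fin 2) F) : Matrix (Fin 2) (Fin 2) F) = 0 := by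
    rcases smul_eq_zero.1 h9 with h | h
    · exact absurd h h2
    · exact h
  have h11 := (A * B * C).2
  rw [h10] at h11
  simp at h11

end PSLTwo

open Cfsg.Agent.SporadicStructure.M11InvPerms in
theorem squareDodecad_mem : Spor.squareDodecad ∈ dodecads := by
  have h : Spor.squareDodecad = dd := by
    unfold Spor.squareDodecad dd
    rw [qrWord_eq]
  rw [h]
  exact dd_mem

open Cfsg.Agent.SporadicStructure.M11InvPerms in
theorem zero_mem_squareDodecad : (some 0 : GolayPt) ∈ Spor.squareDodecad := by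
  have h : Spor.squareDodecad = dd := by
    unfold Spor.squareDodecad dd
    rw [qrWord_eq]
  rw [h]
  decide +kernel

/-- The order of `Spor.M11`. -/
theorem card_M11 : Nat.card Spor.M11 = 7920 := by
  rw [← Cfsg.Agent.S0387.result _ squareDodecad_mem _
    zero_mem_squareDodecad]
  apply Nat.card_congr
  refine
    { toFun := fun g => ⟨⟨g.1, (Subgroup.mem_inf.1 (Subgroup.mem_inf.1 g.2).1).1⟩, Subgroup.mem_inf.2
        ⟨(Subgroup.mem_inf.1 (Subgroup.mem_inf.1 g.2).1).2, (Subgroup.mem_inf.1 g.2).2⟩⟩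
      invFun := fun x => ⟨((x : Cfsg.M24) : Equiv.Perm GolayPt),
        Subgroup.mem_inf.2 ⟨Subgroup.mem_inf.2 ⟨x.1.2, (Subgroup.mem_inf.1 x.2).1⟩, (Subgroup.mem_inf.1 x.2).2⟩⟩
      left_inv := fun _ => rfl
      right_inv := fun _ => rfl }

/-- **Case [HN] of S1763: from S1758 to the Higman–Sims group.** -/
theorem isoHS {J : Type*} [Group J] [Finite J] [IsSimpleGroup J] (hJ : ¬ IsMulCommutative J) (z : J)
    (hz : orderOf z = 2) (hcard : Nat.card (Subgroup.centralizer ({z} : Set J)) = 7680)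
    (hF : Nat.card (generalizedFittingSubgroup (Subgroup.centralizer ({z} : Set J))) = 64)
    (E : Subgroup J) (hE : IsElementaryAbelian 2 E) (hE8 : Nat.card E = 8)
    (h : Cfsg.IsExtraspecial 2 ↥(Cfsg.generalizedFittingSubgroup ↥(Subgroup.centralizer ({z} : Set J))) ∨
      (QuotientGroup.mk' (Cfsg.oddCore J) z ∈ Subgroup.center (J ⧸ Cfsg.oddCore J)) ∨
      (∃ (F : Type) (_ : Field F) (_ : Fintype F),
        ((∃ n : ℕ, Fintype.card F = 2 ^ n + 1) ∨ (∃ n : ℕ, Fintype.card F + 1 = 2 ^ n)) ∧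
        Nonempty (J ≃* Matrix.ProjectiveSpecialLinearGroup (Fin 2) F)) ∨
      Cfsg.Spor.IsoM11 J ∨
      (∃ (F : Type) (_ : Field F) (_ : Fintype F), Fintype.card F = 3 ∧
        Nonempty (J ≃* Matrix.ProjectiveSpecialLinearGroup (Fin 3) F)) ∨
      (∃ (F : Type) (_ : Field F) (_ : Fintype F), Fintype.card F = 9 ∧ Nonempty (J ≃* Cfsg.PSU 3 F 3)) ∨
      Cfsg.Spor.IsoHS J) : Cfsg.Spor.IsoHS J := by
  have : Fact (Nat.Prime 2) := ⟨Nat.prime_two⟩
  have hdvd : 7680 ∣ Nat.card J := by rw [← hcard]; exact Subgroup.card_subgroup_dvd_card _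
  rcases h with h | h | ⟨F, _, _, hFc, ⟨e⟩⟩ | ⟨⟨e⟩⟩ | ⟨F, _, _, hFc, ⟨e⟩⟩ | ⟨F, _, _, hFc, ⟨e⟩⟩ | h
  · exfalso
    obtain ⟨n, -, hn⟩ := Cfsg.Agent.S0095.result h
    rw [hF] at hn
    have h6 : (64 : ℕ) = 2 ^ 6 := by norm_num
    rw [h6] at hn
    have := Nat.pow_right_injective le_rfl hn
    omega
  · exfalso
    have hodd : oddCore J = ⊥ := by
      refine (sSup_eq_bot).2 ?_
      rintro N ⟨hN, hc⟩
      rcases hN.eq_bot_or_eq_top with h | h
      · exact h
      · exfalso
        subst h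
        rw [Subgroup.card_top] at hc
        have := Nat.Coprime.eq_one_of_dvd (Nat.Coprime.symm hc) (dvd_trans (by norm_num) hdvd)
        omega
    have hzc : z ∈ Subgroup.center J := by
      rw [Subgroup.mem_center_iff] at h ⊢
      intro g
      have h1 := h (QuotientGroup.mk' (oddCore J) g)
      rw [← map_mul, ← map_mul] at h1
      have h2 := (QuotientGroup.eq (s := oddCore J)).1 h1
      rw [hodd, Subgroup.mem_bot] at h2
      rwa [inv_mul_eq_one] at h2
    rcases (inferInstance : (Subgroup.center J).Normal).eq_bot_or_eq_top with h1 | h1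
    · rw [h1, Subgroup.mem_bot] at hzc
      rw [hzc, orderOf_one] at hz
      omega
    · apply hJ
      refine ⟨⟨fun a b => ?_⟩⟩
      have : b ∈ Subgroup.center J := by rw [h1]; trivial
      exact (Subgroup.mem_center_iff.1 this a)
  · exfalso
    have h2 : (2 : F) ≠ 0 := by
      intro h2
      have hev : 2 ∣ Fintype.card F := by
        have : CharP F 2 := CharTwo.of_one_ne_zero_of_two_eq_zero one_ne_zero h2
        obtain ⟨n, -, hn⟩ := FiniteField.card F 2
        rw [hn]
        exact dvd_pow_self 2 n.ne_zero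
      have h3 : Fintype.card F = 2 := by
        rcases hFc with ⟨n, hn⟩ | ⟨n, hn⟩
        · rcases Nat.eq_zero_or_pos n with h0 | h0
          · rw [hn, h0]; norm_num
          · exfalso
            have : 2 ∣ 2 ^ n := dvd_pow_self 2 h0.ne'
            omega
        · exfalso
          rcases Nat.eq_zero_or_pos n with h0 | h0
          · rw [h0] at hn
            have := Fintype.card_pos (α := F)
            omega
          · have : 2 ∣ 2 ^ n := dvd_pow_self 2 h0.ne'
            omega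
      have h4 := Cfsg.Agent.S0243.result h3 2 le_rfl
      rw [Fin.prod_univ_two] at h4
      norm_num at h4
      rw [Nat.card_congr e.toEquiv] at hdvd
      have := Nat.le_of_dvd (by omega) hdvd
      omega
    refine card_ne_eight h2 (E.map e.toMonoidHom) ?_ ?_
    · constructor
      · constructor
        constructor
        rintro ⟨_, ⟨x, hx, rfl⟩⟩ ⟨_, ⟨y, hy, rfl⟩⟩
        apply Subtype.ext
        have h3 := hE.1.is_comm.comm ⟨x, hx⟩ ⟨y, hy⟩
        have h4 : x * y = y * x := congrArg Subtype.val h3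
        show e.toMonoidHom x * e.toMonoidHom y = e.toMonoidHom y * e.toMonoidHom x
        rw [← map_mul, h4, map_mul]
      · rintro _ ⟨x, hx, rfl⟩
        rw [← map_pow, hE.2 x hx, map_one]
    · rw [← hE8]
      exact (Nat.card_congr (E.equivMapOfInjective e.toMonoidHom e.injective).toEquiv).symm
  · exfalso
    rw [Nat.card_congr e.toEquiv, card_M11] at hdvd
    norm_num at hdvd
  · exfalso
    rw [Nat.card_congr e.toEquiv, SmallSimple.PSLFacts.card_psl_three_three hFc] at hdvd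
    norm_num at hdvd
  · exfalso
    rw [Nat.card_congr e.toEquiv, SmallSimple.PSLFacts.card_psu_three_three hFc] at hdvd
    norm_num at hdvd
  · exact h

end Cfsg.Agent.HNType.Alt
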