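import Cfsg.Agent.HNType.Quot
import Cfsg.Prelude.Def_SporadicB

/-!
# From `J ≤ C_G(t) / ⟨t⟩` to a non-split double cover in `C_G(t)` (helper344)
-/

set_option autoImplicit false

namespace Cfsg.Agent.HNType.Cover

open Cfsg.Agent.HNType.Quot

variable {G : Type*} [Group G]

theorem cover [Finite G] {t : G} (ht : t * t = 1) (ht1 : t ≠ 1) (J : Subgroup (Gam t)) (hn : J.Normal)
    (hJ : J.index = 2) (hcent : ∀ x, (∀ y ∈ J, x * y = y * x) → x = 1) {K : Type*} [Group K]
    (e : Nonempty (J ≃* K))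
    (hcomm : ∀ L : Subgroup (Y t), L ≤ J.comap (mk t) →
      (∀ x ∈ J.comap (mk t), ∀ y ∈ J.comap (mk t), x * y * x⁻¹ * y⁻¹ ∈ L) → tY t ∈ L) :
    (J.comap (mk t)).Normal ∧ (J.comap (mk t)).index = 2 ∧
      Subgroup.centralizer ((J.comap (mk t) : Subgroup (Y t)) : Set (Y t)) ≤ J.comap (mk t) ∧
      Cfsg.IsNonsplitDoubleCover ↥(J.comap (mk t)) K := by
  classical
  set M := J.comap (mk t) with hM
  have hZM : ∀ x : Y t, x ∈ Zt t → x ∈ M := by
    intro x hx
    show mk t x ∈ J
    rw [mk_eq_one.2 hx]; exact one_mem _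
  have hc : ∀ c : Y t, (∀ m ∈ M, c * m = m * c) → c ∈ Zt t := by
    intro c hc
    rw [← mk_eq_one]
    apply hcent
    intro y hy
    obtain ⟨m, rfl⟩ := mk_surjective t y
    rw [← map_mul, ← map_mul, hc m hy]
  have htM : tY t ∈ M := hZM _ (Subgroup.mem_zpowers _)
  have htne : (⟨tY t, htM⟩ : M) ≠ 1 := by
    intro h
    apply ht1
    exact congrArg (fun x : M => ((x : Y t) : G)) h
  have hcen : ∀ x : M, x ∈ Subgroup.center M ↔ (x : Y t) ∈ Zt t := by
    intro x
    constructor
    · intro hx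
      apply hc
      intro m hm
      exact (congrArg Subtype.val (Subgroup.mem_center_iff.1 hx ⟨m, hm⟩)).symm
    · intro hx
      rw [Subgroup.mem_center_iff]
      intro g
      apply Subtype.ext
      rcases (mem_Zt ht).1 hx with h | h
      · have : (x : Y t) = 1 := Subtype.ext h
        show (g : Y t) * x = x * g
        rw [this]; group
      · have : (x : Y t) = tY t := Subtype.ext h
        show (g : Y t) * x = x * g
        rw [this]; exact comm_tY _
  have hxt : ∀ x : M, x ∈ Subgroup.center M → x = 1 ∨ x = ⟨tY t, htM⟩ := by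
    intro x hx
    rcases (mem_Zt ht).1 ((hcen x).1 hx) with h | h
    · left; exact Subtype.ext (Subtype.ext h)
    · right; exact Subtype.ext (Subtype.ext h)
  have htcen : (⟨tY t, htM⟩ : M) ∈ Subgroup.center M := (hcen _).2 (Subgroup.mem_zpowers _)
  have hcard : Nat.card (Subgroup.center M) = 2 := by
    rw [Nat.card_eq_two_iff]
    refine ⟨1, ⟨_, htcen⟩, ?_, ?_⟩
    · intro h
      exact htne (congrArg (fun x : Subgroup.center M => (x : M)) h).symm
    · ext x
      simp only [Set.mem_insert_iff, Set.mem_singleton_iff, Set.mem_univ, iff_true]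
      rcases hxt x x.2 with h | h
      · left; exact Subtype.ext h
      · right; exact Subtype.ext h
  refine ⟨hn.comap _, ?_, ?_, hcard, ?_, ?_⟩
  · rw [hM, Subgroup.index_comap_of_surjective _ (mk_surjective t), hJ]
  · intro c hcc
    apply hZM
    apply hc
    intro m hm
    exact (Subgroup.mem_centralizer_iff.1 hcc m hm).symm
  · obtain ⟨e⟩ := e
    let f : M →* J := ((mk t).comp M.subtype).codRestrict J (fun m => m.2)
    have hf : Function.Surjective f := by
      rintro ⟨y, hy⟩
      obtain ⟨m, rfl⟩ := mk_surjective t y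
      exact ⟨⟨m, hy⟩, rfl⟩
    have hk : f.ker = Subgroup.center M := by
      ext x
      rw [MonoidHom.mem_ker, hcen, ← mk_eq_one]
      constructor
      · intro h; exact congrArg Subtype.val h
      · intro h; exact Subtype.ext h
    exact ⟨((QuotientGroup.quotientMulEquivOfEq hk.symm).trans
      (QuotientGroup.quotientKerEquivOfSurjective f hf)).trans e⟩
  · intro L hL
    have h2 : L.index = 2 := by
      rw [← hcard]
      exact hL.index_eq_card
    have hmul : ∀ a b : M, (a * b ∈ L ↔ (a ∈ L ↔ b ∈ L)) := fun a b => Subgroup.mul_mem_iff_of_index_two h2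
    have h3 : tY t ∈ L.map M.subtype := by
      apply hcomm
      · rintro _ ⟨x, -, rfl⟩; exact x.2
      · intro x hx y hy
        refine ⟨⟨x, hx⟩ * ⟨y, hy⟩ * ⟨x, hx⟩⁻¹ * ⟨y, hy⟩⁻¹, ?_, rfl⟩
        show _ ∈ L
        rw [hmul, hmul, hmul, inv_mem_iff, inv_mem_iff]
        tauto
    obtain ⟨x, hx, hxt'⟩ := h3
    have h4 : x = ⟨tY t, htM⟩ := Subtype.ext hxt'
    have h5 : x ∈ Subgroup.center M := by rw [h4]; exact htcen
    have h6 := hL.disjoint
    have h7 : x ∈ (⊥ : Subgroup M) := h6.le_bot ⟨h5, hx⟩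
    rw [Subgroup.mem_bot, h4] at h7
    exact htne h7

end Cfsg.Agent.HNType.Cover
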