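import Cfsg.Agent.LargeExtra.KillNine.PairConj
import Cfsg.Agent.LargeExtra.KillNine.EGroup

/-!
# The case `HN` of S1763: interfaces (helper344)

`HNFacts p N σ v w`: everything used of the configuration `confHN` (`N = (A₅ × A₅).2`, `σ` = the element `s` of
`N.2`, `v` a singular vector outside `ã^H`, `w` with `q w = 1`; `T = ⟨v, w⟩`, `S = T^⊥`; `K = N_v ≅ S₅`).

Plan:
* (0) `Facts.lean` (helper344): `IsConf p φ confHN` + fusion ⇒ `HNFacts p N σ v w`.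
* (1) `Split.lean`: `HNFacts`, `G` without subgroup of index 2 ⇒ `σ ∉ p.H`.
* (2) `Local.lean`: `HNFacts`, `σ ∉ p.H` ⇒ `t ∈ Q`, `g ∈ C_G(t)` and `JData` for `C_G(t) / ⟨t⟩`.
* (3) `Simple.lean`: `JData` ⇒ a normal subgroup `J` of index 2, simple, isomorphic to `HS`, `C(J) = 1`.
* (4) `Main.lean` (helper344): non-split double cover, S1674.
-/

set_option autoImplicit false

namespace Cfsg.Agent.HNType.Iface

open Cfsg.Agent.Co2Type.Quad Cfsg.Agent.LargeExtra.Base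

/-- `x ∈ S = ⟨v, w⟩^⊥` -/
def InS {G : Type*} [Group G] {Q : Subgroup G} {z : G} (h : Large Q z) (v w x : h.V) : Prop :=
  h.b v x = 0 ∧ h.b w x = 0

/-- What is used of the configuration `HN`. -/
structure HNFacts {G : Type*} [Group G] {Q A : Subgroup G} {z a : G} (p : Pair Q z A a)
    (N : Subgroup (p.lz.V ≃ₗ[ZMod 2] p.lz.V)) (σ : p.lz.V ≃ₗ[ZMod 2] p.lz.V) (v w : p.lz.V) : Prop where
  card_V : Nat.card p.lz.V = 256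
  q_v : p.lz.q v = 0
  q_w : p.lz.q w = 1
  b_vw : p.lz.b v w = 0
  v_ne : v ≠ 0
  v_mem : v ∈ p.D
  va_mem : InS p.lz v w p.va
  /-- `D̃` is not contained in `S` -/
  exists_D : ∃ d ∈ p.D, p.lz.b w d = 1
  exists_X : ∃ x ∈ p.X, x v = v + p.va
  N_le : N ≤ p.H
  X_le : p.X ≤ N
  H_le : ∀ f ∈ p.H, f ∈ N ∨ σ * f ∈ N
  sigma_def : ∀ x, σ x = x + (p.lz.b v x + p.lz.b w x) • v + (p.lz.b v x) • w
  sigma_not : σ ∉ N
  /-- `K = N_v` acts on `T = ⟨v, w⟩` -/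
  K_w : ∀ f ∈ N, f v = v → f w = w ∨ f w = w + v
  K_small : ∀ f ∈ N, f v = v → ∀ U : Submodule (ZMod 2) p.lz.V, 32 ≤ Nat.card U →
    (∀ x ∈ U, InS p.lz v w x ∧ (f x = x ∨ f x = x + v)) → f = 1
  K_nc : ∀ x, InS p.lz v w x → x ≠ 0 → x ≠ v → x ≠ w → x ≠ w + v →
    ∃ f ∈ N, f v = v ∧ p.lz.b x (f x) = 1
  /-- `v` and `ã^K` span `S` -/
  K_span : ∀ U : Submodule (ZMod 2) p.lz.V, v ∈ U → p.va ∈ U → (∀ f ∈ N, f v = v → ∀ x ∈ U, f x ∈ U) →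
    ∀ x, InS p.lz v w x → x ∈ U
  /-- the normal closure of the element `x0` of `X` is `K` -/
  K_gen : ∃ x0 ∈ p.X, x0 v = v ∧ x0 w = w + v ∧ ∀ I : Subgroup (p.lz.V ≃ₗ[ZMod 2] p.lz.V),
    (∀ f ∈ N, f v = v → ∀ i ∈ I, f * i * f⁻¹ ∈ I) → x0 ∈ I → ∀ f ∈ N, f v = v → f ∈ I
  K_card : ∃ K : Subgroup (p.lz.V ≃ₗ[ZMod 2] p.lz.V), (∀ f, f ∈ K ↔ (f ∈ N ∧ f v = v)) ∧
    Nat.card K = 120
  /-- `O₂(K) = 1` -/
  K_o2 : ∀ I : Subgroup (p.lz.V ≃ₗ[ZMod 2] p.lz.V), IsPGroup 2 I → (∀ i ∈ I, i ∈ N ∧ i v = v) →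
    (∀ f ∈ N, f v = v → ∀ i ∈ I, f * i * f⁻¹ ∈ I) → I = ⊥
  /-- `z^G ∩ Q` lies over `ã^N` -/
  fus : ∀ x : Q, IsConj z (x : G) → p.lz.pr x ≠ 0 → ∃ f ∈ N, p.lz.pr x = f p.va
  v_not : ∀ f ∈ N, f p.va ≠ v

/-- The input of part (3): a finite group `Γ` (`= C_G(t) / ⟨t⟩`), `Large P z` with `|P| = 2^7`, `P0` of order
`2^6` with centre `⟨u⟩` of order 4, `P0` is the smallest `C(z)`-invariant subgroup of `P` containing `z, a`. -/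
structure JData {Γ : Type*} [Group Γ] (P P0 : Subgroup Γ) (z a u g : Γ) : Prop where
  lz : Large P z
  le : P0 ≤ P
  card_P : Nat.card P = 128
  card_P0 : Nat.card P0 = 64
  card_C : Nat.card (Subgroup.centralizer ({z} : Set Γ)) = 15360
  norm : ∀ c, c * z = z * c → ∀ x ∈ P0, c * x * c⁻¹ ∈ P0
  a_mem : a ∈ P0
  a_ne : a ≠ z
  g_z : g * z * g⁻¹ = a
  g_a : g * a * g⁻¹ = a * z
  g_az : g * (a * z) * g⁻¹ = z
  span : ∀ B : Subgroup Γ, B ≤ P → z ∈ B → a ∈ B → (∀ c, c * z = z * c → ∀ x ∈ B, c * x * c⁻¹ ∈ B) →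
    P0 ≤ B
  cen : ∀ c, c * z = z * c → (∀ x ∈ P0, c * x = x * c) → c ∈ P0
  u_mem : u ∈ P0
  u_sq : u * u = z
  u_cen : ∀ x ∈ P0, u * x = x * u
  cen_u : ∀ x ∈ P0, (∀ y ∈ P0, x * y = y * x) → x ∈ Subgroup.zpowers u
  o2 : ∀ I : Subgroup Γ, IsPGroup 2 I → (∀ i ∈ I, i * z = z * i) →
    (∀ c, c * z = z * c → ∀ i ∈ I, c * i * c⁻¹ ∈ I) → I ≤ P
  nc : ∀ x ∈ P0, x ∉ Subgroup.zpowers u → ∃ c, c * z = z * c ∧ x * (c * x * c⁻¹) ≠ (c * x * c⁻¹) * x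
  /-- a normal subgroup `I` of `C(z)` containing `g P0 g⁻¹ ∩ C(z)` covers `C(z) / P` -/
  cov : ∀ I : Subgroup Γ, (∀ i ∈ I, i * z = z * i) → (∀ c, c * z = z * c → ∀ i ∈ I, c * i * c⁻¹ ∈ I) →
    (∀ x ∈ P0, (g * x * g⁻¹) * z = z * (g * x * g⁻¹) → g * x * g⁻¹ ∈ I) →
    ∀ c, c * z = z * c → ∃ i ∈ I, ∃ x ∈ P, c = i * x

end Cfsg.Agent.HNType.Iface
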