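import Cfsg.Agent.HNType.Tables

/-!
# The case `HN` of S1763: further tables (helper344)
-/

set_option autoImplicit false

namespace Cfsg.Agent.HNType.TablesB

open Cfsg.Agent.LargeExtra.Nine Cfsg.Agent.LargeExtra.KillNine.Codes Cfsg.Agent.HNType.Tables

/-- the polar form on codes -/
def bN (n m : ℕ) : Bool :=
  (n.testBit 0 && m.testBit 4) ^^ (n.testBit 4 && m.testBit 0) ^^
  (n.testBit 1 && m.testBit 5) ^^ (n.testBit 5 && m.testBit 1) ^^
  (n.testBit 2 && m.testBit 6) ^^ (n.testBit 6 && m.testBit 2) ^^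
  (n.testBit 3 && m.testBit 7) ^^ (n.testBit 7 && m.testBit 3)

theorem ite_mul_ite (a b : Bool) : ((if a = true then 1 else 0 : ZMod 2) * (if b = true then 1 else 0)) =
    if (a && b) = true then 1 else 0 := by
  revert a b; decide

theorem ite_add_ite (a b : Bool) : ((if a = true then 1 else 0 : ZMod 2) + (if b = true then 1 else 0)) =
    if (a ^^ b) = true then 1 else 0 := by
  revert a b; decide

theorem bs_vec (n m : ℕ) : bs (vec n) (vec m) = if bN n m = true then 1 else 0 := by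
  have h : bs (vec n) (vec m) =
    (if n.testBit 0 = true then 1 else 0) * (if m.testBit 4 = true then 1 else 0) +
    (if n.testBit 4 = true then 1 else 0) * (if m.testBit 0 = true then 1 else 0) +
    (if n.testBit 1 = true then 1 else 0) * (if m.testBit 5 = true then 1 else 0) +
    (if n.testBit 5 = true then 1 else 0) * (if m.testBit 1 = true then 1 else 0) +
    (if n.testBit 2 = true then 1 else 0) * (if m.testBit 6 = true then 1 else 0) +
    (if n.testBit 6 = true then 1 else 0) * (if m.testBit 2 = true then 1 else 0) +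
    (if n.testBit 3 = true then 1 else 0) * (if m.testBit 7 = true then 1 else 0) +
    (if n.testBit 7 = true then 1 else 0) * (if m.testBit 3 = true then 1 else 0) := rfl
  rw [h]
  simp only [ite_mul_ite, ite_add_ite]
  rfl

/-- the codes of `S` -/
def SL : List ℕ := [
    0, 1, 2, 3, 12, 13, 14, 15, 20, 21, 22, 23, 24, 25, 26, 27, 68, 69, 70, 71,
    72, 73, 74, 75, 80, 81, 82, 83, 92, 93, 94, 95, 128, 129, 130, 131, 140, 141, 142, 143,
    148, 149, 150, 151, 152, 153, 154, 155, 196, 197, 198, 199, 200, 201, 202, 203, 208, 209, 210, 211,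
    220, 221, 222, 223]

theorem c_SL : ∀ n < 256, n ∈ SL ↔ (bN 2 n = false ∧ bN 197 n = false) := by decide +kernel

theorem c_small : ∀ i < 120, i = 0 ∨
    (SL.filter fun n => ap (K.getD i []) n == n || ap (K.getD i []) n == n ^^^ 2).length ≤ 16 := by
  decide +kernel

theorem c_SL_nodup : SL.Nodup := by decide +kernel

theorem c_SL_lt : ∀ n ∈ SL, n < 256 := by decide +kernel

theorem c_nc : ∀ n ∈ SL, (n = 0 ∨ n = 2 ∨ n = 197 ∨ n = 199) ∨
    ∃ i < 120, bN n (ap (K.getD i []) n) = true := by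
  decide +kernel

/-- a combination of six vectors spanning `S` -/
def comb (c : ℕ) : ℕ :=
  (if c.testBit 0 then 2 else 0) ^^^ (if c.testBit 1 then 1 else 0) ^^^
  (if c.testBit 2 then ap (K.getD 3 []) 1 else 0) ^^^ (if c.testBit 3 then ap (K.getD 4 []) 1 else 0) ^^^
  (if c.testBit 4 then ap (K.getD 12 []) 1 else 0) ^^^ (if c.testBit 5 then ap (K.getD 14 []) 1 else 0)

theorem c_comb : ∀ n ∈ SL, ∃ c < 64, n = comb c := by decide +kernel

theorem c_sigma : ∀ n < 256, ap sL n =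
    n ^^^ (if (bN 2 n ^^ bN 197 n) then 2 else 0) ^^^ (if bN 2 n then 197 else 0) := by
  decide +kernel

theorem c_lt : ∀ i < 120, (K.getD i []).length = 8 ∧ ∀ k < 8, (K.getD i []).getD k 0 < 256 ∧
    ap (K.getD i []) (2 ^ k) = (K.getD i []).getD k 0 := by
  decide +kernel

theorem c_gens_pts : ∀ g ∈ gensN, ∀ s ∈ pts, ∃ s' ∈ pts, s'.1 = ap g s.1 := by decide +kernel

theorem c_pts2 : ∀ s ∈ pts, s.1 ≠ 2 ∧ s.1 < 256 := by decide +kernel

/-- the words of `X` -/
def xw (c : ℕ) : List (List ℕ) :=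
  (if c.testBit 0 then [gensN.getD 0 []] else []) ++ (if c.testBit 1 then [gensN.getD 1 []] else []) ++
  (if c.testBit 2 then [gensN.getD 2 []] else [])

theorem c_xw : ∀ c < 8, ∀ c' < 8, c = c' ∨ ∃ k < 8, ap (prodL (xw c)) (2 ^ k) < 256 ∧
    ap (prodL (xw c')) (2 ^ k) < 256 ∧ ap (prodL (xw c)) (2 ^ k) ≠ ap (prodL (xw c')) (2 ^ k) := by
  decide +kernel

theorem c_xw_mem : ∀ c < 8, ∀ L ∈ xw c, L ∈ confHN.X := by decide +kernel

/-- for `i`: codes of `k`, `k⁻¹` with `f k f k⁻¹` not a 2-element -/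
def o2tab : List (ℕ × ℕ) := [
    (0, 0), (3, 3), (3, 3), (1, 1), (1, 1), (4, 4), (0, 0), (0, 0), (0, 0), (1, 1),
    (0, 0), (0, 0), (0, 0), (0, 0), (0, 0), (1, 1), (0, 0), (1, 1), (1, 1), (1, 1),
    (1, 1), (1, 1), (1, 1), (1, 1), (1, 1), (0, 0), (1, 1), (1, 1), (2, 2), (1, 1),
    (1, 1), (2, 2), (2, 2), (1, 1), (1, 1), (0, 0), (0, 0), (0, 0), (1, 1), (0, 0),
    (0, 0), (2, 2), (0, 0), (0, 0), (2, 2), (2, 2), (0, 0), (0, 0), (0, 0), (0, 0),
    (0, 0), (0, 0), (0, 0), (0, 0), (0, 0), (0, 0), (4, 4), (0, 0), (0, 0), (1, 1),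
    (0, 0), (0, 0), (0, 0), (1, 1), (0, 0), (1, 1), (1, 1), (0, 0), (0, 0), (1, 1),
    (1, 1), (3, 3), (0, 0), (1, 1), (0, 0), (0, 0), (0, 0), (1, 1), (3, 3), (2, 2),
    (1, 1), (1, 1), (2, 2), (2, 2), (1, 1), (0, 0), (0, 0), (0, 0), (0, 0), (1, 1),
    (0, 0), (4, 4), (2, 2), (0, 0), (0, 0), (2, 2), (2, 2), (0, 0), (0, 0), (0, 0),
    (0, 0), (1, 1), (0, 0), (0, 0), (0, 0), (0, 0), (0, 0), (0, 0), (1, 1), (0, 0),
    (0, 0), (1, 1), (0, 0), (0, 0), (0, 0), (1, 1), (0, 0), (0, 0), (1, 1), (0, 0)]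

/-- square -/
def sqL (L : List ℕ) : List ℕ := mulL L L

/-- the eighth power of the code of `f k f k⁻¹` -/
def o2L (i : ℕ) : List ℕ :=
  sqL (sqL (sqL (mulL (mulL (mulL (K.getD (o2tab.getD i (0, 0)).2 []) (K.getD i []))
      (K.getD (o2tab.getD i (0, 0)).1 [])) (K.getD i []))))

theorem c_o2 : ∀ i < 120, i = 0 ∨ ((o2tab.getD i (0, 0)).1 < 120 ∧ (o2tab.getD i (0, 0)).2 < 120 ∧
    mulL (K.getD (o2tab.getD i (0, 0)).2 []) (K.getD (o2tab.getD i (0, 0)).1 []) = idL ∧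
    ∃ k < 8, ap (o2L i) (2 ^ k) < 256 ∧ ap (o2L i) (2 ^ k) ≠ 2 ^ k) := by
  decide +kernel

end Cfsg.Agent.HNType.TablesB
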