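import Cfsg.Agent.HNType.Stab
import Cfsg.Agent.HNType.TablesB
import Cfsg.Agent.HNType.Iface

/-!
# The case `HN` of S1763: the facts on `H` used later, without coordinates (helper344)
-/

set_option autoImplicit false

namespace Cfsg.Agent.HNType.Facts

open Cfsg.Agent.Co2Type.Quad Cfsg.Agent.LargeExtra.Base Cfsg.Agent.LargeExtra.Nine
open Cfsg.Agent.LargeExtra.KillNine.Codes Cfsg.Agent.LargeExtra.KillNine.Cert
open Cfsg.Agent.HNType.Tables Cfsg.Agent.HNType.TablesB Cfsg.Agent.HNType.Stab Cfsg.Agent.HNType.Iface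

variable {G : Type*} [Group G] {Q A : Subgroup G} {z a : G}

section

variable {h : Large Q z} {φ : Coord h}

theorem b_eq (x y : h.V) : h.b x y = bs (φ.e x) (φ.e y) := by
  have h1 := h.q_add' x y
  have h2 : h.b x y = h.q (x + y) - h.q x - h.q y := by rw [h1]; ring
  rw [h2, φ.q, φ.q, φ.q, map_add]
  simp only [qs, bs, Pi.add_apply]
  ring

theorem b_code {x y : h.V} {n m : ℕ} (hx : φ.e x = vec n) (hy : φ.e y = vec m) :
    h.b x y = if bN n m = true then 1 else 0 := by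
  rw [b_eq (φ := φ), hx, hy, bs_vec]

theorem inS_iff {x : h.V} {n : ℕ} (hn : n < 256) (hx : φ.e x = vec n) :
    InS h (vv φ) (ww φ) x ↔ n ∈ SL := by
  rw [InS, b_code e_vv hx, b_code e_ww hx, c_SL n hn]
  cases bN 2 n <;> cases bN 197 n <;> simp

theorem exists_code' (x : h.V) : ∃ n < 256, φ.e x = vec n := exists_code (φ.e x)

theorem eq_iff {x y : h.V} {n m : ℕ} (hn : n < 256) (hm : m < 256) (hx : φ.e x = vec n)
    (hy : φ.e y = vec m) : x = y ↔ n = m := by
  constructor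
  · rintro rfl
    exact vec_inj n hn m hm (hx.symm.trans hy)
  · rintro rfl
    exact φ.e.injective (hx.trans hy.symm)

theorem e_add {x y : h.V} {n m : ℕ} (hx : φ.e x = vec n) (hy : φ.e y = vec m) :
    φ.e (x + y) = vec (n ^^^ m) := by
  rw [map_add, hx, hy, vec_xor]

variable (φ) in
/-- the element `s` -/
noncomputable def sg : h.V ≃ₗ[ZMod 2] h.V :=
  LinearEquiv.ofInvolutive
    ((φ.e.symm : F8 →ₗ[ZMod 2] h.V) ∘ₗ lin sL ∘ₗ (φ.e : h.V →ₗ[ZMod 2] F8))
    (by
      intro x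
      show φ.e.symm (lin sL (φ.e (φ.e.symm (lin sL (φ.e x))))) = x
      rw [φ.e.apply_symm_apply, ← lin_mulL, c_ss, lin_id, φ.e.symm_apply_apply])

theorem acts_sg : Acts φ sL (sg φ) := by
  intro x
  show φ.e (φ.e.symm (lin sL (φ.e x))) = _
  rw [φ.e.apply_symm_apply]

theorem sg_sq : sg φ * sg φ = 1 := Acts.ext (φ := φ) (c_ss ▸ Acts.mul acts_sg acts_sg) Acts.one

theorem sg_def (x : h.V) : sg φ x = x + (h.b (vv φ) x + h.b (ww φ) x) • (vv φ) +
    (h.b (vv φ) x) • (ww φ) := by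
  obtain ⟨n, hn, hx⟩ := exists_code' (φ := φ) x
  apply φ.e.injective
  rw [acts_code acts_sg hx, c_sigma n hn, vec_xor, vec_xor, map_add, map_add, hx, map_smul, map_smul,
    e_vv, e_ww, b_code e_vv hx, b_code e_ww hx]
  cases bN 2 n <;> cases bN 197 n <;> simp [vec_zero]
  left; rfl

theorem ww_code' : φ.e (ww φ + vv φ) = vec 199 := e_add e_ww e_vv

theorem eq_of_acts {f : h.V ≃ₗ[ZMod 2] h.V} {L L' : List ℕ}
    (hL : L.length = 8 ∧ ∀ k < 8, L.getD k 0 < 256 ∧ ap L (2 ^ k) = L.getD k 0)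
    (hL' : L'.length = 8 ∧ ∀ k < 8, L'.getD k 0 < 256 ∧ ap L' (2 ^ k) = L'.getD k 0)
    (h1 : Acts φ L f) (h2 : Acts φ L' f) : L = L' := by
  obtain ⟨l1, e1⟩ := hL
  obtain ⟨l2, e2⟩ := hL'
  have key : ∀ k < 8, L.getD k 0 = L'.getD k 0 := by
    intro k hk
    have h3 : φ.e (φ.e.symm (vec (2 ^ k))) = vec (2 ^ k) := φ.e.apply_symm_apply _
    have h4 := acts_code h1 h3
    have h5 := acts_code h2 h3
    rw [h4, (e1 k hk).2, (e2 k hk).2] at h5
    exact vec_inj _ (e1 k hk).1 _ (e2 k hk).1 h5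
  apply List.ext_getElem (by rw [l1, l2])
  intro k hk1 hk2
  have := key k (by rw [l1] at hk1; exact hk1)
  rwa [List.getD_eq_getElem _ _ hk1, List.getD_eq_getElem _ _ hk2] at this

theorem K_idx_inj {f : h.V ≃ₗ[ZMod 2] h.V} {i j : ℕ} (hi : i < 120) (hj : j < 120)
    (h1 : Acts φ (K.getD i []) f) (h2 : Acts φ (K.getD j []) f) : i = j := by
  have h6 := eq_of_acts (c_lt i hi) (c_lt j hj) h1 h2
  have hl : K.length = 120 := by decide +kernel
  rw [List.getD_eq_getElem _ _ (by rw [hl]; exact hi), List.getD_eq_getElem _ _ (by rw [hl]; exact hj)] at h6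
  exact (List.Nodup.getElem_inj_iff c_Kinj).1 h6

theorem card_KK [Finite Q] (hg : Gen φ) : Nat.card (KK φ) = 120 := by
  choose f hf hf' using K_in hg
  have hb : Function.Bijective (fun i : Fin 120 => (⟨f i i.2, hf i i.2⟩ : KK φ)) := by
    constructor
    · intro i j hij
      have h1 : f i i.2 = f j j.2 := congrArg Subtype.val hij
      exact Fin.ext (K_idx_inj i.2 j.2 (hf' i i.2) (h1 ▸ hf' j j.2))
    · rintro ⟨g, hg'⟩
      obtain ⟨i, hi, hi'⟩ := KK_list hg'
      exact ⟨⟨i, hi⟩, Subtype.ext (Acts.ext (hf' i hi) hi')⟩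
  rw [← Nat.card_congr (Equiv.ofBijective _ hb), Nat.card_eq_fintype_card, Fintype.card_fin]

theorem ap_eq_of_eq {L : List ℕ} {f : h.V ≃ₗ[ZMod 2] h.V} (hf : Acts φ L f) {x y : h.V} {n m : ℕ}
    (hx : φ.e x = vec n) (hy : φ.e y = vec m) (hn : ap L n < 256) (hm : m < 256) (h1 : f x = y) :
    ap L n = m := by
  apply vec_inj _ hn _ hm
  rw [← acts_code hf hx, h1, hy]

theorem ap_lt {L : List ℕ} (hL : ∀ k < 8, L.getD k 0 < 256) (n : ℕ) : ap L n < 256 := by
  have key : ∀ k, k < 8 → (if n.testBit k then L.getD k 0 else 0) < 2 ^ 8 := by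
    intro k hk
    split
    · exact hL k hk
    · norm_num
  have h8 : (256 : ℕ) = 2 ^ 8 := by norm_num
  rw [h8]
  unfold ap
  exact Nat.xor_lt_two_pow (Nat.xor_lt_two_pow (Nat.xor_lt_two_pow (Nat.xor_lt_two_pow
    (Nat.xor_lt_two_pow (Nat.xor_lt_two_pow (Nat.xor_lt_two_pow (key 0 (by norm_num))
    (key 1 (by norm_num))) (key 2 (by norm_num))) (key 3 (by norm_num))) (key 4 (by norm_num)))
    (key 5 (by norm_num))) (key 6 (by norm_num))) (key 7 (by norm_num))

theorem K_small [Finite Q] {f : h.V ≃ₗ[ZMod 2] h.V} (hf : f ∈ KK φ)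
    (U : Submodule (ZMod 2) h.V) (hU : 32 ≤ Nat.card U)
    (hU' : ∀ x ∈ U, InS h (vv φ) (ww φ) x ∧ (f x = x ∨ f x = x + vv φ)) : f = 1 := by
  obtain ⟨i, hi, hi'⟩ := KK_list hf
  rcases c_small i hi with rfl | h1
  · exact Acts.ext (φ := φ) hi' (by rw [c_K0]; exact Acts.one)
  · exfalso
    set l := SL.filter fun n => ap (K.getD i []) n == n || ap (K.getD i []) n == n ^^^ 2 with hl
    have h2 : φ.e '' (U : Set h.V) ⊆ {x : F8 | ∃ n ∈ l, x = vec n} := by
      rintro _ ⟨x, hx, rfl⟩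
      obtain ⟨n, hn, hxn⟩ := exists_code' (φ := φ) x
      obtain ⟨h3, h4⟩ := hU' x hx
      rw [inS_iff hn hxn] at h3
      refine ⟨n, ?_, hxn⟩
      rw [hl, List.mem_filter]
      refine ⟨h3, ?_⟩
      have hlt : ap (K.getD i []) n < 256 := ap_lt (fun k hk => ((c_lt i hi).2 k hk).1) n
      rcases h4 with h5 | h5
      · rw [ap_eq_of_eq hi' hxn hxn hlt hn h5]; simp
      · have h6 : n ^^^ 2 < 256 := Nat.xor_lt_two_pow (n := 8) hn (by norm_num)
        rw [ap_eq_of_eq hi' hxn (e_add hxn e_vv) hlt h6 h5]; simp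
    have h3 : (φ.e '' (U : Set h.V)).ncard ≤ l.length := by
      refine (Set.ncard_le_ncard h2 ?_).trans ?_
      · exact Set.toFinite _
      · rw [ncard_codes (fun n hn => c_SL_lt n (List.mem_filter.1 hn).1) (c_SL_nodup.filter _)]
    rw [Set.ncard_image_of_injective _ φ.e.injective] at h3
    have h4 : 32 ≤ (U : Set h.V).ncard := hU
    omega

theorem K_lt {i : ℕ} (hi : i < 120) (n : ℕ) : ap (K.getD i []) n < 256 :=
  ap_lt (fun k hk => ((c_lt i hi).2 k hk).1) n

theorem K_o2 [Finite Q] (hg : Gen φ) (I : Subgroup (h.V ≃ₗ[ZMod 2] h.V)) (hI : IsPGroup 2 I)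
    (hle : I ≤ KK φ) (hn : ∀ f ∈ KK φ, ∀ i ∈ I, f * i * f⁻¹ ∈ I) : I = ⊥ := by
  rw [eq_bot_iff]
  intro f hf
  rw [Subgroup.mem_bot]
  obtain ⟨i, hi, hi'⟩ := KK_list (hle hf)
  rcases c_o2 i hi with rfl | ⟨h1, h2, h3, k, hk, h4, h5⟩
  · exact Acts.ext (φ := φ) hi' (by rw [c_K0]; exact Acts.one)
  · exfalso
    obtain ⟨c, hc, hc'⟩ := K_in hg _ h1
    obtain ⟨c', hcc, hcc'⟩ := K_in hg _ h2
    have e1 : c * c' = 1 := Acts.ext (φ := φ) (h3 ▸ Acts.mul hcc' hc') Acts.one
    have e2 : c' = c⁻¹ := (inv_eq_of_mul_eq_one_right e1).symm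
    have hm : f * (c * (f * c')) ∈ I := by
      rw [e2, ← mul_assoc c]
      exact mul_mem hf (hn c hc f hf)
    -- eighth power
    have h8 : (f * (c * (f * c'))) ^ 8 = 1 := by
      obtain ⟨n, hn'⟩ := hI ⟨_, hm⟩
      have hn2 : (f * (c * (f * c'))) ^ 2 ^ n = 1 := congrArg Subtype.val hn'
      have h7 : orderOf (f * (c * (f * c'))) ∣ 120 := by
        have := orderOf_dvd_natCard (⟨_, hle hm⟩ : KK φ)
        rw [card_KK hg, Subgroup.orderOf_mk] at this
        exact this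
      obtain ⟨m, hm1, hm2⟩ := (Nat.dvd_prime_pow Nat.prime_two).1 (orderOf_dvd_of_pow_eq_one hn2)
      have hm3 : m ≤ 3 := by
        by_contra hcon
        have : 2 ^ 4 ∣ 120 := (pow_dvd_pow 2 (by omega : 4 ≤ m)).trans (hm2 ▸ h7)
        revert this; decide
      rw [← orderOf_dvd_iff_pow_eq_one, hm2]
      exact (pow_dvd_pow 2 hm3)
    have hA : Acts φ (mulL (mulL (mulL (K.getD (o2tab.getD i (0, 0)).2 []) (K.getD i []))
        (K.getD (o2tab.getD i (0, 0)).1 [])) (K.getD i [])) (f * (c * (f * c'))) :=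
      Acts.mul (Acts.mul (Acts.mul hcc' hi') hc') hi'
    have hA2 := Acts.mul hA hA
    have hA4 := Acts.mul hA2 hA2
    have hA8 := Acts.mul hA4 hA4
    have e8 : ∀ x : h.V ≃ₗ[ZMod 2] h.V, x * x * (x * x) * (x * x * (x * x)) = x ^ 8 := by
      intro x
      simp only [pow_succ, pow_zero, one_mul, mul_assoc]
    rw [e8, h8] at hA8
    apply h5
    have h6 : φ.e (φ.e.symm (vec (2 ^ k))) = vec (2 ^ k) := φ.e.apply_symm_apply _
    have h9 : (2 : ℕ) ^ k < 256 := by
      calc 2 ^ k < 2 ^ 8 := Nat.pow_lt_pow_right (by norm_num) hk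
        _ = 256 := by norm_num
    exact ap_eq_of_eq hA8 h6 h6 h4 h9 rfl

theorem K_nc [Finite Q] (hg : Gen φ) (x : h.V) (hx : InS h (vv φ) (ww φ) x) (h0 : x ≠ 0)
    (h1 : x ≠ vv φ) (h2 : x ≠ ww φ) (h3 : x ≠ ww φ + vv φ) : ∃ f ∈ KK φ, h.b x (f x) = 1 := by
  obtain ⟨n, hn, hxn⟩ := exists_code' (φ := φ) x
  have e0 : φ.e (0 : h.V) = vec 0 := by rw [map_zero, vec_zero]
  rcases c_nc n ((inS_iff hn hxn).1 hx) with (h4 | h4 | h4 | h4) | ⟨i, hi, h5⟩
  · exact absurd ((eq_iff hn (by norm_num) hxn e0).2 h4) h0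
  · exact absurd ((eq_iff hn (by norm_num) hxn e_vv).2 h4) h1
  · exact absurd ((eq_iff hn (by norm_num) hxn e_ww).2 h4) h2
  · exact absurd ((eq_iff hn (by norm_num) hxn ww_code').2 h4) h3
  · obtain ⟨f, hf, hf'⟩ := K_in hg i hi
    refine ⟨f, hf, ?_⟩
    rw [b_code hxn (acts_code hf' hxn), if_pos h5]

theorem K_span [Finite Q] (hg : Gen φ) {va : h.V} (hva : φ.e va = vec 1) (U : Submodule (ZMod 2) h.V)
    (hv : vv φ ∈ U) (ha : va ∈ U) (hU : ∀ f ∈ KK φ, ∀ x ∈ U, f x ∈ U) (x : h.V)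
    (hx : InS h (vv φ) (ww φ) x) : x ∈ U := by
  obtain ⟨n, hn, hxn⟩ := exists_code' (φ := φ) x
  obtain ⟨c, -, hc⟩ := c_comb n ((inS_iff hn hxn).1 hx)
  have key : ∀ i < 120, φ.e.symm (vec (ap (K.getD i []) 1)) ∈ U := by
    intro i hi
    obtain ⟨f, hf, hf'⟩ := K_in hg i hi
    have := hU f hf va ha
    have e : f va = φ.e.symm (vec (ap (K.getD i []) 1)) := by
      rw [← acts_code hf' hva, φ.e.symm_apply_apply]
    rwa [e] at this
  have h1 : va = φ.e.symm (vec 1) := by rw [← hva, φ.e.symm_apply_apply]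
  have hxor : ∀ a b : ℕ, φ.e.symm (vec a) ∈ U → φ.e.symm (vec b) ∈ U → φ.e.symm (vec (a ^^^ b)) ∈ U := by
    intro a b h2 h3
    rw [vec_xor, map_add]
    exact U.add_mem h2 h3
  have hite : ∀ (b : Bool) (m : ℕ), φ.e.symm (vec m) ∈ U → φ.e.symm (vec (if b = true then m else 0)) ∈ U := by
    intro b m hm
    cases b
    · have : φ.e.symm (vec (if false = true then m else 0)) = 0 := by
        simp [vec_zero]
      rw [this]; exact U.zero_mem
    · simpa using hm
  have h2 : x = φ.e.symm (vec (comb c)) := by rw [← hc, ← hxn, φ.e.symm_apply_apply]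
  rw [h2]
  unfold comb
  refine hxor _ _ (hxor _ _ (hxor _ _ (hxor _ _ (hxor _ _ (hite _ _ hv) (hite _ _ ?_)) (hite _ _ ?_))
    (hite _ _ ?_)) (hite _ _ ?_)) (hite _ _ ?_)
  · rw [← h1]; exact ha
  · exact key 3 (by norm_num)
  · exact key 4 (by norm_num)
  · exact key 12 (by norm_num)
  · exact key 14 (by norm_num)

theorem K_gen (hg : Gen φ) {x0 : h.V ≃ₗ[ZMod 2] h.V} (hx0 : Acts φ (kgens.getD 0 []) x0)
    (I : Subgroup (h.V ≃ₗ[ZMod 2] h.V)) (hI : ∀ f ∈ KK φ, ∀ i ∈ I, f * i * f⁻¹ ∈ I) (hx : x0 ∈ I) :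
    KK φ ≤ I := by
  rw [KK, Subgroup.closure_le]
  rintro f ⟨L, hL, hf⟩
  obtain ⟨i, hi, rfl⟩ := exists_idx hL
  obtain ⟨h1, h2⟩ := c_cc i hi
  obtain ⟨k, hk, hk'⟩ := K_in hg _ h1
  have e : f * k = k * x0 := Acts.ext (φ := φ) (h2 ▸ Acts.mul hk' hf) (Acts.mul hx0 hk')
  have e2 : f = k * x0 * k⁻¹ := by rw [← e]; group
  rw [e2]
  exact hI k hk x0 hx

theorem pts_inv [Finite Q] {f : h.V ≃ₗ[ZMod 2] h.V} (hf : f ∈ NN φ) :
    ∀ x : h.V, (∃ s ∈ pts, φ.e x = vec s.1) → ∃ s ∈ pts, φ.e (f x) = vec s.1 := by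
  revert f
  apply closure_ind
  · intro x hx; exact hx
  · rintro g ⟨L, hL, hg⟩ f ih x hx
    obtain ⟨s, hs, hs'⟩ := ih x hx
    obtain ⟨s', hs1, hs2⟩ := c_gens_pts L hL s hs
    exact ⟨s', hs1, by rw [LinearEquiv.mul_apply, acts_code hg hs', hs2]⟩

theorem X_le [Finite G] (p : Pair Q z A a) (φ : Coord p.lz) (hc : IsConf p φ confHN) :
    p.X ≤ NN φ := by
  classical
  have hg : Gen φ := by
    intro L hL
    rcases List.mem_append.1 hL with h1 | h1
    · obtain ⟨f, -, hf⟩ := hc.X L h1; exact ⟨f, hf⟩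
    · obtain ⟨f, -, hf⟩ := hc.N L h1; exact ⟨f, hf⟩
  have hcardD := card_D_of_conf p φ hc.D
  have hcardV : Nat.card p.lz.V = 256 := by
    rw [Nat.card_congr φ.e.toEquiv, Nat.card_eq_fintype_card]
    decide +kernel
  have hcardX : Nat.card p.X = 8 := by
    have := p.card_X
    rw [hcardD, hcardV] at this
    omega
  have hX : ∀ c < 8, In φ p.X (prodL (xw c)) := fun c hc' =>
    In.prod fun L hL => hc.X L (c_xw_mem c hc' L hL)
  choose f hf hf' using hX
  have hinj : Function.Injective (fun c : Fin 8 => (⟨f c c.2, hf c c.2⟩ : p.X)) := by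
    intro c c' hcc
    have h1 : f c c.2 = f c' c'.2 := congrArg Subtype.val hcc
    rcases c_xw c c.2 c' c'.2 with h2 | ⟨k, hk, h2, h3, h4⟩
    · exact Fin.ext h2
    · exfalso
      apply h4
      have h6 : φ.e (φ.e.symm (vec (2 ^ k))) = vec (2 ^ k) := φ.e.apply_symm_apply _
      apply vec_inj _ h2 _ h3
      rw [← acts_code (hf' c c.2) h6, ← acts_code (hf' c' c'.2) h6, h1]
  have hsurj : Function.Surjective (fun c : Fin 8 => (⟨f c c.2, hf c c.2⟩ : p.X)) := by
    have : Fintype p.X := Fintype.ofFinite _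
    refine ((Fintype.bijective_iff_injective_and_card _).2 ⟨hinj, ?_⟩).2
    rw [Fintype.card_fin, ← Nat.card_eq_fintype_card, hcardX]
  intro x hx
  obtain ⟨c, hcx⟩ := hsurj ⟨x, hx⟩
  have h1 : f c c.2 = x := congrArg Subtype.val hcx
  obtain ⟨y, hy, hy'⟩ := In.prod (φ := φ) (S := NN φ) (w := xw c)
    (fun L hL => in_NN hg (List.mem_append_left _ (c_xw_mem c c.2 L hL)))
  have h2 : x = y := by rw [← h1]; exact Acts.ext (hf' c c.2) hy'
  rw [h2]; exact hy

end

/-- the six generators and `s` generate `N ∪ sN` -/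
theorem H_le [Finite G] {p : Pair Q z A a} {φ : Coord p.lz} (hc : IsConf p φ confHN) (hg : Gen φ) :
    ∀ f ∈ p.H, f ∈ NN φ ∨ sg φ * f ∈ NN φ := by
  -- `s` normalises `N`
  have hnorm1 : ∀ f ∈ lset φ gensN, sg φ * f * sg φ ∈ NN φ := by
    rintro f ⟨L, hL, hf⟩
    obtain ⟨i, hi, rfl⟩ := exists_idx hL
    obtain ⟨h1, h2, h3⟩ := c_st i hi
    obtain ⟨t, ht, ht'⟩ := T_in hg _ h1
    obtain ⟨k, hk, hk'⟩ := K_in hg _ h2
    have e : sg φ * f * sg φ = t * k := by
      rw [mul_assoc]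
      exact Acts.ext (φ := φ) (L := mulL (mulL sL (gensN.getD i [])) sL)
        (Acts.mul (Acts.mul acts_sg hf) acts_sg) (h3 ▸ Acts.mul hk' ht')
    rw [e]
    exact mul_mem ht (KK_le hg hk)
  have hnorm : ∀ f ∈ NN φ, sg φ * f * sg φ ∈ NN φ := by
    apply closure_ind
    · rw [mul_one, sg_sq]; exact one_mem _
    · intro x hx y hy
      have e : sg φ * (x * y) * sg φ = (sg φ * x * sg φ) * (sg φ * y * sg φ) := by
        calc sg φ * (x * y) * sg φ = sg φ * x * 1 * y * sg φ := by group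
          _ = _ := by rw [← sg_sq (φ := φ)]; group
      rw [e]
      exact mul_mem (hnorm1 x hx) hy
  intro f hf
  have hf' := hc.le hf
  revert hf'
  revert f
  intro f _ hf'
  revert f
  have key : ∀ f ∈ Subgroup.closure {f | ∃ L ∈ confHN.X ++ confHN.N ++ confHN.M, Acts φ L f},
      f ∈ NN φ ∨ sg φ * f ∈ NN φ := by
    apply closure_ind
    · exact Or.inl (one_mem _)
    · rintro x ⟨L, hL, hx⟩ y hy
      rcases List.mem_append.1 hL with h1 | h1
      · have hxN : x ∈ NN φ := Subgroup.subset_closure ⟨L, h1, hx⟩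
        rcases hy with hy | hy
        · exact Or.inl (mul_mem hxN hy)
        · right
          have e : sg φ * (x * y) = (sg φ * x * sg φ) * (sg φ * y) := by
            calc sg φ * (x * y) = sg φ * x * 1 * y := by group
              _ = _ := by rw [← sg_sq (φ := φ)]; group
          rw [e]
          exact mul_mem (hnorm x hxN) hy
      · -- the element `m = s n₀`
        obtain ⟨h2, h3, h4⟩ := c_mt
        obtain ⟨t, ht, ht'⟩ := T_in hg _ h2
        obtain ⟨k, hk, hk'⟩ := K_in hg _ h3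
        have e : sg φ * x = t * k :=
          Acts.ext (φ := φ) (L := mulL L sL) (Acts.mul hx acts_sg) (h4 L h1 ▸ Acts.mul hk' ht')
        have hn0 : sg φ * x ∈ NN φ := by rw [e]; exact mul_mem ht (KK_le hg hk)
        rcases hy with hy | hy
        · right
          rw [← mul_assoc]
          exact mul_mem hn0 hy
        · left
          have e2 : x * y = (sg φ * (sg φ * x) * sg φ) * (sg φ * y) := by
            calc x * y = 1 * x * 1 * y := by group
              _ = _ := by rw [← sg_sq (φ := φ)]; group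
          rw [e2]
          exact mul_mem (hnorm _ hn0) hy
  intro f hf hf'
  exact key f hf'

/-- **The facts.** -/
theorem facts_of_conf [Finite G] (p : Pair Q z A a) (φ : Coord p.lz) (hc : IsConf p φ confHN)
    (hO : ∀ x : Q, IsConj z (x : G) → p.lz.pr x ≠ 0 → ∃ s ∈ pts, φ.e (p.lz.pr x) = vec s.1) :
    HNFacts p (NN φ) (sg φ) (vv φ) (ww φ) := by
  have hg : Gen φ := by
    intro L hL
    rcases List.mem_append.1 hL with h1 | h1
    · obtain ⟨f, -, hf⟩ := hc.X L h1; exact ⟨f, hf⟩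
    · obtain ⟨f, -, hf⟩ := hc.N L h1; exact ⟨f, hf⟩
  have hfin : Finite Q := inferInstance
  have hNH : NN φ ≤ p.H := by
    rw [NN, Subgroup.closure_le]
    rintro f ⟨L, hL, hf⟩
    rcases List.mem_append.1 hL with h1 | h1
    · obtain ⟨g, hg', hg''⟩ := hc.X L h1
      rw [Acts.ext hf hg'']; exact p.X_le_H hg'
    · obtain ⟨g, hg', hg''⟩ := hc.N L h1
      rw [Acts.ext hf hg'']; exact hg'
  have hKN : ∀ f, f ∈ KK φ ↔ f ∈ NN φ ∧ f (vv φ) = vv φ := fun f =>
    ⟨fun hf => ⟨KK_le hg hf, KK_vv hf⟩, fun hf => stab hg hf.1 hf.2⟩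
  have hv16 : ∀ n < 16, vec n 4 = 0 ∧ vec n 5 = 0 ∧ vec n 6 = 0 ∧ vec n 7 = 0 := by decide +kernel
  have hvD : ∀ x : p.lz.V, ∀ n < 16, φ.e x = vec n → x ∈ p.D := by
    intro x n hn hx
    rw [hc.D, hx]
    exact hv16 n hn
  exact
    { card_V := by
        rw [Nat.card_congr φ.e.toEquiv, Nat.card_eq_fintype_card]
        decide +kernel
      q_v := by rw [φ.q, e_vv]; decide +kernel
      q_w := by rw [φ.q, e_ww]; decide +kernel
      b_vw := by rw [b_code e_vv e_ww]; decide +kernel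
      v_ne := by
        intro h1
        have h2 : φ.e (0 : p.lz.V) = vec 0 := by rw [map_zero, vec_zero]
        exact absurd ((eq_iff (by norm_num) (by norm_num) e_vv h2).1 h1) (by norm_num)
      v_mem := hvD _ 2 (by norm_num) e_vv
      va_mem := (inS_iff (by norm_num) hc.va).2 (by decide +kernel)
      exists_D := by
        refine ⟨φ.e.symm (vec 4), hvD _ 4 (by norm_num) (φ.e.apply_symm_apply _), ?_⟩
        rw [b_code e_ww (φ.e.apply_symm_apply _)]
        decide +kernel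
      exists_X := by
        obtain ⟨x, hx, hx'⟩ := hc.X [1,3,4,8,60,32,73,133] (by decide)
        refine ⟨x, hx, ?_⟩
        apply φ.e.injective
        rw [acts_code hx' e_vv, e_add e_vv hc.va]
        rfl
      N_le := hNH
      X_le := X_le p φ hc
      H_le := H_le hc hg
      sigma_def := sg_def
      sigma_not := by
        intro h1
        have h2 : sg φ (vv φ) = vv φ := by
          apply φ.e.injective
          rw [acts_code acts_sg e_vv, e_vv]; rfl
        obtain ⟨i, hi, hi'⟩ := KK_list (stab hg h1 h2)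
        have h3 : sL = K.getD i [] := eq_of_acts (by decide +kernel) (c_lt i hi) acts_sg hi'
        apply c_s_not
        rw [h3]
        exact getD_mem (by
          have hl : K.length = 120 := by decide +kernel
          rw [hl]; exact hi)
      K_w := by
        intro f hf hv
        obtain ⟨i, hi, hi'⟩ := KK_list (stab hg hf hv)
        rcases c_K197 i hi with h1 | h1
        · left
          apply φ.e.injective
          rw [acts_code hi' e_ww, e_ww, h1]
        · right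
          apply φ.e.injective
          rw [acts_code hi' e_ww, ww_code', h1]
      K_small := fun f hf hv U hU hU' => K_small (stab hg hf hv) U hU hU'
      K_nc := by
        intro x hx h0 h1 h2 h3
        obtain ⟨f, hf, hf'⟩ := K_nc hg x hx h0 h1 h2 h3
        exact ⟨f, ((hKN f).1 hf).1, ((hKN f).1 hf).2, hf'⟩
      K_span := fun U hv ha hU x hx => K_span hg hc.va U hv ha
        (fun f hf => hU f ((hKN f).1 hf).1 ((hKN f).1 hf).2) x hx
      K_gen := by
        obtain ⟨x0, hx0, hx0'⟩ := hc.X (kgens.getD 0 []) (by decide)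
        refine ⟨x0, hx0, ?_, ?_, ?_⟩
        · apply φ.e.injective
          rw [acts_code hx0' e_vv, e_vv]; rfl
        · apply φ.e.injective
          rw [acts_code hx0' e_ww, ww_code', c_o1]
        · intro I hI hxI f hf hv
          exact K_gen hg hx0' I (fun f hf => hI f ((hKN f).1 hf).1 ((hKN f).1 hf).2) hxI (stab hg hf hv)
      K_card := ⟨KK φ, hKN, card_KK hg⟩
      K_o2 := fun I hI hle hn => K_o2 hg I hI (fun i hi => (hKN i).2 (hle i hi))
        (fun f hf => hn f ((hKN f).1 hf).1 ((hKN f).1 hf).2)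
      fus := by
        intro x hx hx0
        obtain ⟨s, hs, hs'⟩ := hO x hx hx0
        obtain ⟨h1, h2, h3⟩ := c_pts s hs
        obtain ⟨t, ht, ht'⟩ := T_in hg _ h1
        obtain ⟨k, hk, hk'⟩ := K_in hg _ h2
        refine ⟨t * k, mul_mem ht (KK_le hg hk), ?_⟩
        apply φ.e.injective
        rw [hs', LinearEquiv.mul_apply, acts_code ht' (acts_code hk' hc.va), h3]
      v_not := by
        intro f hf h1
        obtain ⟨s, hs, hs'⟩ := pts_inv hf p.va ⟨(1, 0, 0), by decide, hc.va⟩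
        rw [h1, e_vv] at hs'
        obtain ⟨h2, h3⟩ := c_pts2 s hs
        exact h2 (vec_inj _ h3 _ (by norm_num) hs'.symm) }

end Cfsg.Agent.HNType.Facts
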