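import Cfsg.Agent.HNType.Cover
import Cfsg.Prelude.Def_Spor_Conway
import Cfsg.Prelude.Def_Spor_HN

/-!
# Final step for `HN`: `t` is a product of commutators of `M` (helper344)
-/

set_option autoImplicit false

namespace Cfsg.Agent.HNType.Final

open Cfsg.Agent.Co2Type.Quad Cfsg.Agent.LargeExtra.Base Cfsg.Agent.LargeExtra.Local
open Cfsg.Agent.LargeExtra.KillNine.EGroup
open Cfsg.Agent.HNType.Iface Cfsg.Agent.HNType.Quot

variable {G : Type*} [Group G] {Q A : Subgroup G} {z a : G}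

/-- a vector with `b x v = 0` lifted to an element commuting with `t` -/
theorem comm_of_b {h : Large Q z} {t : G} (htQ : t ∈ Q) {x : Q} (hb : h.b (h.pr ⟨t, htQ⟩) (h.pr x) = 0) :
    (x : G) ∈ Y t := mem_Y.2 ((h.b_pr _ _).1 hb).symm

theorem t_mem [Finite G] {p : Pair Q z A a} {N : Subgroup (p.lz.V ≃ₗ[ZMod 2] p.lz.V)}
    {σ : p.lz.V ≃ₗ[ZMod 2] p.lz.V} {v w : p.lz.V} (F : HNFacts p N σ v w) {t û : G} (htQ : t ∈ Q)
    (huQ : û ∈ Q) (hzY : z ∈ Y t) (hv : p.lz.pr ⟨t, htQ⟩ = v)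
    (hw : p.lz.pr ⟨û, huQ⟩ = w) (J : Subgroup (Gam t))
    (hP0 : im t (Yg p.lz (Sg p.lz v w)) ≤ J)
    (hcov : ∀ c, c * mk t ⟨z, hzY⟩ = mk t ⟨z, hzY⟩ * c → ∃ i ∈ J, ∃ x ∈ im t Q, c = i * x)
    (L : Subgroup (Y t))
    (hL : ∀ x ∈ J.comap (mk t), ∀ y ∈ J.comap (mk t), x * y * x⁻¹ * y⁻¹ ∈ L) : tY t ∈ L := by
  have h := p.lz
  set B := Yg p.lz (Sg p.lz v w) with hB
  -- elements of `B` lie in `M`
  have hBM : ∀ x : Q, InS p.lz v w (p.lz.pr x) → ∃ hx : (x : G) ∈ Y t, (⟨x, hx⟩ : Y t) ∈ J.comap (mk t) := by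
    intro x hx
    have h1 : (x : G) ∈ Y t := comm_of_b htQ (by rw [hv]; exact hx.1)
    refine ⟨h1, hP0 ⟨⟨x, h1⟩, ?_, rfl⟩⟩
    exact (coe_mem_Yg p.lz _).2 hx
  have hmulL : ∀ {x : Y t}, x ∈ L → ∀ {y : Y t}, (x : G) = y → y ∈ L := by
    intro x hx y hxy
    have : x = y := Subtype.ext hxy
    rwa [← this]
  -- `z ∈ L`
  have hzL : (⟨z, hzY⟩ : Y t) ∈ L := by
    have hva := F.va_mem
    have h0 : p.va ≠ 0 := p.va_ne
    have h1 : p.va ≠ v := F.v_not 1 (one_mem _)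
    have hqa : p.lz.q p.va = 0 := p.q_D p.va_mem_D
    have h2 : p.va ≠ w := by
      intro h3
      rw [h3, F.q_w] at hqa
      exact absurd hqa (by decide)
    have h3 : p.va ≠ w + v := by
      intro h3
      rw [h3, p.lz.q_add', F.q_w, F.q_v, p.lz.b_comm, F.b_vw] at hqa
      exact absurd hqa (by decide)
    obtain ⟨f, hfN, hfv, hfb⟩ := F.K_nc p.va hva h0 h1 h2 h3
    obtain ⟨y, hy⟩ := p.lz.pr_surjective (f p.va)
    obtain ⟨x, hx⟩ := p.lz.pr_surjective p.va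
    -- `f` preserves `S`
    have hfH := F.N_le hfN
    obtain ⟨c, hc⟩ := hfH
    have hiso : ∀ x y, p.lz.b (f x) (f y) = p.lz.b x y := by
      intro x y; rw [← hc, p.lz.b_act]
    have hyS : InS p.lz v w (p.lz.pr y) := by
      rw [hy]
      have h4 : p.lz.b v (f p.va) = 0 := by
        have := hiso v p.va
        rw [hfv] at this
        rw [this]; exact hva.1
      refine ⟨h4, ?_⟩
      rcases F.K_w f hfN hfv with h5 | h5
      · have := hiso w p.va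
        rw [h5] at this
        rw [this]; exact hva.2
      · have := hiso w p.va
        rw [h5, map_add, LinearMap.add_apply, h4, add_zero] at this
        rw [this]; exact hva.2
    obtain ⟨hxY, hxM⟩ := hBM x (by rw [hx]; exact hva)
    obtain ⟨hyY, hyM⟩ := hBM y hyS
    refine hmulL (hL _ hxM _ hyM) ?_
    show (x : G) * y * (x : G)⁻¹ * (y : G)⁻¹ = z
    have h6 : (x : G) * y = y * x * z := (p.lz.b_pr_one _ _).1 (by rw [hx, hy]; exact hfb)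
    rw [h6, mul_assoc _ z, ← (p.lz.commz x.2).inv_left.eq]
    calc (y : G) * x * ((x : G)⁻¹ * z) * (y : G)⁻¹ = y * z * (y : G)⁻¹ := by group
      _ = z := by rw [(p.lz.commz y.2).eq]; group
  -- an element `y` of `M ∩ C(z)` with `y w = w + v`
  obtain ⟨x0, hx0X, hx0v, hx0w, -⟩ := F.K_gen
  obtain ⟨c, hcA, hcx⟩ := p.mem_X.1 hx0X
  have hcz : (c : G) * z = z * c := Subgroup.mem_centralizer_singleton_iff.1 c.2
  have hct : ∃ c' : Subgroup.centralizer ({z} : Set G), (c' : G) ∈ Y t ∧ p.lz.act c' = x0 := by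
    have h1 : p.lz.act c (p.lz.pr ⟨t, htQ⟩) = p.lz.pr ⟨t, htQ⟩ := by rw [hcx, hv, hx0v]
    rw [p.lz.act_pr, p.lz.pr_eq_pr, p.lz.conjQ_coe] at h1
    rcases h1 with h1 | h1
    · exact ⟨c, mem_Y.2 (mul_inv_eq_iff_eq_mul.1 h1), hcx⟩
    · have ht1 : (t : G) ≠ 1 := by
        intro h2
        apply F.v_ne
        rw [← hv]
        exact p.lz.pr_eq_zero.2 (Or.inl h2)
      have htz : (t : G) ≠ z := by
        intro h2
        apply F.v_ne
        rw [← hv]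
        exact p.lz.pr_eq_zero.2 (Or.inr h2)
      obtain ⟨y, hy, hyt⟩ := exists_not_comm p.lz htQ ht1 htz
      have hyC : y ∈ Subgroup.centralizer ({z} : Set G) :=
        Subgroup.mem_centralizer_singleton_iff.2 (p.lz.comm_z y hy)
      refine ⟨⟨y, hyC⟩ * c, mem_Y.2 ?_, ?_⟩
      · show y * (c : G) * t = t * (y * c)
        have h1' : (c : G) * t = t * z * c := mul_inv_eq_iff_eq_mul.1 h1
        calc y * (c : G) * t = y * (c * t) := by group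
          _ = y * t * z * c := by rw [h1']; group
          _ = t * y * (z * z) * c := by rw [hyt]; group
          _ = t * (y * c) := by rw [p.lz.z_sq]; group
      · rw [map_mul, p.lz.act_mem _ hy, one_mul, hcx]
  obtain ⟨c', hc'Y, hc'x⟩ := hct
  have hc'z : (c' : G) * z = z * c' := Subgroup.mem_centralizer_singleton_iff.1 c'.2
  have h1 : mk t ⟨c', hc'Y⟩ * mk t ⟨z, hzY⟩ = mk t ⟨z, hzY⟩ * mk t ⟨c', hc'Y⟩ := by
    rw [← map_mul, ← map_mul]
    congr 1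
    exact Subtype.ext hc'z
  obtain ⟨i, hi, x, hx, hix⟩ := hcov _ h1
  obtain ⟨r, hrQ, rfl⟩ := hx
  -- `y = c' r⁻¹`
  set y : Y t := ⟨c', hc'Y⟩ * r⁻¹ with hy
  have hyM : y ∈ J.comap (mk t) := by
    show mk t y ∈ J
    rw [hy, map_mul, map_inv, hix, mul_inv_cancel_right]
    exact hi
  have hrC : (r : G) ∈ Subgroup.centralizer ({z} : Set G) :=
    Subgroup.mem_centralizer_singleton_iff.2 (p.lz.comm_z r hrQ)
  have hyC : (y : G) ∈ Subgroup.centralizer ({z} : Set G) :=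
    mul_mem c'.2 (inv_mem hrC)
  have hact : p.lz.act ⟨y, hyC⟩ = x0 := by
    have e : (⟨y, hyC⟩ : Subgroup.centralizer ({z} : Set G)) = c' * ⟨r, hrC⟩⁻¹ := rfl
    rw [e, map_mul, map_inv, p.lz.act_mem ⟨(r : G), hrC⟩ hrQ, inv_one, mul_one, hc'x]
  -- the commutator with `û`
  obtain ⟨huY', huM⟩ := hBM ⟨û, huQ⟩ (by
    rw [hw]
    exact ⟨F.b_vw, p.lz.b_self w⟩)
  have h2 : p.lz.act ⟨y, hyC⟩ (p.lz.pr ⟨û, huQ⟩) = p.lz.pr ⟨û, huQ⟩ + p.lz.pr ⟨t, htQ⟩ := by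
    rw [hact, hw, hx0w, hv]
  rw [p.lz.act_pr, ← p.lz.pr_mul, p.lz.pr_eq_pr, p.lz.conjQ_coe] at h2
  have hcomm := hL _ hyM _ huM
  have hut : t * û = û * t := (mem_Y.1 huY').symm
  rcases h2 with h3 | h3
  · refine hmulL hcomm ?_
    show (y : G) * û * (y : G)⁻¹ * û⁻¹ = t
    have h3' : (y : G) * û * (y : G)⁻¹ = û * t := h3
    rw [h3', ← hut]; group
  · have h4 := L.mul_mem hcomm hzL
    refine hmulL h4 ?_
    show (y : G) * û * (y : G)⁻¹ * û⁻¹ * z = t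
    have h3' : (y : G) * û * (y : G)⁻¹ = û * t * z := h3
    rw [h3', ← hut, mul_assoc _ z, ← (p.lz.commz huQ).inv_left.eq]
    calc t * û * (û⁻¹ * z) * z = t * (z * z) := by group
      _ = t := by rw [p.lz.z_sq, mul_one]

/-- **The final step.** -/
theorem isoHN [Finite G] [IsSimpleGroup G]
    (h1674 : ∀ (t : G) (_ : orderOf t = 2) (M : Subgroup (Subgroup.centralizer ({t} : Set G)))
      (_ : M.Normal) (_ : M.index = 2)
      (_ : Subgroup.centralizer (M : Set (Subgroup.centralizer ({t} : Set G))) ≤ M)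
      (_ : Cfsg.IsNonsplitDoubleCover M Cfsg.Spor.HS), Cfsg.Spor.IsoHN G)
    {p : Pair Q z A a} {N : Subgroup (p.lz.V ≃ₗ[ZMod 2] p.lz.V)}
    {σ : p.lz.V ≃ₗ[ZMod 2] p.lz.V} {v w : p.lz.V} (F : HNFacts p N σ v w) {t û : G} (htQ : t ∈ Q)
    (huQ : û ∈ Q) (hzY : z ∈ Y t) (ht2 : t * t = 1) (hv : p.lz.pr ⟨t, htQ⟩ = v)
    (hw : p.lz.pr ⟨û, huQ⟩ = w) (J : Subgroup (Gam t)) (hJ : J.Normal) (hJ2 : J.index = 2)
    (hP0 : im t (Yg p.lz (Sg p.lz v w)) ≤ J) (hcent : ∀ x, (∀ y ∈ J, x * y = y * x) → x = 1)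
    (e : Nonempty (J ≃* Cfsg.Spor.HS))
    (hcov : ∀ c, c * mk t ⟨z, hzY⟩ = mk t ⟨z, hzY⟩ * c → ∃ i ∈ J, ∃ x ∈ im t Q, c = i * x) :
    Cfsg.Spor.IsoHN G := by
  have ht1 : t ≠ 1 := by
    intro h2
    apply F.v_ne
    rw [← hv]
    exact p.lz.pr_eq_zero.2 (Or.inl h2)
  obtain ⟨h1, h2, h3, h4⟩ := Cover.cover ht2 ht1 J hJ hJ2 hcent e
    (fun L _ hL => t_mem F htQ huQ hzY hv hw J hP0 hcov L hL)
  exact h1674 t (orderOf_eq_prime (by rw [pow_two]; exact ht2) ht1) _ h1 h2 h3 h4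

end Cfsg.Agent.HNType.Final
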