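import Cfsg.Agent.HNType.Lin

/-!
# The case `HN`: the involution `t` over `v` and the 3-element `g` (helper344)
-/

set_option autoImplicit false

namespace Cfsg.Agent.HNType.Involution

open Cfsg.Agent.Co2Type.Quad Cfsg.Agent.LargeExtra.Base Cfsg.Agent.LargeExtra.Local
open Cfsg.Agent.LargeExtra.KillNine
open Cfsg.Agent.HNType.Iface Cfsg.Agent.HNType.Quot Cfsg.Agent.HNType.Lin

variable {G : Type*} [Group G] {Q A : Subgroup G} {z a : G}

/-- `t` and `g` -/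
structure TG (p : Pair Q z A a) (v : p.lz.V) (t g : G) : Prop where
  htQ : t ∈ Q
  htA : t ∈ A
  sq : t * t = 1
  pr : p.lz.pr ⟨t, htQ⟩ = v
  comm : g * t = t * g
  g_z : g * z * g⁻¹ = a
  g_a : g * a * g⁻¹ = a * z
  D : ∀ d, d ∈ Q → d ∈ A → g * d * g⁻¹ ∈ Q ∧ g * d * g⁻¹ ∈ A
  QA : ∀ x, x ∈ Q ↔ g * x * g⁻¹ ∈ A

theorem QA_of (p : Pair Q z A a) {g : G} (hg : g * z * g⁻¹ = a) (x : G) : x ∈ Q ↔ g * x * g⁻¹ ∈ A := by
  obtain ⟨k, hk, -, hA, -⟩ := p.isConj
  have h1 : Q.map (MulAut.conj g).toMonoidHom = A := by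
    rw [hA]; exact map_eq_of_conj p.lz (hg.trans hk.symm)
  rw [← h1, PairConj.mem_map_conj]
  have : g⁻¹ * (g * x * g⁻¹) * g = x := by group
  rw [this]

variable {p : Pair Q z A a} {N : Subgroup (p.lz.V ≃ₗ[ZMod 2] p.lz.V)}
  {σ : p.lz.V ≃ₗ[ZMod 2] p.lz.V} {v w : p.lz.V}

theorem exists_tg (F : HNFacts p N σ v w) : ∃ t g : G, TG p v t g := by
  have hza : z * a = a * z := (p.lz.commz p.a_mem).eq.symm
  have hzz := p.lz.z_sq
  have haa := p.la.z_sq
  obtain ⟨w1, hw1, hw1a⟩ := exists_not_comm p.lz p.a_mem p.la.z_ne p.ne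
  obtain ⟨w2, hw2, hw2z⟩ := exists_not_comm p.la p.z_mem p.lz.z_ne p.ne.symm
  have hw1z := p.lz.comm_z w1 hw1
  have hw2a := p.la.comm_z w2 hw2
  have e1 : w1 * a * w1⁻¹ = a * z := by
    rw [hw1a, mul_assoc a w1 z, hw1z]; group
  have e1' : w1 * z * w1⁻¹ = z := by rw [hw1z]; group
  have e2 : w2 * z * w2⁻¹ = z * a := by
    rw [hw2z, mul_assoc z w2 a, hw2a]; group
  have e2' : w2 * a * w2⁻¹ = a := by rw [hw2a]; group
  set g := w1 * w2 with hg
  have gz : g * z * g⁻¹ = a := by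
    calc g * z * g⁻¹ = w1 * (w2 * z * w2⁻¹) * w1⁻¹ := by rw [hg]; group
      _ = (w1 * z * w1⁻¹) * (w1 * a * w1⁻¹) := by rw [e2]; group
      _ = z * (a * z) := by rw [e1, e1']
      _ = (z * z) * a := by rw [← hza]; group
      _ = a := by rw [hzz, one_mul]
  have ga : g * a * g⁻¹ = a * z := by
    calc g * a * g⁻¹ = w1 * (w2 * a * w2⁻¹) * w1⁻¹ := by rw [hg]; group
      _ = a * z := by rw [e2', e1]
  -- `g` on `D`
  have gD : ∀ d, d ∈ Q → d ∈ A → g * d * g⁻¹ = d ∨ g * d * g⁻¹ = d * z ∨ g * d * g⁻¹ = d * a ∨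
      g * d * g⁻¹ = d * (a * z) := by
    intro d hdQ hdA
    have h1 : w2 * d * w2⁻¹ = d ∨ w2 * d * w2⁻¹ = d * a := p.conj_D hdA hw2
    have h2 : w1 * d * w1⁻¹ = d ∨ w1 * d * w1⁻¹ = d * z := by
      rcases p.lz.comm w1 hw1 d hdQ with h | h
      · left; rw [h]; group
      · right
        rw [h, mul_assoc _ z, ← (p.lz.commz hw1).inv_left.eq]; group
    have h3 : g * d * g⁻¹ = w1 * (w2 * d * w2⁻¹) * w1⁻¹ := by rw [hg]; group
    rcases h1 with h1 | h1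
    · rw [h3, h1]
      rcases h2 with h2 | h2
      · left; exact h2
      · right; left; exact h2
    · have h4 : g * d * g⁻¹ = (w1 * d * w1⁻¹) * (a * z) := by
        rw [h3, h1, ← e1]; group
      rw [h4]
      rcases h2 with h2 | h2
      · right; right; right; rw [h2]
      · right; right; left
        rw [h2]
        calc d * z * (a * z) = d * (z * (a * z)) := by group
          _ = d * ((z * z) * a) := by rw [← hza]; group
          _ = d * a := by rw [hzz, one_mul]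
  have gD' : ∀ d, d ∈ Q → d ∈ A → g * d * g⁻¹ ∈ Q ∧ g * d * g⁻¹ ∈ A := by
    intro d hdQ hdA
    rcases gD d hdQ hdA with h | h | h | h <;> rw [h]
    · exact ⟨hdQ, hdA⟩
    · exact ⟨mul_mem hdQ p.lz.z_mem, mul_mem hdA p.z_mem⟩
    · exact ⟨mul_mem hdQ p.a_mem, mul_mem hdA p.la.z_mem⟩
    · exact ⟨mul_mem hdQ (mul_mem p.a_mem p.lz.z_mem), mul_mem hdA (mul_mem p.la.z_mem p.z_mem)⟩
  -- a fixed point
  obtain ⟨d, hdA, hdv⟩ := F.v_mem
  have key : ∃ (t : G) (htQ : t ∈ Q) (_ : t ∈ A), g * t * g⁻¹ = t ∧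
      (p.lz.pr ⟨t, htQ⟩ = v ∨ p.lz.pr ⟨t, htQ⟩ = v + p.va) := by
    have hda : ∀ y ∈ Q, y ∈ A → (d : G) * y = y * d := fun y hyQ hyA => p.comm_D d.2 hdA hyQ hyA
    rcases gD d d.2 hdA with h | h | h | h
    · exact ⟨d, d.2, hdA, h, Or.inl hdv⟩
    · refine ⟨d * a, mul_mem d.2 p.a_mem, mul_mem hdA p.la.z_mem, ?_, Or.inr ?_⟩
      · calc g * (d * a) * g⁻¹ = (g * d * g⁻¹) * (g * a * g⁻¹) := by group
          _ = d * z * (a * z) := by rw [h, ga]
          _ = d * ((z * z) * a) := by rw [← hza]; group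
          _ = d * a := by rw [hzz, one_mul]
      · have : p.lz.pr (d * ⟨a, p.a_mem⟩) = v + p.va := by rw [p.lz.pr_mul, hdv]; rfl
        exact this
    · refine ⟨d * (a * z), mul_mem d.2 (mul_mem p.a_mem p.lz.z_mem),
        mul_mem hdA (mul_mem p.la.z_mem p.z_mem), ?_, Or.inr ?_⟩
      · calc g * (d * (a * z)) * g⁻¹ = (g * d * g⁻¹) * (g * a * g⁻¹) * (g * z * g⁻¹) := by group
          _ = d * a * (a * z) * a := by rw [h, ga, gz]
          _ = d * (a * a) * (z * a) := by group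
          _ = d * (a * z) := by rw [haa, mul_one, hza]
      · have h0 : p.lz.pr ⟨z, p.lz.z_mem⟩ = 0 := p.lz.pr_eq_zero.2 (Or.inr rfl)
        have : p.lz.pr (d * (⟨a, p.a_mem⟩ * ⟨z, p.lz.z_mem⟩)) = v + p.va := by
          rw [p.lz.pr_mul, p.lz.pr_mul, hdv, h0, add_zero]; rfl
        exact this
    · refine ⟨d * z, mul_mem d.2 p.lz.z_mem, mul_mem hdA p.z_mem, ?_, Or.inl ?_⟩
      · calc g * (d * z) * g⁻¹ = (g * d * g⁻¹) * (g * z * g⁻¹) := by group
          _ = d * (a * z) * a := by rw [h, gz]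
          _ = d * (a * (z * a)) := by group
          _ = d * ((a * a) * z) := by rw [hza]; group
          _ = d * z := by rw [haa, one_mul]
      · have h0 : p.lz.pr ⟨z, p.lz.z_mem⟩ = 0 := p.lz.pr_eq_zero.2 (Or.inr rfl)
        have : p.lz.pr (d * ⟨z, p.lz.z_mem⟩) = v := by
          rw [p.lz.pr_mul, hdv, h0, add_zero]
        exact this
  obtain ⟨t, htQ, htA, hgt, htv⟩ := key
  have htt : t * t = 1 := p.sq_D htQ htA
  rcases htv with htv | htv
  · exact ⟨t, g, htQ, htA, htt, htv, mul_inv_eq_iff_eq_mul.1 hgt, gz, ga, gD', QA_of p gz⟩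
  · obtain ⟨x0, hx0, hx0v⟩ := F.exists_X
    obtain ⟨x, hxA, hx⟩ := p.mem_X.1 hx0
    have hxz : (x : G) * z = z * x := Subgroup.mem_centralizer_singleton_iff.1 x.2
    have hxa : (x : G) * a = a * x := p.la.comm_z x hxA
    have hxz' : (x : G)⁻¹ * z * x = z := by
      calc (x : G)⁻¹ * z * x = (x : G)⁻¹ * (z * x) := by group
        _ = (x : G)⁻¹ * (x * z) := by rw [hxz]
        _ = z := by group
    have hxa' : (x : G)⁻¹ * a * x = a := by
      calc (x : G)⁻¹ * a * x = (x : G)⁻¹ * (a * x) := by group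
        _ = (x : G)⁻¹ * (x * a) := by rw [hxa]
        _ = a := by group
    have hxtQ : (x : G) * t * (x : G)⁻¹ ∈ Q := p.lz.conj_mem x hxz t htQ
    have hgz' : x * g * (x : G)⁻¹ * z * (x * g * (x : G)⁻¹)⁻¹ = a := by
      calc x * g * (x : G)⁻¹ * z * (x * g * (x : G)⁻¹)⁻¹ = x * (g * ((x : G)⁻¹ * z * x) * g⁻¹) * (x : G)⁻¹ := by
            group
        _ = x * a * (x : G)⁻¹ := by rw [hxz', gz]
        _ = a := by rw [hxa]; group
    refine ⟨x * t * (x : G)⁻¹, x * g * (x : G)⁻¹, hxtQ, ?_, ?_, ?_, ?_, hgz', ?_, ?_, QA_of p hgz'⟩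
    · exact mul_mem (mul_mem hxA htA) (inv_mem hxA)
    · calc (x : G) * t * (x : G)⁻¹ * (x * t * (x : G)⁻¹) = x * (t * t) * (x : G)⁻¹ := by group
        _ = 1 := by rw [htt]; group
    · have h1 : p.lz.act x (p.lz.pr ⟨t, htQ⟩) = p.lz.pr ⟨_, hxtQ⟩ := Pair.act_pr_coe p.lz _ _ _ rfl
      rw [← h1, hx, htv, map_add, hx0v, p.X_va hx0, add_assoc, p.lz.add_self, add_zero]
    · have h2 : g * t = t * g := mul_inv_eq_iff_eq_mul.1 hgt
      calc x * g * (x : G)⁻¹ * (x * t * (x : G)⁻¹) = x * (g * t) * (x : G)⁻¹ := by group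
        _ = x * (t * g) * (x : G)⁻¹ := by rw [h2]
        _ = _ := by group
    · calc x * g * (x : G)⁻¹ * a * (x * g * (x : G)⁻¹)⁻¹ = x * (g * ((x : G)⁻¹ * a * x) * g⁻¹) * (x : G)⁻¹ := by
            group
        _ = x * (a * z) * (x : G)⁻¹ := by rw [hxa', ga]
        _ = (x * a * (x : G)⁻¹) * (x * z * (x : G)⁻¹) := by group
        _ = a * z := by rw [hxa, hxz]; group
    · intro y hyQ hyA
      have h1 : (x : G)⁻¹ * y * x ∈ Q := by
        have := p.lz.conj_mem (x : G)⁻¹ (by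
          have := Subgroup.mem_centralizer_singleton_iff.1 x⁻¹.2
          exact this) y hyQ
        rwa [inv_inv] at this
      have h2 : (x : G)⁻¹ * y * x ∈ A := mul_mem (mul_mem (inv_mem hxA) hyA) hxA
      obtain ⟨h3, h4⟩ := gD' _ h1 h2
      have e : x * g * (x : G)⁻¹ * y * (x * g * (x : G)⁻¹)⁻¹ =
          x * (g * ((x : G)⁻¹ * y * x) * g⁻¹) * (x : G)⁻¹ := by group
      rw [e]
      exact ⟨p.lz.conj_mem x hxz _ h3, mul_mem (mul_mem hxA h4) (inv_mem hxA)⟩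

end Cfsg.Agent.HNType.Involution
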