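import Cfsg.Agent.HNType.Quot
import Cfsg.Agent.LargeExtra.Perp

/-!
# Linear algebra in the case `HN` (helper344)
-/

set_option autoImplicit false

namespace Cfsg.Agent.HNType.Lin

open Cfsg.Agent.Co2Type.Quad Cfsg.Agent.LargeExtra.Base Cfsg.Agent.LargeExtra.Local
open Cfsg.Agent.LargeExtra.KillNine.EGroup
open Cfsg.Agent.HNType.Iface Cfsg.Agent.HNType.Quot

variable {G : Type*} [Group G] {Q A : Subgroup G} {z a : G} {p : Pair Q z A a}
  {N : Subgroup (p.lz.V ≃ₗ[ZMod 2] p.lz.V)} {σ : p.lz.V ≃ₗ[ZMod 2] p.lz.V} {v w : p.lz.V}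

theorem w_ne (F : HNFacts p N σ v w) : w ≠ 0 := by
  intro h
  have := F.q_w
  rw [h, p.lz.q_zero] at this
  exact absurd this (by decide)

theorem w_ne_v (F : HNFacts p N σ v w) : w ≠ v := by
  intro h
  have := F.q_w
  rw [h, F.q_v] at this
  exact absurd this (by decide)

theorem add_eq_zero_iff {h : Large Q z} {x y : h.V} : x + y = 0 ↔ x = y := by
  constructor
  · intro h1
    calc x = x + (y + y) := by rw [h.add_self, add_zero]
      _ = (x + y) + y := by rw [add_assoc]
      _ = y := by rw [h1, zero_add]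
  · rintro rfl; exact h.add_self _

theorem b_wv (F : HNFacts p N σ v w) : p.lz.b w v = 0 := by rw [p.lz.b_comm]; exact F.b_vw

theorem q_wv (F : HNFacts p N σ v w) : p.lz.q (w + v) = 1 := by
  rw [p.lz.q_add', F.q_w, F.q_v, b_wv F]; rfl

/-- `T = {0, v, w, w + v}` -/
def InT (h : Large Q z) (v w x : h.V) : Prop := x = 0 ∨ x = v ∨ x = w ∨ x = w + v

/-- `T` as a submodule -/
def Tg (h : Large Q z) (v w : h.V) : Submodule (ZMod 2) h.V where
  carrier := {x | InT h v w x}
  zero_mem' := Or.inl rfl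
  add_mem' := by
    have hvv := h.add_self v
    have hww := h.add_self w
    have e1 : v + (w + v) = w := by rw [add_comm w v, ← add_assoc, hvv, zero_add]
    have e2 : w + (w + v) = v := by rw [← add_assoc, hww, zero_add]
    have e3 : w + v + v = w := by rw [add_assoc, hvv, add_zero]
    have e4 : w + v + w = v := by rw [add_comm w v, add_assoc, hww, add_zero]
    have e5 : w + v + (w + v) = 0 := h.add_self _
    intro x y hx hy
    rcases hx with h1 | h1 | h1 | h1 <;> rcases hy with h2 | h2 | h2 | h2 <;> rw [h1, h2] <;>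
      simp only [InT, Set.mem_ofPred_eq, zero_add, add_zero, hvv, hww, e1, e2, e3, e4, e5, true_or, or_true,
        add_comm v w]
  smul_mem' := by
    rintro c x hx
    have hc : c = 0 ∨ c = 1 := by revert c; decide
    rcases hc with rfl | rfl
    · rw [zero_smul]; exact Or.inl rfl
    · rw [one_smul]; exact hx

theorem card_Tg (F : HNFacts p N σ v w) : Nat.card (Tg p.lz v w) = 4 := by
  classical
  have h1 : ((Tg p.lz v w : Submodule (ZMod 2) p.lz.V) : Set p.lz.V) = ({0, v, w, w + v} : Finset p.lz.V) := by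
    ext x
    simp only [SetLike.mem_coe, Finset.coe_insert, Finset.coe_singleton, Set.mem_insert_iff,
      Set.mem_singleton_iff]
    rfl
  show Nat.card ((Tg p.lz v w : Submodule (ZMod 2) p.lz.V) : Set p.lz.V) = 4
  rw [h1, Nat.card_coe_set_eq, Set.ncard_coe_finset]
  have e1 : w + v ≠ 0 := fun h => w_ne_v F (add_eq_zero_iff.1 h)
  have e2 : w + v ≠ v := fun h => w_ne F (by simpa using h)
  have e3 : w + v ≠ w := fun h => F.v_ne (by simpa using h)
  rw [Finset.card_insert_of_notMem, Finset.card_insert_of_notMem, Finset.card_insert_of_notMem,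
    Finset.card_singleton]
  · simp only [Finset.mem_singleton]; exact e3.symm
  · simp only [Finset.mem_insert, Finset.mem_singleton, not_or]
    exact ⟨(w_ne_v F).symm, e2.symm⟩
  · simp only [Finset.mem_insert, Finset.mem_singleton, not_or]
    exact ⟨F.v_ne.symm, (w_ne F).symm, e1.symm⟩

theorem orth_T {h : Large Q z} {v w : h.V} : h.b.orthogonal (Tg h v w) = Sg h v w := by
  ext x
  rw [LinearMap.BilinForm.mem_orthogonal_iff]
  constructor
  · intro h1
    exact ⟨h1 v (Or.inr (Or.inl rfl)), h1 w (Or.inr (Or.inr (Or.inl rfl)))⟩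
  · rintro ⟨h1, h2⟩ y hy
    show h.b y x = 0
    rcases hy with h3 | h3 | h3 | h3 <;> rw [h3]
    · rw [map_zero]; rfl
    · exact h1
    · exact h2
    · rw [map_add, LinearMap.add_apply, h1, h2, add_zero]

theorem card_Sg [Finite G] (F : HNFacts p N σ v w) : Nat.card (Sg p.lz v w) = 64 := by
  have h1 := Cfsg.Agent.LargeExtra.Perp.card_perp p.lz (Tg p.lz v w)
  rw [orth_T, card_Tg F, F.card_V] at h1
  omega

/-- `S^⊥ = T` -/
theorem inT_of_perp [Finite Q] {h : Large Q z} {v w x : h.V} (h0 : ∀ y, InS h v w y → h.b x y = 0) :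
    InT h v w x := by
  have h1 : x ∈ h.b.orthogonal (h.b.orthogonal (Tg h v w)) := by
    rw [orth_T, LinearMap.BilinForm.mem_orthogonal_iff]
    intro y hy
    show h.b y x = 0
    rw [h.b_comm]
    exact h0 y hy
  rw [Cfsg.Agent.LargeExtra.Perp.perp_perp] at h1
  exact h1

theorem inS_of_inT (F : HNFacts p N σ v w) {x : p.lz.V} (h : InT p.lz v w x) : InS p.lz v w x := by
  rcases h with h1 | h1 | h1 | h1 <;> rw [h1]
  · exact ⟨map_zero _, map_zero _⟩
  · exact ⟨p.lz.b_self _, b_wv F⟩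
  · exact ⟨F.b_vw, p.lz.b_self _⟩
  · exact ⟨by rw [map_add, F.b_vw, p.lz.b_self, add_zero], by rw [map_add, p.lz.b_self, b_wv F, add_zero]⟩

theorem isom (F : HNFacts p N σ v w) {f : p.lz.V ≃ₗ[ZMod 2] p.lz.V} (hf : f ∈ N) (x y : p.lz.V) :
    p.lz.b (f x) (f y) = p.lz.b x y := by
  obtain ⟨c, rfl⟩ := F.N_le hf
  exact p.lz.b_act c x y

theorem b_vf (F : HNFacts p N σ v w) {f : p.lz.V ≃ₗ[ZMod 2] p.lz.V} (hf : f ∈ N) (hv : f v = v)
    (x : p.lz.V) : p.lz.b v (f x) = p.lz.b v x := by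
  have := isom F hf v x
  rwa [hv] at this

theorem b_wf (F : HNFacts p N σ v w) {f : p.lz.V ≃ₗ[ZMod 2] p.lz.V} (hf : f ∈ N) (hv : f v = v)
    (x : p.lz.V) : (f w = w ∧ p.lz.b w (f x) = p.lz.b w x) ∨
      (f w = w + v ∧ p.lz.b w (f x) = p.lz.b w x + p.lz.b v x) := by
  have h1 := isom F hf w x
  rcases F.K_w f hf hv with h2 | h2
  · left
    rw [h2] at h1
    exact ⟨h2, h1⟩
  · right
    rw [h2, map_add, LinearMap.add_apply, b_vf F hf hv] at h1
    refine ⟨h2, ?_⟩
    rw [← h1, add_assoc, CharTwo.add_self_eq_zero, add_zero]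

theorem inS_map (F : HNFacts p N σ v w) {f : p.lz.V ≃ₗ[ZMod 2] p.lz.V} (hf : f ∈ N) (hv : f v = v)
    {x : p.lz.V} (hx : InS p.lz v w x) : InS p.lz v w (f x) := by
  refine ⟨by rw [b_vf F hf hv]; exact hx.1, ?_⟩
  rcases b_wf F hf hv x with ⟨-, h⟩ | ⟨-, h⟩
  · rw [h]; exact hx.2
  · rw [h, hx.1, hx.2, add_zero]

theorem sigma_S (F : HNFacts p N σ v w) {x : p.lz.V} (hx : InS p.lz v w x) : σ x = x := by
  rw [F.sigma_def, hx.1, hx.2, add_zero, zero_smul, zero_smul, add_zero, add_zero]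

theorem sigma_v (F : HNFacts p N σ v w) : σ v = v := sigma_S F (inS_of_inT F (Or.inr (Or.inl rfl)))

theorem sigma_w (F : HNFacts p N σ v w) : σ w = w := sigma_S F (inS_of_inT F (Or.inr (Or.inr (Or.inl rfl))))

theorem sigma_sq (F : HNFacts p N σ v w) : σ * σ = 1 := by
  ext x
  show σ (σ x) = x
  have h1 : σ (σ x) = σ x + (p.lz.b v x + p.lz.b w x) • v + (p.lz.b v x) • w := by
    conv_lhs => rw [F.sigma_def x]
    rw [map_add, map_add, map_smul, map_smul, sigma_v F, sigma_w F]
  rw [h1]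
  conv_lhs => rw [F.sigma_def x]
  have h2 : ∀ y u u' : p.lz.V, y + u + u' + u + u' = y := by
    intro y u u'
    calc y + u + u' + u + u' = y + (u + u) + (u' + u') := by abel
      _ = y := by rw [p.lz.add_self, p.lz.add_self, add_zero, add_zero]
  exact h2 _ _ _

theorem sigma_comm (F : HNFacts p N σ v w) {f : p.lz.V ≃ₗ[ZMod 2] p.lz.V} (hf : f ∈ N) (hv : f v = v)
    (x : p.lz.V) : f (σ x) = σ (f x) := by
  rw [F.sigma_def, F.sigma_def, map_add, map_add, map_smul, map_smul, hv, b_vf F hf hv]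
  have hz : ∀ c : ZMod 2, c = 0 ∨ c = 1 := by decide
  rcases b_wf F hf hv x with ⟨h1, h2⟩ | ⟨h1, h2⟩
  · rw [h1, h2]
  · rw [h1, h2]
    rcases hz (p.lz.b v x) with h3 | h3 <;> rcases hz (p.lz.b w x) with h4 | h4 <;> rw [h3, h4]
    · simp
    · simp
    · have e1 : (1 + 0 : ZMod 2) = 1 := rfl
      have e2 : (1 + (0 + 1) : ZMod 2) = 0 := rfl
      rw [e1, e2, one_smul, one_smul, zero_smul, add_zero, one_smul]
      calc f x + v + (w + v) = f x + w + (v + v) := by abel
        _ = _ := by rw [p.lz.add_self, add_zero]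
    · have e1 : (1 + 1 : ZMod 2) = 0 := rfl
      have e2 : (1 + 0 : ZMod 2) = 1 := rfl
      rw [e1, e2, one_smul, one_smul, zero_smul, add_zero, one_smul]
      abel

/-- elements of `H` fixing `v` and moving a large subspace of `S` modulo `v` only -/
theorem one_or_sigma (F : HNFacts p N σ v w) {f : p.lz.V ≃ₗ[ZMod 2] p.lz.V} (hf : f ∈ p.H) (hv : f v = v)
    (U : Submodule (ZMod 2) p.lz.V) (hU : 32 ≤ Nat.card U)
    (hU' : ∀ x ∈ U, InS p.lz v w x ∧ (f x = x ∨ f x = x + v)) : f = 1 ∨ f = σ := by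
  rcases F.H_le f hf with h1 | h1
  · left; exact F.K_small f h1 hv U hU hU'
  · right
    have h2 : σ * f = 1 := by
      apply F.K_small _ h1 ?_ U hU
      · intro x hx
        obtain ⟨h3, h4⟩ := hU' x hx
        refine ⟨h3, ?_⟩
        rcases h4 with h5 | h5
        · left
          show σ (f x) = x
          rw [h5, sigma_S F h3]
        · right
          show σ (f x) = x + v
          rw [h5, map_add, sigma_S F h3, sigma_v F]
      · show σ (f v) = v
        rw [hv, sigma_v F]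
    calc f = (σ * σ) * f := by rw [sigma_sq F, one_mul]
      _ = σ * (σ * f) := by rw [mul_assoc]
      _ = σ := by rw [h2, mul_one]

end Cfsg.Agent.HNType.Lin
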