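import Cfsg.Agent.HNType.Involution

/-!
# The case `HN`: the structure of `C_G(t) / ⟨t⟩` (helper344)
-/

set_option autoImplicit false

namespace Cfsg.Agent.HNType.Local

open Cfsg.Agent.Co2Type.Quad Cfsg.Agent.LargeExtra.Base
open Cfsg.Agent.LargeExtra.KillNine Cfsg.Agent.LargeExtra.KillNine.EGroup
open Cfsg.Agent.HNType.Iface Cfsg.Agent.HNType.Quot Cfsg.Agent.HNType.Lin Cfsg.Agent.HNType.Involution

variable {G : Type*} [Group G] {Q A : Subgroup G} {z a : G}

/-- `|R ∩ C(t)| = 2 |im R|` for `t ∈ R` -/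
theorem card_im [Finite G] {t : G} (ht : t * t = 1) (ht1 : t ≠ 1) {R : Subgroup G} (htR : t ∈ R) :
    Nat.card ↥(R ⊓ Y t) = 2 * Nat.card (im t R) := by
  classical
  let f : ↥(R.subgroupOf (Y t)) →* Gam t := (mk t).comp (R.subgroupOf (Y t)).subtype
  have hr : f.range = im t R := by
    ext x
    constructor
    · rintro ⟨y, rfl⟩
      exact ⟨y, y.2, rfl⟩
    · rintro ⟨y, hy, rfl⟩
      exact ⟨⟨y, hy⟩, rfl⟩
  have hk : Nat.card f.ker = 2 := by
    have htm : (⟨tY t, htR⟩ : ↥(R.subgroupOf (Y t))) ∈ f.ker := by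
      rw [MonoidHom.mem_ker]
      exact mk_eq_one.2 (Subgroup.mem_zpowers _)
    rw [Nat.card_eq_two_iff]
    refine ⟨1, ⟨_, htm⟩, ?_, ?_⟩
    · intro h
      apply ht1
      exact (congrArg (fun x : f.ker => (((x : ↥(R.subgroupOf (Y t))) : Y t) : G)) h).symm
    · ext x
      simp only [Set.mem_insert_iff, Set.mem_singleton_iff, Set.mem_univ, iff_true]
      rcases (mem_Zt ht).1 (mk_eq_one.1 (MonoidHom.mem_ker.1 x.2)) with h | h
      · left; exact Subtype.ext (Subtype.ext (Subtype.ext h))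
      · right; exact Subtype.ext (Subtype.ext (Subtype.ext h))
  have h1 := Subgroup.card_eq_card_quotient_mul_card_subgroup f.ker
  have h2 : Nat.card (↥(R.subgroupOf (Y t)) ⧸ f.ker) = Nat.card f.range :=
    Nat.card_congr (QuotientGroup.quotientKerEquivRange f).toEquiv
  have h3 : Nat.card ↥(R.subgroupOf (Y t)) = Nat.card ↥(R ⊓ Y t) := by
    rw [← Subgroup.inf_subgroupOf_right]
    exact Nat.card_congr (Subgroup.subgroupOfEquivOfLe inf_le_right).toEquiv
  rw [← h3, h1, h2, hr, hk, mul_comm]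

variable {p : Pair Q z A a} {N : Subgroup (p.lz.V ≃ₗ[ZMod 2] p.lz.V)}
  {σ : p.lz.V ≃ₗ[ZMod 2] p.lz.V} {v w : p.lz.V} {t g : G}

section

variable (F : HNFacts p N σ v w) (hσ : σ ∉ p.H) (T : TG p v t g)

include F in
theorem t_ne (T : TG p v t g) : t ≠ 1 ∧ t ≠ z := by
  constructor
  · intro h
    exact F.v_ne (by rw [← T.pr]; exact p.lz.pr_eq_zero.2 (Or.inl h))
  · intro h
    exact F.v_ne (by rw [← T.pr]; exact p.lz.pr_eq_zero.2 (Or.inr h))

include F in
theorem not_conj {x : Q} (hx : p.lz.pr x = v) (k : G) : k * z * k⁻¹ ≠ x := by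
  intro h
  obtain ⟨f, hf, hf'⟩ := F.fus x (isConj_iff.2 ⟨k, h⟩) (by rw [hx]; exact F.v_ne)
  exact F.v_not f hf (by rw [← hf', hx])

theorem tz_comm (T : TG p v t g) : t * z = z * t := p.lz.comm_z t T.htQ

theorem zY (T : TG p v t g) : z ∈ Y t := mem_Y.2 (tz_comm T).symm

theorem aY (T : TG p v t g) : a ∈ Y t := mem_Y.2 (p.comm_D p.a_mem p.la.z_mem T.htQ T.htA)

theorem gY (T : TG p v t g) : g ∈ Y t := mem_Y.2 T.comm

/-- the element `z̄` of `Γ` -/
def zb (T : TG p v t g) : Gam t := mk t ⟨z, zY T⟩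

theorem pr_t_mul_z (T : TG p v t g) : p.lz.pr (⟨t, T.htQ⟩ * ⟨z, p.lz.z_mem⟩) = v := by
  rw [p.lz.pr_mul, T.pr, show p.lz.pr ⟨z, p.lz.z_mem⟩ = 0 from p.lz.pr_eq_zero.2 (Or.inr rfl), add_zero]

include F in
/-- commuting with `z̄` -/
theorem comm_zb (T : TG p v t g) (y : Y t) : mk t y * zb T = zb T * mk t y ↔ (y : G) * z = z * y := by
  rw [zb, ← map_mul, ← map_mul, mk_eq_mk T.sq]
  constructor
  · rintro (h | h)
    · exact h
    · exfalso
      have h1 : (y : G) * z = z * y * t := h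
      have h2 : (y : G) * t = t * y := mem_Y.1 y.2
      apply not_conj F (pr_t_mul_z T) (y : G)
      show (y : G) * z * (y : G)⁻¹ = t * z
      rw [h1, mul_assoc z, h2, tz_comm T]; group
  · intro h
    left; exact h

theorem mem_C_of {y : Y t} (h : (y : G) * z = z * y) : (y : G) ∈ Subgroup.centralizer ({z} : Set G) :=
  Subgroup.mem_centralizer_singleton_iff.2 h

/-- elements of `C(z) ∩ C(t)` fix `v` -/
theorem act_v (T : TG p v t g) (y : Y t) (h : (y : G) * z = z * y) :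
    p.lz.act ⟨y, mem_C_of h⟩ v = v := by
  rw [← T.pr]
  apply Pair.act_pr_coe
  show (y : G) * t * (y : G)⁻¹ = t
  rw [mem_Y.1 y.2]; group

include F hσ in
theorem H_eq {f : p.lz.V ≃ₗ[ZMod 2] p.lz.V} (hf : f ∈ p.H) : f ∈ N := by
  rcases F.H_le f hf with h | h
  · exact h
  · exfalso
    apply hσ
    have h1 := p.H.mul_mem (F.N_le h) (p.H.inv_mem hf)
    rwa [mul_inv_cancel_right] at h1

include F in
/-- elements of `N_v` lift to `C(z) ∩ C(t)` -/
theorem lift (T : TG p v t g) {f : p.lz.V ≃ₗ[ZMod 2] p.lz.V} (hf : f ∈ N) (hv : f v = v) :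
    ∃ (y : Y t) (hy : (y : G) * z = z * y), p.lz.act ⟨y, mem_C_of hy⟩ = f := by
  obtain ⟨c, hcx⟩ := F.N_le hf
  have hcz : (c : G) * z = z * c := Subgroup.mem_centralizer_singleton_iff.1 c.2
  have h1 : p.lz.act c (p.lz.pr ⟨t, T.htQ⟩) = p.lz.pr ⟨t, T.htQ⟩ := by rw [hcx, T.pr, hv]
  rw [p.lz.act_pr, p.lz.pr_eq_pr, p.lz.conjQ_coe] at h1
  rcases h1 with h1 | h1
  · exact ⟨⟨c, mem_Y.2 (mul_inv_eq_iff_eq_mul.1 h1)⟩, hcz, hcx⟩
  · obtain ⟨y, hy, hyt⟩ := exists_not_comm p.lz T.htQ (t_ne F T).1 (t_ne F T).2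
    have hyC : y ∈ Subgroup.centralizer ({z} : Set G) :=
      Subgroup.mem_centralizer_singleton_iff.2 (p.lz.comm_z y hy)
    have hycY : y * (c : G) ∈ Y t := by
      rw [mem_Y]
      have h1' : (c : G) * t = t * z * c := mul_inv_eq_iff_eq_mul.1 h1
      calc y * (c : G) * t = y * (c * t) := by group
        _ = y * t * z * c := by rw [h1']; group
        _ = t * y * (z * z) * c := by rw [hyt]; group
        _ = t * (y * c) := by rw [p.lz.z_sq]; group
    have hycz : y * (c : G) * z = z * (y * c) := by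
      rw [mul_assoc, hcz, ← mul_assoc, p.lz.comm_z y hy, mul_assoc]
    refine ⟨⟨y * c, hycY⟩, hycz, ?_⟩
    have e : (⟨y * (c : G), mem_C_of (y := ⟨y * c, hycY⟩) hycz⟩ : Subgroup.centralizer ({z} : Set G)) =
      ⟨y, hyC⟩ * c := rfl
    show p.lz.act ⟨y * (c : G), mem_C_of (y := ⟨y * c, hycY⟩) hycz⟩ = f
    rw [e, map_mul, p.lz.act_mem _ hy, one_mul, hcx]

/-- membership of `r ∈ Q` in `C(t)` -/
theorem Q_mem_Y (T : TG p v t g) (r : Q) : (r : G) ∈ Y t ↔ p.lz.b v (p.lz.pr r) = 0 := by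
  rw [← T.pr, p.lz.b_pr, mem_Y]
  exact eq_comm

/-- `B` -/
noncomputable abbrev Bg (p : Pair Q z A a) (v w : p.lz.V) : Subgroup G := Yg p.lz (Sg p.lz v w)

theorem B_le_Y (T : TG p v t g) : Bg p v w ≤ Y t := by
  rintro x ⟨hxQ, hx⟩
  exact (Q_mem_Y T ⟨x, hxQ⟩).2 hx.1

include F in
theorem t_mem_B (T : TG p v t g) : t ∈ Bg p v w :=
  ⟨T.htQ, by rw [T.pr]; exact inS_of_inT F (Or.inr (Or.inl rfl))⟩

include F hσ in
/-- an element of `C(z) ∩ C(t)` commuting with `B` modulo `t` lies in `Q` -/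
theorem mem_Q_of (T : TG p v t g) (y : Y t) (h : (y : G) * z = z * y)
    (hy : ∀ b ∈ Bg p v w, (y : G) * b = b * y ∨ (y : G) * b = b * y * t) [Finite G] : (y : G) ∈ Q := by
  apply p.lz.mem_of_act ⟨y, mem_C_of h⟩
  apply F.K_small _ (H_eq F hσ ⟨_, rfl⟩) (act_v T y h) (Sg p.lz v w)
  · rw [card_Sg F]; norm_num
  · intro x hx
    refine ⟨hx, ?_⟩
    obtain ⟨b, rfl⟩ := p.lz.pr_surjective x
    have hbB : (b : G) ∈ Bg p v w := (coe_mem_Yg p.lz _).2 hx
    have hbt : (t : G) * y = y * t := (mem_Y.1 y.2).symm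
    rcases hy b hbB with h1 | h1
    · left
      apply Pair.act_pr_coe
      show (y : G) * b * (y : G)⁻¹ = b
      rw [h1]; group
    · right
      rw [← T.pr, ← p.lz.pr_mul]
      apply Pair.act_pr_coe
      show (y : G) * b * (y : G)⁻¹ = b * t
      rw [h1, mul_assoc _ (y : G) t, ← hbt]; group

include F in
/-- elements of `Q` commuting modulo `t` commute -/
theorem comm_of_mod (T : TG p v t g) {x y : G} (hx : x ∈ Q) (hy : y ∈ Q)
    (h : x * y = y * x ∨ x * y = y * x * t) : x * y = y * x := by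
  rcases h with h | h
  · exact h
  · rcases p.lz.comm x hx y hy with h1 | h1
    · exact h1
    · exfalso
      rw [h1] at h
      exact (t_ne F T).2 (mul_left_cancel h).symm

/-- commuting in `Γ` -/
theorem mk_comm (T : TG p v t g) {x y : Y t} :
    mk t x * mk t y = mk t y * mk t x ↔ ((x : G) * y = y * x ∨ (x : G) * y = y * x * t) := by
  rw [← map_mul, ← map_mul, mk_eq_mk T.sq]
  rfl

end

end Cfsg.Agent.HNType.Local
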