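import Cfsg.Agent.HNType.Lin
import Cfsg.Agent.LargeExtra.TransferOrbit
import Cfsg.Agent.LargeExtra.FlipOuter

/-!
# The case `HN`: the element `σ` is not induced (helper344)
-/

set_option autoImplicit false

namespace Cfsg.Agent.HNType.Split

open Cfsg.Agent.Co2Type.Quad Cfsg.Agent.LargeExtra.Base Cfsg.Agent.LargeExtra.Local
open Cfsg.Agent.LargeExtra.KillNine.EGroup Cfsg.Agent.LargeExtra.KillNine
open Cfsg.Agent.HNType.Iface Cfsg.Agent.HNType.Quot Cfsg.Agent.HNType.Lin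

variable {G : Type*} [Group G] {Q A : Subgroup G} {z a : G}

/-- the preimage of `N` in `C_G(z)` -/
noncomputable def C0 (h : Large Q z) (N : Subgroup (h.V ≃ₗ[ZMod 2] h.V)) : Subgroup G :=
  (N.comap h.act).map (Subgroup.centralizer ({z} : Set G)).subtype

theorem mem_C0 {h : Large Q z} {N : Subgroup (h.V ≃ₗ[ZMod 2] h.V)} {x : G} :
    x ∈ C0 h N ↔ ∃ hx : x ∈ Subgroup.centralizer ({z} : Set G), h.act ⟨x, hx⟩ ∈ N := by
  constructor
  · rintro ⟨y, hy, rfl⟩
    exact ⟨y.2, hy⟩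
  · rintro ⟨hx, hx'⟩
    exact ⟨⟨x, hx⟩, hx', rfl⟩

theorem C0_le {h : Large Q z} {N : Subgroup (h.V ≃ₗ[ZMod 2] h.V)} :
    C0 h N ≤ Subgroup.centralizer ({z} : Set G) := fun _ hx => (mem_C0.1 hx).1

variable {p : Pair Q z A a}
  {N : Subgroup (p.lz.V ≃ₗ[ZMod 2] p.lz.V)} {σ : p.lz.V ≃ₗ[ZMod 2] p.lz.V} {v w : p.lz.V}

theorem sigma_ne (F : HNFacts p N σ v w) : σ ≠ 1 := fun h => F.sigma_not (h ▸ one_mem _)

theorem relIndex_C0 (F : HNFacts p N σ v w) (hσ : σ ∈ p.H) :
    (C0 p.lz N).relIndex (Subgroup.centralizer ({z} : Set G)) = 2 := by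
  obtain ⟨c, hc⟩ := hσ
  rw [Subgroup.relIndex, Subgroup.index_eq_two_iff]
  refine ⟨c, fun b => ?_⟩
  have hmem : ∀ x : Subgroup.centralizer ({z} : Set G),
      x ∈ (C0 p.lz N).subgroupOf (Subgroup.centralizer ({z} : Set G)) ↔ p.lz.act x ∈ N := by
    intro x
    rw [Subgroup.mem_subgroupOf, mem_C0]
    exact ⟨fun ⟨_, h⟩ => h, fun h => ⟨x.2, h⟩⟩
  rw [hmem, hmem, map_mul, hc]
  have h1 := F.H_le _ (⟨b⁻¹, rfl⟩ : p.lz.act b⁻¹ ∈ p.H)
  rw [map_inv] at h1
  rcases h1 with h1 | h1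
  · right
    rw [inv_mem_iff] at h1
    refine ⟨h1, fun h2 => F.sigma_not ?_⟩
    have := N.mul_mem (N.inv_mem h1) h2
    rwa [inv_mul_cancel_left] at this
  · left
    have h2 : p.lz.act b * σ ∈ N := by
      have h3 := N.inv_mem h1
      have h4 : (σ * (p.lz.act b)⁻¹)⁻¹ = p.lz.act b * σ := by
        rw [mul_inv_rev, inv_inv, inv_eq_of_mul_eq_one_left (sigma_sq F)]
      rwa [h4] at h3
    refine ⟨h2, fun h3 => F.sigma_not ?_⟩
    have := N.mul_mem (N.inv_mem h3) h2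
    rwa [inv_mul_cancel_left] at this

/-- `σ x = x` only for `x ∈ S` -/
theorem sigma_fix (F : HNFacts p N σ v w) {x : p.lz.V} (hx : σ x = x) : InS p.lz v w x := by
  rw [F.sigma_def, add_assoc] at hx
  have h1 : (p.lz.b v x + p.lz.b w x) • v + (p.lz.b v x) • w = 0 := by simpa using hx
  have hz : ∀ c : ZMod 2, c = 0 ∨ c = 1 := by decide
  rcases hz (p.lz.b v x) with h2 | h2 <;> rcases hz (p.lz.b w x) with h3 | h3
  · exact ⟨h2, h3⟩
  · exfalso
    rw [h2, h3] at h1
    simp only [zero_add, one_smul, zero_smul, add_zero] at h1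
    exact F.v_ne h1
  · exfalso
    rw [h2, h3] at h1
    simp only [add_zero, one_smul] at h1
    rw [add_comm] at h1
    exact w_ne_v F (add_eq_zero_iff.1 h1)
  · exfalso
    rw [h2, h3] at h1
    rw [show (1 + 1 : ZMod 2) = 0 from rfl, zero_smul, zero_add, one_smul] at h1
    exact w_ne F h1

/-- `σ m + m = v` -/
theorem sigma_eq_v (F : HNFacts p N σ v w) {m : p.lz.V} (hm : σ m + m = v) :
    p.lz.b v m = 0 ∧ p.lz.b w m = 1 := by
  have h0 : (p.lz.b v m + p.lz.b w m) • v + (p.lz.b v m) • w = v := by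
    rw [F.sigma_def] at hm
    refine Eq.trans ?_ hm
    calc (p.lz.b v m + p.lz.b w m) • v + (p.lz.b v m) • w
        = (p.lz.b v m + p.lz.b w m) • v + (p.lz.b v m) • w + (m + m) := by rw [p.lz.add_self, add_zero]
      _ = _ := by abel
  have hz : ∀ c : ZMod 2, c = 0 ∨ c = 1 := by decide
  rcases hz (p.lz.b v m) with h2 | h2 <;> rcases hz (p.lz.b w m) with h3 | h3
  · exfalso
    rw [h2, h3] at h0
    simp only [zero_smul, add_zero] at h0
    exact F.v_ne h0.symm
  · exact ⟨h2, h3⟩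
  · exfalso
    rw [h2, h3] at h0
    simp only [add_zero, one_smul] at h0
    exact w_ne F (by simpa using h0)
  · exfalso
    rw [h2, h3] at h0
    rw [show (1 + 1 : ZMod 2) = 0 from rfl, zero_smul, zero_add, one_smul] at h0
    exact w_ne_v F h0

/-- if `x` commutes with `y ∈ Q` then `act x` fixes `pr y` -/
theorem act_fix {h : Large Q z} {x : G} (hx : x ∈ Subgroup.centralizer ({z} : Set G)) {y : Q}
    (hxy : x * y = y * x) : h.act ⟨x, hx⟩ (h.pr y) = h.pr y := by
  apply Pair.act_pr_coe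
  show x * (y : G) * x⁻¹ = y
  rw [hxy]; group

theorem z_mem_B {h : Large Q z} {v w : h.V} : z ∈ Yg h (Sg h v w) := z_mem_Yg h _

/-- the centraliser of `B` -/
theorem cent_B [Finite G] (F : HNFacts p N σ v w) {u : G}
    (huC : u ∈ Subgroup.centralizer ({z} : Set G)) (hu : p.lz.act ⟨u, huC⟩ = σ)
    (huB : ∀ y ∈ Yg p.lz (Sg p.lz v w), u * y = y * u) {x : G}
    (hx : ∀ y ∈ Yg p.lz (Sg p.lz v w), x * y = y * x) :
    x ∈ Yg p.lz (Tg p.lz v w) ∨ u⁻¹ * x ∈ Yg p.lz (Tg p.lz v w) := by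
  have key : ∀ x : G, (∀ y ∈ Yg p.lz (Sg p.lz v w), x * y = y * x) → x ∈ Q → x ∈ Yg p.lz (Tg p.lz v w) := by
    intro x hx hxQ
    refine ⟨hxQ, ?_⟩
    apply inT_of_perp
    intro y hy
    obtain ⟨y, rfl⟩ := p.lz.pr_surjective y
    exact (p.lz.b_pr _ _).2 (hx y ((coe_mem_Yg p.lz _).2 hy))
  have hxC : x ∈ Subgroup.centralizer ({z} : Set G) :=
    Subgroup.mem_centralizer_singleton_iff.2 (hx z z_mem_B)
  have hfix : ∀ s, InS p.lz v w s → p.lz.act ⟨x, hxC⟩ s = s := by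
    intro s hs
    obtain ⟨y, rfl⟩ := p.lz.pr_surjective s
    exact act_fix hxC (hx y ((coe_mem_Yg p.lz _).2 hs))
  rcases one_or_sigma F (⟨_, rfl⟩ : p.lz.act ⟨x, hxC⟩ ∈ p.H) (hfix v (inS_of_inT F (Or.inr (Or.inl rfl))))
    (Sg p.lz v w) (by rw [card_Sg F]; norm_num) (fun s hs => ⟨hs, Or.inl (hfix s hs)⟩) with h1 | h1
  · left
    exact key x hx (p.lz.mem_of_act _ h1)
  · right
    apply key
    · intro y hy
      have := huB y hy
      calc u⁻¹ * x * y = u⁻¹ * (x * y) := by group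
        _ = u⁻¹ * (y * x) := by rw [hx y hy]
        _ = u⁻¹ * (y * u) * u⁻¹ * x := by group
        _ = u⁻¹ * (u * y) * u⁻¹ * x := by rw [this]
        _ = y * (u⁻¹ * x) := by group
    · have h2 : p.lz.act (⟨u, huC⟩⁻¹ * ⟨x, hxC⟩) = 1 := by
        rw [map_mul, map_inv, hu, h1, inv_mul_cancel]
      exact p.lz.mem_of_act _ h2

/-- **Claim K'.** -/
theorem claim [Finite G] (F : HNFacts p N σ v w) {g : G}
    (hgC : g * z * g⁻¹ ∈ Subgroup.centralizer ({z} : Set G)) (hg : p.lz.act ⟨g * z * g⁻¹, hgC⟩ = σ)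
    (h32 : 32 ≤ Nat.card (sub p.lz (Subgroup.centralizer ({g * z * g⁻¹} : Set G))))
    (hv : v ∈ sub p.lz (Subgroup.centralizer ({g * z * g⁻¹} : Set G)))
    (hd : ∀ d : Q, (d : G) * (g * z * g⁻¹) = (g * z * g⁻¹) * d → (d : G) * d = 1 →
      (∀ r ∈ Q, r * (g * z * g⁻¹) = (g * z * g⁻¹) * r → r * d = d * r) →
      p.lz.pr d = 0 ∨ p.lz.pr d = v) : False := by
  classical
  set z' := g * z * g⁻¹ with hz'
  set A' := Q.map (MulAut.conj g).toMonoidHom with hA'
  have la : Large A' z' := p.lz.conj g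
  have hσ1 : p.lz.act ⟨z', hgC⟩ ≠ 1 := by rw [hg]; exact sigma_ne F
  have hz'Q : z' ∉ Q := fun h => hσ1 (p.lz.act_mem _ h)
  have hzz : z' * z = z * z' := Subgroup.mem_centralizer_singleton_iff.1 hgC
  -- `z ∉ A'`
  have hzA : z ∉ A' := by
    intro h1
    obtain ⟨y, hy, hyz⟩ := h1
    have h2 : g * y * g⁻¹ = z := hyz
    have h3 : g⁻¹ * z * (g⁻¹)⁻¹ = y := by rw [← h2]; group
    have h4 : g⁻¹ * z * (g⁻¹)⁻¹ ∈ Q := by rw [h3]; exact hy
    have h5 : g⁻¹ * z * (g⁻¹)⁻¹ ≠ z := by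
      intro h6
      apply hz'Q
      have : z' = z := by
        rw [hz']
        calc g * z * g⁻¹ = g * (g⁻¹ * z * (g⁻¹)⁻¹) * g⁻¹ := by rw [h6]
          _ = z := by group
      rw [this]; exact p.lz.z_mem
    have p2 := pair_of_conj p.lz h4 h5
    obtain ⟨y', hy', hyz'⟩ := p2.z_mem
    apply hz'Q
    have h6 : g⁻¹ * y' * (g⁻¹)⁻¹ = z := hyz'
    have h7 : z' = y' := by rw [hz', ← h6]; group
    rw [h7]; exact hy'
  -- `D' = Q ∩ A'`
  have hD : ∀ d : Q, (d : G) ∈ A' → p.lz.pr d = 0 ∨ p.lz.pr d = v := by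
    intro d hdA
    have h1 : (d : G) * z' = z' * d := la.comm_z d hdA
    refine hd d h1 ?_ ?_
    · rcases p.lz.sq d d.2 with h2 | h2
      · exact h2
      · exact absurd (h2 ▸ A'.mul_mem hdA hdA) hzA
    · intro r hr hrz
      rcases p.lz.comm r hr d d.2 with h2 | h2
      · exact h2
      · exfalso
        apply hzA
        have h3 : r * d * r⁻¹ ∈ A' := la.conj_mem r hrz d hdA
        have h4 : r * d * r⁻¹ = d * z := by
          rw [h2, mul_assoc _ z, ← (p.lz.commz hr).inv_left.eq]; group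
        rw [h4] at h3
        have := A'.mul_mem (A'.inv_mem hdA) h3
        rwa [inv_mul_cancel_left] at this
  -- elements of `Q` centralising `z'` lie over `S`
  have hRS : ∀ r : Q, (r : G) * z' = z' * r → InS p.lz v w (p.lz.pr r) := by
    intro r hr
    apply sigma_fix F
    rw [← hg]
    exact act_fix hgC hr.symm
  -- `X' = C_{A'}(z)`
  set X' := Subgroup.centralizer ({z} : Set G) ⊓ A' with hX'
  have hX'le : X' ≤ Subgroup.centralizer ({z} : Set G) := inf_le_left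
  have hact : ∀ x (hx : x ∈ X'), p.lz.act ⟨x, hX'le hx⟩ = 1 ∨ p.lz.act ⟨x, hX'le hx⟩ = σ := by
    intro x hx
    have hxz : x * z = z * x := Subgroup.mem_centralizer_singleton_iff.1 (hX'le hx)
    have hxA : x ∈ A' := (Subgroup.mem_inf.1 hx).2
    have key : ∀ r : Q, (r : G) * z' = z' * r →
        p.lz.act ⟨x, hX'le hx⟩ (p.lz.pr r) = p.lz.pr r ∨
        p.lz.act ⟨x, hX'le hx⟩ (p.lz.pr r) = p.lz.pr r + v := by
      intro r hr
      have h1 : x * r * x⁻¹ * (r : G)⁻¹ ∈ Q :=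
        Q.mul_mem (p.lz.conj_mem x hxz r r.2) (Q.inv_mem r.2)
      have h2 : x * r * x⁻¹ * (r : G)⁻¹ ∈ A' := by
        have h3 : (r : G) * x⁻¹ * (r : G)⁻¹ ∈ A' := la.conj_mem r hr _ (A'.inv_mem hxA)
        have := A'.mul_mem hxA h3
        have e : x * ((r : G) * x⁻¹ * (r : G)⁻¹) = x * r * x⁻¹ * (r : G)⁻¹ := by group
        rwa [e] at this
      have h3 : p.lz.act ⟨x, hX'le hx⟩ (p.lz.pr r) =
          p.lz.pr ⟨x * r * x⁻¹ * (r : G)⁻¹, h1⟩ + p.lz.pr r := by
        rw [← p.lz.pr_mul]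
        apply Pair.act_pr_coe
        show x * (r : G) * x⁻¹ = x * r * x⁻¹ * (r : G)⁻¹ * r
        group
      rcases hD ⟨_, h1⟩ h2 with h4 | h4
      · left; rw [h3, h4, zero_add]
      · right; rw [h3, h4, add_comm]
    have hfv : p.lz.act ⟨x, hX'le hx⟩ v = v := by
      obtain ⟨r, hr, hrv⟩ := hv
      have hr' := Subgroup.mem_centralizer_singleton_iff.1 hr
      rcases key r hr' with h1 | h1
      · rw [← hrv]; exact h1
      · exfalso
        rw [hrv, p.lz.add_self] at h1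
        apply F.v_ne
        exact (p.lz.act ⟨x, hX'le hx⟩).map_eq_zero_iff.1 h1
    refine one_or_sigma F (⟨_, rfl⟩ : p.lz.act ⟨x, hX'le hx⟩ ∈ p.H) hfv _ h32 ?_
    rintro _ ⟨r, hr, rfl⟩
    have hr' := Subgroup.mem_centralizer_singleton_iff.1 hr
    exact ⟨hRS r hr', key r hr'⟩
  -- `|X'| ≤ 4`
  have h1 := card_img p.lz hX'le
  have h2 : Nat.card (img p.lz X') ≤ 2 := by
    have h3 : ((img p.lz X' : Subgroup (p.lz.V ≃ₗ[ZMod 2] p.lz.V)) : Set (p.lz.V ≃ₗ[ZMod 2] p.lz.V)) ⊆ {1, σ} := by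
      rintro f ⟨c, hc, rfl⟩
      rcases hact c hc with h4 | h4
      · left; exact h4
      · right; exact h4
    have h4 := Set.ncard_le_ncard h3 (Set.toFinite _)
    exact h4.trans ((Set.ncard_insert_le _ _).trans (by rw [Set.ncard_singleton]))
  have h3 : Nat.card ↥(X' ⊓ Q) ≤ 2 := by
    have hinj : Function.Injective (fun x : ↥(X' ⊓ Q) =>
        (⟨p.lz.pr ⟨x, (Subgroup.mem_inf.1 x.2).2⟩, by
          rcases hD ⟨x, (Subgroup.mem_inf.1 x.2).2⟩
            (Subgroup.mem_inf.1 (Subgroup.mem_inf.1 x.2).1).2 with h | h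
          · left; exact h
          · right; exact h⟩ : ({0, v} : Set p.lz.V))) := by
      intro x y hxy
      have h4 : p.lz.pr ⟨x, (Subgroup.mem_inf.1 x.2).2⟩ = p.lz.pr ⟨y, (Subgroup.mem_inf.1 y.2).2⟩ :=
        congrArg (fun t : ({0, v} : Set p.lz.V) => (t : p.lz.V)) hxy
      apply Subtype.ext
      rcases p.lz.pr_eq_pr.1 h4 with h5 | h5
      · exact h5
      · exfalso
        apply hzA
        have h6 : (x : G) = y * z := h5
        have hxA : (x : G) ∈ A' := (Subgroup.mem_inf.1 (Subgroup.mem_inf.1 x.2).1).2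
        have hyA : (y : G) ∈ A' := (Subgroup.mem_inf.1 (Subgroup.mem_inf.1 y.2).1).2
        have := A'.mul_mem (A'.inv_mem hyA) hxA
        rwa [h6, inv_mul_cancel_left] at this
    have h4 := Nat.card_le_card_of_injective _ hinj
    refine h4.trans ?_
    rw [Nat.card_coe_set_eq]
    exact (Set.ncard_insert_le _ _).trans (by rw [Set.ncard_singleton])
  have h4 : Nat.card X' ≤ 4 := by
    rw [← h1]
    exact Nat.mul_le_mul h2 h3
  -- `|X'| ≥ 16`
  have h5 := Cfsg.Agent.LargeExtra.FlipOuter.card_cent la p.lz.z_sq hzz.symm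
  have h6 : Nat.card la.V = 256 := by
    have h7 : Nat.card A' = Nat.card Q := Subgroup.card_map_of_injective (MulAut.conj g).injective
    have h8 := la.card_eq
    have h9 := p.lz.card_eq
    rw [F.card_V] at h9
    omega
  rw [h6] at h5
  have h7 : Nat.card X' * Nat.card X' ≤ 4 * 4 := Nat.mul_le_mul h4 h4
  have h8 : 256 ≤ Nat.card X' * Nat.card X' := h5
  omega

/-- a vector of `T` lifted to `Q` is central in `B` -/
theorem T_comm {h : Large Q z} {v w : h.V} {x : Q} (hx : InT h v w (h.pr x)) {y : G}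
    (hy : y ∈ Yg h (Sg h v w)) : (x : G) * y = y * x := by
  obtain ⟨hyQ, hyS⟩ := hy
  have hyS' : InS h v w (h.pr ⟨y, hyQ⟩) := hyS
  rw [← (h.b_pr x ⟨y, hyQ⟩)]
  rcases hx with h1 | h1 | h1 | h1 <;> rw [h1]
  · rw [map_zero]; rfl
  · exact hyS'.1
  · exact hyS'.2
  · rw [map_add, LinearMap.add_apply, hyS'.1, hyS'.2, add_zero]

theorem card_le_two_mul {V : Type*} [AddCommGroup V] [Module (ZMod 2) V] [Finite V]
    (S W : Submodule (ZMod 2) V) (h : ∀ x ∈ S, ∀ y ∈ S, x ∉ W → y ∉ W → x + y ∈ W) :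
    Nat.card S ≤ 2 * Nat.card ↥(S ⊓ W) := by
  classical
  by_cases hSW : S ≤ W
  · rw [inf_eq_left.2 hSW]; omega
  · obtain ⟨x0, hx0, hx0W⟩ := Set.not_subset.1 hSW
    have hinj : Function.Injective (fun x : S => if hx : (x : V) ∈ W then
        ((⟨x, x.2, hx⟩ : ↥(S ⊓ W)), false) else
        (⟨x + x0, S.add_mem x.2 hx0, h x x.2 x0 hx0 hx hx0W⟩, true)) := by
      intro x y hxy
      by_cases hx : (x : V) ∈ W <;> by_cases hy : (y : V) ∈ W
      · simp only [hx, hy, dif_pos, Prod.mk.injEq, and_true] at hxy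
        exact Subtype.ext (congrArg (fun t : ↥(S ⊓ W) => (t : V)) hxy)
      · simp [hx, hy] at hxy
      · simp [hx, hy] at hxy
      · simp only [hx, hy, dif_neg, not_false_eq_true, Prod.mk.injEq, and_true] at hxy
        have := congrArg Subtype.val hxy
        exact Subtype.ext (add_right_cancel this)
    have h1 := Nat.card_le_card_of_injective _ hinj
    rw [Nat.card_prod] at h1
    have h2 : Nat.card Bool = 2 := by rw [Nat.card_eq_fintype_card]; rfl
    rw [h2] at h1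
    omega

theorem exists_u [Finite G] (F : HNFacts p N σ v w) (hσ : σ ∈ p.H) :
    ∃ (u : G) (huC : u ∈ Subgroup.centralizer ({z} : Set G)), p.lz.act ⟨u, huC⟩ = σ ∧
      (∀ y ∈ Yg p.lz (Sg p.lz v w), u * y = y * u) ∧
      (u * u = 1 ∨ ∃ h : u * u ∈ Q, p.lz.pr ⟨u * u, h⟩ = v) := by
  obtain ⟨c, hc⟩ := hσ
  obtain ⟨x, hxQ, hx⟩ := exists_lift_comm p.lz (Sg p.lz v w) c (fun s hs => by rw [hc]; exact sigma_S F hs)
  have hxC : x ∈ Subgroup.centralizer ({z} : Set G) :=
    Subgroup.mem_centralizer_singleton_iff.2 (p.lz.comm_z x hxQ)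
  set u := x * (c : G) with hu
  have huC : u ∈ Subgroup.centralizer ({z} : Set G) := mul_mem hxC c.2
  have hact : p.lz.act ⟨u, huC⟩ = σ := by
    have e : (⟨u, huC⟩ : Subgroup.centralizer ({z} : Set G)) = ⟨x, hxC⟩ * c := rfl
    rw [e, map_mul, p.lz.act_mem _ hxQ, one_mul, hc]
  -- `u²`
  have huu : ∀ y ∈ Yg p.lz (Sg p.lz v w), (u * u) * y = y * (u * u) := by
    intro y hy
    rw [mul_assoc, hx y hy, ← mul_assoc, hx y hy, mul_assoc]
  have huuQ : u * u ∈ Q := by
    have h1 : p.lz.act (⟨u, huC⟩ * ⟨u, huC⟩) = 1 := by rw [map_mul, hact, sigma_sq F]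
    exact p.lz.mem_of_act _ h1
  have huuT : InT p.lz v w (p.lz.pr ⟨u * u, huuQ⟩) := by
    apply inT_of_perp
    intro y hy
    obtain ⟨y, rfl⟩ := p.lz.pr_surjective y
    exact (p.lz.b_pr _ _).2 (huu y ((coe_mem_Yg p.lz _).2 hy))
  -- the odd element
  obtain ⟨x0, hx0X, hx0v, hx0w, -⟩ := F.K_gen
  have hx0N := F.X_le hx0X
  obtain ⟨k, -, hk⟩ := p.mem_X.1 hx0X
  have hkinv : p.lz.act k⁻¹ = x0⁻¹ := by rw [map_inv, hk]
  have hx0v' : x0⁻¹ v = v := by
    calc x0⁻¹ v = x0⁻¹ (x0 v) := by rw [hx0v]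
      _ = (x0⁻¹ * x0) v := rfl
      _ = v := by rw [inv_mul_cancel]; rfl
  have hkB : ∀ y ∈ Yg p.lz (Sg p.lz v w), (k : G)⁻¹ * y * k ∈ Yg p.lz (Sg p.lz v w) := by
    rintro y ⟨hyQ, hyS⟩
    have h1 : (k : G)⁻¹ * y * ((k : G)⁻¹)⁻¹ ∈ Q := p.lz.conj_mem (k : G)⁻¹ (by
      have := Subgroup.mem_centralizer_singleton_iff.1 k⁻¹.2
      exact this) y hyQ
    rw [inv_inv] at h1
    refine ⟨h1, ?_⟩
    have h2 : p.lz.act k⁻¹ (p.lz.pr ⟨y, hyQ⟩) = p.lz.pr ⟨(k : G)⁻¹ * y * k, h1⟩ := by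
      apply Pair.act_pr_coe
      show (k : G)⁻¹ * y * ((k : G)⁻¹)⁻¹ = (k : G)⁻¹ * y * k
      rw [inv_inv]
    rw [← h2, hkinv]
    exact inS_map F (N.inv_mem hx0N) hx0v' hyS
  have h1 : ∀ y ∈ Yg p.lz (Sg p.lz v w), (k * u * (k : G)⁻¹) * y = y * (k * u * (k : G)⁻¹) := by
    intro y hy
    calc (k * u * (k : G)⁻¹) * y = k * (u * ((k : G)⁻¹ * y * k)) * (k : G)⁻¹ := by group
      _ = k * (((k : G)⁻¹ * y * k) * u) * (k : G)⁻¹ := by rw [hx _ (hkB y hy)]
      _ = _ := by group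
  have hkuC : k * u * (k : G)⁻¹ ∈ Subgroup.centralizer ({z} : Set G) := mul_mem (mul_mem k.2 huC) (inv_mem k.2)
  have hkuact : p.lz.act ⟨k * u * (k : G)⁻¹, hkuC⟩ = σ := by
    have e : (⟨k * u * (k : G)⁻¹, hkuC⟩ : Subgroup.centralizer ({z} : Set G)) = k * ⟨u, huC⟩ * k⁻¹ := rfl
    rw [e, map_mul, map_mul, map_inv, hk, hact, mul_inv_eq_iff_eq_mul]
    ext s
    exact sigma_comm F hx0N hx0v s
  have h2 : x0 (p.lz.pr ⟨u * u, huuQ⟩) = p.lz.pr ⟨u * u, huuQ⟩ := by
    rcases cent_B F huC hact hx h1 with h3 | h3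
    · exfalso
      have h4 := h3.1
      apply sigma_ne F
      rw [← hkuact]
      exact p.lz.act_mem _ h4
    · obtain ⟨h3Q, h3T⟩ := h3
      set τ : Q := ⟨u⁻¹ * (k * u * (k : G)⁻¹), h3Q⟩ with hτ
      have hτB : (τ : G) ∈ Yg p.lz (Sg p.lz v w) := ⟨h3Q, inS_of_inT F h3T⟩
      have h5 := hx _ hτB
      have h6 : k * u * (k : G)⁻¹ = u * τ := by
        show _ = u * (u⁻¹ * (k * u * (k : G)⁻¹)); group
      have h7 : (k : G) * (u * u) * (k : G)⁻¹ = (u * u) * (τ * τ) := by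
        calc (k : G) * (u * u) * (k : G)⁻¹ = (k * u * (k : G)⁻¹) * (k * u * (k : G)⁻¹) := by group
          _ = (u * τ) * (u * τ) := by rw [h6]
          _ = u * (τ * u) * τ := by group
          _ = u * (u * τ) * τ := by rw [← h5]
          _ = _ := by group
      rw [← hk, p.lz.act_pr, p.lz.pr_eq_pr, p.lz.conjQ_coe]
      show (k : G) * (u * u) * (k : G)⁻¹ = u * u ∨ (k : G) * (u * u) * (k : G)⁻¹ = u * u * z
      rw [h7]
      rcases p.lz.sq τ τ.2 with h8 | h8
      · left; rw [h8, mul_one]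
      · right; rw [h8]
  have h3 : p.lz.pr ⟨u * u, huuQ⟩ = 0 ∨ p.lz.pr ⟨u * u, huuQ⟩ = v := by
    rcases huuT with h4 | h4 | h4 | h4
    · left; exact h4
    · right; exact h4
    · exfalso
      rw [h4, hx0w] at h2
      exact F.v_ne (by simpa using h2)
    · exfalso
      rw [h4, map_add, hx0w, hx0v] at h2
      exact F.v_ne (by simpa using h2)
  rcases h3 with h3 | h3
  · rcases p.lz.pr_eq_zero.1 h3 with h4 | h4
    · exact ⟨u, huC, hact, hx, Or.inl h4⟩
    · -- replace `u` by `u û`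
      obtain ⟨y, hy⟩ := p.lz.pr_surjective w
      have hyT : InT p.lz v w (p.lz.pr y) := Or.inr (Or.inr (Or.inl hy))
      have hyB : (y : G) ∈ Yg p.lz (Sg p.lz v w) := (coe_mem_Yg p.lz _).2 (inS_of_inT F hyT)
      have hyC : (y : G) ∈ Subgroup.centralizer ({z} : Set G) :=
        Subgroup.mem_centralizer_singleton_iff.2 (p.lz.comm_z y y.2)
      refine ⟨u * y, mul_mem huC hyC, ?_, ?_, Or.inl ?_⟩
      · have e : (⟨u * y, mul_mem huC hyC⟩ : Subgroup.centralizer ({z} : Set G)) = ⟨u, huC⟩ * ⟨y, hyC⟩ := rfl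
        rw [e, map_mul, p.lz.act_mem ⟨(y : G), hyC⟩ y.2, mul_one, hact]
      · intro s hs
        rw [mul_assoc, T_comm hyT hs, ← mul_assoc, hx s hs, mul_assoc]
      · have h5 : (y : G) * y = z := p.lz.q_eq_one.1 (by rw [hy]; exact F.q_w)
        have h6 := hx y hyB
        calc u * y * (u * y) = u * (y * u) * y := by group
          _ = u * (u * y) * y := by rw [← h6]
          _ = (u * u) * (y * y) := by group
          _ = 1 := by rw [h5]; show u * u * z = 1; rw [show u * u = z from h4, p.lz.z_sq]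
  · exact ⟨u, huC, hact, hx, Or.inr ⟨huuQ, h3⟩⟩

/-- the image in `GL(V)` of `C_Q(c)` for a pair `(z, c)` lies in `N` -/
theorem X_le_N [Finite G] (F : HNFacts p N σ v w) {A' : Subgroup G} {a' : G} (p' : Pair Q z A' a') :
    p'.X ≤ N := by
  obtain ⟨g, hg, -, -, -⟩ := p'.isConj
  obtain ⟨f, hf, hfa⟩ := F.fus ⟨a', p'.a_mem⟩ (isConj_iff.2 ⟨g, hg⟩) p'.va_ne
  have hf' := N.inv_mem hf
  intro x hx
  have h1 : p.va = f⁻¹ p'.va := by
    have : p'.va = f p.va := hfa
    rw [this]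
    show p.va = (f⁻¹ * f) p.va
    rw [inv_mul_cancel]; rfl
  have h2 := PairConj.mem_X_of_orbit p' p (f := f⁻¹) (F.N_le hf') h1 hx
  have h3 := F.X_le h2
  rw [inv_inv] at h3
  have h4 := N.mul_mem (N.mul_mem hf h3) hf'
  have e : f * (f⁻¹ * x * f) * f⁻¹ = x := by group
  rwa [e] at h4

/-- **The element `σ` is not induced by `C_G(z)`.** -/
theorem sigma_not_mem [Finite G] (hG : ∀ H : Subgroup G, H.index ≠ 2) (F : HNFacts p N σ v w) :
    σ ∉ p.H := by
  classical
  intro hσ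
  obtain ⟨u, huC, hact, hx, huu⟩ := exists_u F hσ
  have h2 := relIndex_C0 F hσ
  have hu0 : u ∉ C0 p.lz N := by
    intro h
    obtain ⟨h3, h4⟩ := mem_C0.1 h
    rw [hact] at h4
    exact F.sigma_not h4
  set B := Yg p.lz (Sg p.lz v w) with hB
  have hBQ : B ≤ Q := Yg_le _ _
  have hB2 : IsPGroup 2 B := (isPGroup p.lz).to_le hBQ
  have hBC : B ≤ Subgroup.centralizer ({z} : Set G) := fun y hy =>
    Subgroup.mem_centralizer_singleton_iff.2 (p.lz.comm_z y (hBQ hy))
  obtain ⟨g, k, hg, hk0, hkd, hkC, hkC0, hP⟩ :=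
    Cfsg.Agent.LargeExtra.TransferOrbit.exists_orbit hG C0_le h2 u huC hu0 B hB2 hBC
      (fun y hy => (hx y hy).symm)
  have huuC : ∀ y ∈ B, (u * u) * y = y * (u * u) := by
    intro y hy
    rw [mul_assoc, hx y hy, ← mul_assoc, hx y hy, mul_assoc]
  have hu4 : u ^ 4 = 1 := by
    have e : u ^ 4 = (u * u) * (u * u) := by
      simp only [pow_succ, pow_zero, one_mul, mul_assoc]
    rw [e]
    rcases huu with h3 | ⟨h3, h4⟩
    · rw [h3, mul_one]
    · exact p.lz.q_eq_zero.1 (by rw [h4]; exact F.q_v)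
  have hk4 : k ∣ 4 := hkd.trans (orderOf_dvd_of_pow_eq_one hu4)
  set z' := g * z * g⁻¹ with hz'
  have hmem : ∀ x : G, g⁻¹ * x * g ∈ Subgroup.centralizer ({z} : Set G) ↔ x * z' = z' * x := by
    intro x
    rw [Subgroup.mem_centralizer_singleton_iff]
    constructor
    · intro h3
      calc x * z' = g * ((g⁻¹ * x * g) * z) * g⁻¹ := by rw [hz']; group
        _ = g * (z * (g⁻¹ * x * g)) * g⁻¹ := by rw [h3]
        _ = z' * x := by rw [hz']; group
    · intro h3
      calc (g⁻¹ * x * g) * z = g⁻¹ * (x * z') * g := by rw [hz']; group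
        _ = g⁻¹ * (z' * x) * g := by rw [h3]
        _ = _ := by rw [hz']; group
  have hz'ne : z' ≠ z := by
    intro h3
    apply hg
    rw [Subgroup.mem_centralizer_singleton_iff]
    exact mul_inv_eq_iff_eq_mul.1 h3
  have hz'1 : z' ≠ 1 := by
    intro h3
    apply p.lz.z_ne
    calc z = g⁻¹ * z' * g := by rw [hz']; group
      _ = 1 := by rw [h3]; group
  have hz'sq : z' * z' = 1 := by
    calc z' * z' = g * (z * z) * g⁻¹ := by rw [hz']; group
      _ = 1 := by rw [p.lz.z_sq]; group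
  have hC : ∀ y ∈ B, ∃ i : ℕ, (u ^ i * y) * z' = z' * (u ^ i * y) := by
    intro y hy
    obtain ⟨i, hi⟩ := hP y hy
    exact ⟨i, (hmem _).1 hi⟩
  have hupow : ∀ (i : ℕ), ∀ y ∈ B, u ^ i * y = y * u ^ i := fun i y hy =>
    (show Commute (u ^ i) y from (show Commute u y from hx y hy).pow_left i)
  have hvB : ∀ x : Q, InT p.lz v w (p.lz.pr x) → (x : G) ∈ B := fun x hx =>
    (coe_mem_Yg p.lz _).2 (inS_of_inT F hx)
  -- `z` commutes with `z'`
  have hzz : z * z' = z' * z := by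
    obtain ⟨b, b', hb, hb', hbb⟩ : ∃ b b' : Q, (b : G) ∈ B ∧ (b' : G) ∈ B ∧ (b : G) * b' = b' * b * z := by
      by_contra hcon
      push Not at hcon
      have hle : Sg p.lz v w ≤ Tg p.lz v w := by
        intro x hx
        apply inT_of_perp
        intro y hy
        obtain ⟨x, rfl⟩ := p.lz.pr_surjective x
        obtain ⟨y, rfl⟩ := p.lz.pr_surjective y
        rw [p.lz.b_pr]
        rcases p.lz.comm x x.2 y y.2 with h3 | h3
        · exact h3
        · exact absurd h3 (hcon x y ((coe_mem_Yg p.lz _).2 hx) ((coe_mem_Yg p.lz _).2 hy))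
      have h3 := Nat.card_le_card_of_injective _ (Submodule.inclusion_injective hle)
      rw [card_Sg F, card_Tg F] at h3
      omega
    obtain ⟨i, hi⟩ := hC b hb
    obtain ⟨j, hj⟩ := hC b' hb'
    set m := (u ^ j * (b' : G)) * (u ^ i * b) with hm
    have h3 : (u ^ i * (b : G)) * (u ^ j * b') = m * z := by
      have h4 := hupow j b hb
      have h5 := hupow i b' hb'
      calc (u ^ i * (b : G)) * (u ^ j * b') = u ^ i * (b * u ^ j) * b' := by group
        _ = u ^ i * (u ^ j * b) * b' := by rw [← h4]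
        _ = (u ^ i * u ^ j) * (b * b') := by group
        _ = (u ^ j * u ^ i) * (b * b') := by rw [← pow_add, ← pow_add, add_comm]
        _ = (u ^ j * u ^ i) * (b' * b * z) := by rw [hbb]
        _ = u ^ j * (u ^ i * b') * b * z := by group
        _ = u ^ j * (b' * u ^ i) * b * z := by rw [h5]
        _ = m * z := by rw [hm]; group
    have h4 : Commute m z' := (show Commute (u ^ j * (b' : G)) z' from hj).mul_left hi
    have h5 : Commute (m * z) z' := h3 ▸ (show Commute (u ^ i * (b : G)) z' from hi).mul_left hj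
    have h6 : Commute (m⁻¹ * (m * z)) z' := h4.inv_left.mul_left h5
    rw [inv_mul_cancel_left] at h6
    exact h6.eq
  have hz'C : z' ∈ Subgroup.centralizer ({z} : Set G) := Subgroup.mem_centralizer_singleton_iff.2 hzz.symm
  have hconj : ∀ h : z' ∈ Q, IsConj z ((⟨z', h⟩ : Q) : G) := fun h => isConj_iff.2 ⟨g, hz'.symm⟩
  have hfusv : ∀ h : z' ∈ Q, p.lz.pr ⟨z', h⟩ ≠ v := by
    intro h h3
    obtain ⟨f, hf, hf'⟩ := F.fus ⟨z', h⟩ (hconj h) (by rw [h3]; exact F.v_ne)
    exact F.v_not f hf (by rw [← hf', h3])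
  have hpr0 : ∀ h : z' ∈ Q, p.lz.pr ⟨z', h⟩ ≠ 0 := by
    intro h h3
    rcases p.lz.pr_eq_zero.1 h3 with h4 | h4
    · exact hz'1 h4
    · exact hz'ne h4
  -- singular vectors of `T`
  have hsing : ∀ x : Q, (x : G) * x = 1 → InT p.lz v w (p.lz.pr x) → p.lz.pr x = 0 ∨ p.lz.pr x = v := by
    intro x hxx hxT
    have h3 : p.lz.q (p.lz.pr x) = 0 := p.lz.q_eq_zero.2 hxx
    rcases hxT with h4 | h4 | h4 | h4
    · left; exact h4
    · right; exact h4
    · rw [h4, F.q_w] at h3; exact absurd h3 (by decide)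
    · rw [h4, q_wv F] at h3; exact absurd h3 (by decide)
  have hvS : v ∈ Sg p.lz v w := inS_of_inT F (Or.inr (Or.inl rfl))
  obtain ⟨t, ht⟩ := p.lz.pr_surjective v
  have htT : InT p.lz v w (p.lz.pr t) := Or.inr (Or.inl ht)
  have htB : (t : G) ∈ B := hvB t htT
  have hk124 : k = 1 ∨ k = 2 := by
    have h3 : k ≤ 4 := Nat.le_of_dvd (by norm_num) hk4
    have h4 : k ≠ 4 := by
      rintro rfl
      apply hkC0
      rw [hu4, mul_one, inv_mul_cancel]
      exact one_mem _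
    interval_cases k
    · left; rfl
    · right; rfl
    · exact absurd hk4 (by decide)
    · exact absurd rfl h4
  rcases hk124 with rfl | rfl
  · -- `z'` centralises `u` and `B`
    rw [pow_one] at hkC hkC0
    have huz' : u * z' = z' * u := (hmem u).1 hkC
    have hBz' : ∀ y ∈ B, y * z' = z' * y := by
      intro y hy
      obtain ⟨i, hi⟩ := hC y hy
      have h3 : Commute (u ^ i) z' := (show Commute u z' from huz').pow_left i
      have h4 : Commute ((u ^ i)⁻¹ * (u ^ i * y)) z' := h3.inv_left.mul_left hi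
      rw [inv_mul_cancel_left] at h4
      exact h4.eq
    rcases cent_B F huC hact hx (fun y hy => (hBz' y hy).symm) with h3 | h3
    · obtain ⟨h3Q, h3T⟩ := h3
      rcases hsing ⟨z', h3Q⟩ hz'sq h3T with h4 | h4
      · exact hpr0 _ h4
      · exact hfusv _ h4
    · obtain ⟨h3Q, h3T⟩ := h3
      set τ : Q := ⟨u⁻¹ * z', h3Q⟩ with hτ
      have h4 : z' = u * τ := by show z' = u * (u⁻¹ * z'); group
      have hτB : (τ : G) ∈ B := hvB τ h3T
      have hzact : p.lz.act ⟨z', hz'C⟩ = σ := by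
        have hτC : (τ : G) ∈ Subgroup.centralizer ({z} : Set G) := hBC hτB
        have e : (⟨z', hz'C⟩ : Subgroup.centralizer ({z} : Set G)) = ⟨u, huC⟩ * ⟨τ, hτC⟩ := Subtype.ext h4
        rw [e, map_mul, hact, p.lz.act_mem ⟨(τ : G), hτC⟩ τ.2, mul_one]
      refine claim F hz'C hzact ?_ ?_ ?_
      · have hle : Sg p.lz v w ≤ sub p.lz (Subgroup.centralizer ({z'} : Set G)) := by
          intro x hx
          obtain ⟨x, rfl⟩ := p.lz.pr_surjective x
          exact ⟨x, Subgroup.mem_centralizer_singleton_iff.2 (hBz' x ((coe_mem_Yg p.lz _).2 hx)), rfl⟩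
        have h5 := Nat.card_le_card_of_injective _ (Submodule.inclusion_injective hle)
        rw [card_Sg F] at h5
        show 32 ≤ Nat.card (sub p.lz (Subgroup.centralizer ({z'} : Set G)))
        omega
      · exact ⟨t, Subgroup.mem_centralizer_singleton_iff.2 (hBz' t htB), ht⟩
      · intro d _ hdd hdr
        apply hsing d hdd
        apply inT_of_perp
        intro y hy
        obtain ⟨y, rfl⟩ := p.lz.pr_surjective y
        have hyB : (y : G) ∈ B := (coe_mem_Yg p.lz _).2 hy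
        exact (p.lz.b_pr _ _).2 (hdr y y.2 (hBz' y hyB)).symm
  · -- `z'` centralises `u²` and a subgroup of index two of `B`
    have huuz' : (u * u) * z' = z' * (u * u) := by
      have := (hmem _).1 hkC
      rwa [pow_two] at this
    have huu0 : g⁻¹ * (u * u) * g ∉ C0 p.lz N := by rwa [pow_two] at hkC0
    rcases huu with huu | ⟨huuQ, huuv⟩
    · apply huu0
      rw [huu, mul_one, inv_mul_cancel]
      exact one_mem _
    have hcase : ∀ y ∈ B, y * z' = z' * y ∨ (u * y) * z' = z' * (u * y) := by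
      intro y hy
      obtain ⟨i, hi⟩ := hC y hy
      have h3 : ∀ m : ℕ, Commute (u ^ (2 * m)) z' := by
        intro m
        rw [pow_mul, pow_two]
        exact (show Commute (u * u) z' from huuz').pow_left m
      rcases Nat.even_or_odd' i with ⟨m, rfl | rfl⟩
      · left
        have h4 : Commute ((u ^ (2 * m))⁻¹ * (u ^ (2 * m) * y)) z' := (h3 m).inv_left.mul_left hi
        rw [inv_mul_cancel_left] at h4
        exact h4.eq
      · right
        have h4 : Commute ((u ^ (2 * m))⁻¹ * (u ^ (2 * m + 1) * y)) z' := (h3 m).inv_left.mul_left hi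
        have e : (u ^ (2 * m))⁻¹ * (u ^ (2 * m + 1) * y) = u * y := by rw [pow_succ]; group
        rw [e] at h4
        exact h4.eq
    set R' := Subgroup.centralizer ({z'} : Set G) with hR'
    have hmemR : ∀ x, x ∈ R' ↔ x * z' = z' * x := fun x => Subgroup.mem_centralizer_singleton_iff
    -- `|sub R'| ≥ 32`
    have h32 : 32 ≤ Nat.card ↥(Sg p.lz v w ⊓ sub p.lz R') := by
      have h3 := card_le_two_mul (Sg p.lz v w) (sub p.lz R') ?_
      · rw [card_Sg F] at h3
        omega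
      intro x hx y hy hxR hyR
      obtain ⟨x, rfl⟩ := p.lz.pr_surjective x
      obtain ⟨y, rfl⟩ := p.lz.pr_surjective y
      have hxB : (x : G) ∈ B := (coe_mem_Yg p.lz _).2 hx
      have hyB : (y : G) ∈ B := (coe_mem_Yg p.lz _).2 hy
      have h3 : (u * (x : G)) * z' = z' * (u * x) :=
        (hcase x hxB).resolve_left (fun h => hxR ⟨x, (hmemR _).2 h, rfl⟩)
      have h4 : (u * (y : G)) * z' = z' * (u * y) :=
        (hcase y hyB).resolve_left (fun h => hyR ⟨y, (hmemR _).2 h, rfl⟩)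
      have h5 : Commute ((u * (x : G))⁻¹ * (u * y)) z' :=
        (show Commute (u * (x : G)) z' from h3).inv_left.mul_left h4
      have e : (u * (x : G))⁻¹ * (u * y) = (x : G)⁻¹ * y := by group
      rw [e] at h5
      refine ⟨x⁻¹ * y, (hmemR _).2 h5.eq, ?_⟩
      rw [p.lz.pr_mul, p.lz.pr_inv, p.lz.neg_eq]
    have hvR : v ∈ sub p.lz R' := ⟨⟨u * u, huuQ⟩, (hmemR _).2 huuz', huuv⟩
    have hzR : z ∈ R' := (hmemR _).2 hzz
    -- `z'` acts as `1` or `σ`
    have hfix : ∀ x ∈ sub p.lz R', p.lz.act ⟨z', hz'C⟩ x = x := by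
      rintro _ ⟨r, hr, rfl⟩
      exact act_fix hz'C ((hmemR _).1 hr).symm
    rcases one_or_sigma F (⟨_, rfl⟩ : p.lz.act ⟨z', hz'C⟩ ∈ p.H) (hfix v hvR) _ h32
      (fun x hx => ⟨hx.1, Or.inl (hfix x hx.2)⟩) with h3 | h3
    · -- `z' ∈ Q`
      have hz'Q : z' ∈ Q := p.lz.mem_of_act _ h3
      have p1 := pair_of_conj p.lz (g := g) hz'Q hz'ne
      obtain ⟨y, hy, hyz⟩ := p1.z_mem
      have hyz' : g * y * g⁻¹ = z := hyz
      have h4 : g⁻¹ * z * (g⁻¹)⁻¹ ∈ Q := by
        have : g⁻¹ * z * (g⁻¹)⁻¹ = y := by rw [← hyz']; group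
        rw [this]; exact hy
      have h5 : g⁻¹ * z * (g⁻¹)⁻¹ ≠ z := by
        intro h6
        apply hz'ne
        calc z' = g * (g⁻¹ * z * (g⁻¹)⁻¹) * g⁻¹ := by rw [h6]
          _ = z := by group
      have p2 := pair_of_conj p.lz h4 h5
      apply huu0
      rw [mem_C0]
      have hC' : g⁻¹ * (u * u) * g ∈ Subgroup.centralizer ({z} : Set G) := (hmem _).2 huuz'
      refine ⟨hC', X_le_N F p2 (p2.mem_X.2 ⟨⟨_, hC'⟩, ?_, rfl⟩)⟩
      refine ⟨u * u, huuQ, ?_⟩
      show g⁻¹ * (u * u) * (g⁻¹)⁻¹ = g⁻¹ * (u * u) * g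
      group
    · -- `z'` acts as `σ`
      have hRS : ∀ r : Q, (r : G) * z' = z' * r → InS p.lz v w (p.lz.pr r) := by
        intro r hr
        apply sigma_fix F
        rw [← h3]
        exact act_fix hz'C hr.symm
      have hx'Q : u⁻¹ * z' ∈ Q := by
        have h4 : p.lz.act (⟨u, huC⟩⁻¹ * ⟨z', hz'C⟩) = 1 := by
          rw [map_mul, map_inv, hact, h3, inv_mul_cancel]
        exact p.lz.mem_of_act _ h4
      set x' : Q := ⟨u⁻¹ * z', hx'Q⟩ with hx'
      have hzux : z' = u * x' := by show z' = u * (u⁻¹ * z'); group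
      set m := p.lz.pr x' with hm
      -- `σ m + m = v`
      have hσm : σ m + m = v := by
        have h4 : u * x' * (u * x') = 1 := by rw [← hzux]; exact hz'sq
        have h5 : u * (x' : G) * u⁻¹ * (u * u) * x' = 1 := by
          rw [← h4]; group
        have h6 : u * (x' : G) * u⁻¹ ∈ Q := p.lz.conj_mem u
          (Subgroup.mem_centralizer_singleton_iff.1 huC) _ x'.2
        have h7 : p.lz.act ⟨u, huC⟩ m = p.lz.pr ⟨_, h6⟩ := Pair.act_pr_coe p.lz _ _ _ rfl
        rw [hact] at h7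
        have h8 : (⟨_, h6⟩ * ⟨u * u, huuQ⟩ * x' : Q) = 1 := Subtype.ext h5
        have h9 : σ m + v + m = 0 := by
          rw [h7, ← huuv, hm, ← p.lz.pr_mul, ← p.lz.pr_mul, h8, p.lz.pr_one]
        have h10 : (σ m + m) + v = 0 := by rw [← h9]; abel
        exact add_eq_zero_iff.1 h10
      obtain ⟨hm1, hm2⟩ := sigma_eq_v F hσm
      have hSR : ∀ r : Q, (r : G) ∈ B → p.lz.b m (p.lz.pr r) = 0 → (r : G) * z' = z' * r := by
        intro r hrB hrm
        have h4 : (x' : G) * r = r * x' := (p.lz.b_pr _ _).1 hrm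
        rw [hzux]
        calc (r : G) * (u * x') = (r * u) * x' := by group
          _ = u * (r * x') := by rw [← hx r hrB]; group
          _ = u * x' * r := by rw [← h4]; group
      refine claim F hz'C h3 ?_ hvR ?_
      · have hle : Sg p.lz v w ⊓ sub p.lz R' ≤ sub p.lz R' := inf_le_right
        have h5 := Nat.card_le_card_of_injective _ (Submodule.inclusion_injective hle)
        show 32 ≤ Nat.card (sub p.lz R')
        omega
      · intro d hdz hdd hdr
        apply hsing d hdd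
        -- `pr d ∈ T + ⟨m⟩`
        have h4 : p.lz.pr d ∈ Tg p.lz v w ⊔ Submodule.span (ZMod 2) {m} := by
          apply Cfsg.Agent.LargeExtra.Perp.mem_of_perp
          intro y hy
          obtain ⟨y, rfl⟩ := p.lz.pr_surjective y
          have hyS : InS p.lz v w (p.lz.pr y) :=
            ⟨hy v (Submodule.mem_sup_left (Or.inr (Or.inl rfl))),
              hy w (Submodule.mem_sup_left (Or.inr (Or.inr (Or.inl rfl))))⟩
          have hym : p.lz.b m (p.lz.pr y) = 0 :=
            hy m (Submodule.mem_sup_right (Submodule.mem_span_singleton_self m))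
          have hyB : (y : G) ∈ B := (coe_mem_Yg p.lz _).2 hyS
          rw [p.lz.b_pr]
          exact hdr y y.2 (hSR y hyB hym)
        obtain ⟨s, hs, s', hs', hss⟩ := Submodule.mem_sup.1 h4
        obtain ⟨c, rfl⟩ := Submodule.mem_span_singleton.1 hs'
        have hz : ∀ c : ZMod 2, c = 0 ∨ c = 1 := by decide
        rcases hz c with rfl | rfl
        · rw [zero_smul, add_zero] at hss
          rw [← hss]; exact hs
        · exfalso
          rw [one_smul] at hss
          have h5 := (hRS d hdz).2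
          rw [← hss, map_add, hm2, (inS_of_inT F hs).2] at h5
          exact absurd h5 (by decide)

end Cfsg.Agent.HNType.Split
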