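import Cfsg.Agent.HNType.Local
import Cfsg.Agent.HNType.Split

/-!
# The case `HN`: `JData` for `C_G(t) / ⟨t⟩` (helper344)
-/

set_option autoImplicit false

namespace Cfsg.Agent.HNType.LocalB

open Cfsg.Agent.Co2Type.Quad Cfsg.Agent.LargeExtra.Base
open Cfsg.Agent.LargeExtra.KillNine Cfsg.Agent.LargeExtra.KillNine.EGroup
open Cfsg.Agent.HNType.Iface Cfsg.Agent.HNType.Quot Cfsg.Agent.HNType.Lin Cfsg.Agent.HNType.Involution
open Cfsg.Agent.HNType.Local Cfsg.Agent.HNType.Split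

variable {G : Type*} [Group G] {Q A : Subgroup G} {z a : G}
  {p : Pair Q z A a} {N : Subgroup (p.lz.V ≃ₗ[ZMod 2] p.lz.V)}
  {σ : p.lz.V ≃ₗ[ZMod 2] p.lz.V} {v w : p.lz.V} {t g : G}

variable (F : HNFacts p N σ v w) (hσ : σ ∉ p.H) (T : TG p v t g)

include F hσ in
/-- `Large P z̄` -/
theorem large [Finite G] : Large (im t Q) (zb T) where
  z_mem := ⟨⟨z, zY T⟩, p.lz.z_mem, rfl⟩
  z_ne := by
    intro h
    rcases (mem_Zt T.sq).1 (mk_eq_one.1 h) with h1 | h1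
    · exact p.lz.z_ne h1
    · exact (t_ne F T).2 (show z = t from h1).symm
  z_sq := by
    show mk t _ * mk t _ = 1
    rw [← map_mul]
    have : (⟨z, zY T⟩ : Y t) * ⟨z, zY T⟩ = 1 := Subtype.ext p.lz.z_sq
    rw [this, map_one]
  comm_z := by
    rintro _ ⟨x, hx, rfl⟩
    exact (comm_zb F T x).2 (p.lz.comm_z x hx)
  conj_mem := by
    intro c hc
    obtain ⟨y, rfl⟩ := mk_surjective t c
    rintro _ ⟨x, hx, rfl⟩
    refine ⟨y * x * y⁻¹, ?_, by rw [map_mul, map_mul, map_inv]⟩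
    exact p.lz.conj_mem y ((comm_zb F T y).1 hc) x hx
  sq := by
    rintro _ ⟨x, hx, rfl⟩
    rcases p.lz.sq x hx with h | h
    · left
      rw [← map_mul]
      have : x * x = 1 := Subtype.ext h
      rw [this, map_one]
    · right
      rw [← map_mul]
      have : x * x = ⟨z, zY T⟩ := Subtype.ext h
      rw [this]; rfl
  comm := by
    rintro _ ⟨x, hx, rfl⟩ _ ⟨y, hy, rfl⟩
    rcases p.lz.comm x hx y hy with h | h
    · left
      exact (mk_comm T).2 (Or.inl h)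
    · right
      rw [zb, ← map_mul, ← map_mul, ← map_mul]
      congr 1
      exact Subtype.ext h
  cent := by
    rintro _ ⟨x, hx, rfl⟩ hc
    have h1 : ∀ y : Q, (y : G) ∈ Y t → (x : G) * y = y * x := by
      intro y hy
      exact comm_of_mod F T hx y.2 ((mk_comm T).1 (hc (mk t ⟨y, hy⟩) ⟨⟨y, hy⟩, y.2, rfl⟩))
    have h2 : p.lz.pr ⟨x, hx⟩ ∈ Submodule.span (ZMod 2) {v} := by
      apply Cfsg.Agent.LargeExtra.Perp.mem_of_perp
      intro s hs
      obtain ⟨y, rfl⟩ := p.lz.pr_surjective s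
      have hy : (y : G) ∈ Y t := (Q_mem_Y T y).2 (hs v (Submodule.mem_span_singleton_self v))
      exact (p.lz.b_pr _ _).2 (h1 y hy).symm
    obtain ⟨c, hc'⟩ := Submodule.mem_span_singleton.1 h2
    have hz : ∀ c : ZMod 2, c = 0 ∨ c = 1 := by decide
    rcases hz c with rfl | rfl
    · rw [zero_smul] at hc'
      rcases p.lz.pr_eq_zero.1 hc'.symm with h3 | h3
      · left
        have : x = 1 := Subtype.ext h3
        rw [this, map_one]
      · right
        have : x = ⟨z, zY T⟩ := Subtype.ext h3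
        rw [this]; rfl
    · rw [one_smul, ← T.pr] at hc'
      rcases p.lz.pr_eq_pr.1 hc' with h3 | h3
      · left
        rw [mk_eq_one, mem_Zt T.sq]
        right; exact h3.symm
      · right
        rw [zb, mk_eq_mk T.sq]
        right
        have h4 : t = (x : G) * z := h3
        show (x : G) = z * t
        have h5 := p.lz.comm_z x hx
        calc (x : G) = x * (z * z) := by rw [p.lz.z_sq, mul_one]
          _ = z * (x * z) := by rw [← mul_assoc, h5, mul_assoc, h5]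
          _ = z * t := congrArg (fun k => z * k) h4.symm
  self := by
    intro c hc hcc
    obtain ⟨y, rfl⟩ := mk_surjective t c
    have hyz := (comm_zb F T y).1 hc
    refine ⟨y, mem_Q_of F hσ T y hyz ?_, rfl⟩
    intro b hb
    have hbY := B_le_Y T hb
    exact (mk_comm T (x := y) (y := ⟨b, hbY⟩)).1 (hcc _ ⟨⟨b, hbY⟩, hb.1, rfl⟩)

include T in
/-- `mk` of elements of `Q` over `T` -/
theorem mk_T {ub : Y t} (hu : (ub : G) * ub = z) (huT : ∀ h : (ub : G) ∈ Q, p.lz.pr ⟨ub, h⟩ = w)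
    (huQ : (ub : G) ∈ Q) {b : Y t} (hbQ : (b : G) ∈ Q) (hb : InT p.lz v w (p.lz.pr ⟨b, hbQ⟩)) :
    mk t b ∈ Subgroup.zpowers (mk t ub) := by
  have hzb : zb T = mk t ub * mk t ub := by
    rw [zb, ← map_mul]; congr 1; exact Subtype.ext hu.symm
  have hzm : zb T ∈ Subgroup.zpowers (mk t ub) := by
    rw [hzb]; exact mul_mem (Subgroup.mem_zpowers _) (Subgroup.mem_zpowers _)
  have htm : mk t (tY t) = 1 := mk_eq_one.2 (Subgroup.mem_zpowers _)
  have key : ∀ c : Y t, mk t c ∈ Subgroup.zpowers (mk t ub) → ∀ hcQ : (c : G) ∈ Q,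
      p.lz.pr ⟨b, hbQ⟩ = p.lz.pr ⟨c, hcQ⟩ → mk t b ∈ Subgroup.zpowers (mk t ub) := by
    intro c hc hcQ h
    rcases p.lz.pr_eq_pr.1 h with h1 | h1
    · have : b = c := Subtype.ext h1
      rw [this]; exact hc
    · have : b = c * ⟨z, zY T⟩ := Subtype.ext h1
      rw [this, map_mul]; exact mul_mem hc hzm
  rcases hb with h | h | h | h
  · exact key 1 (by rw [map_one]; exact one_mem _) Q.one_mem (by rw [h]; exact p.lz.pr_one.symm)
  · exact key (tY t) (by rw [htm]; exact one_mem _) T.htQ (by rw [h]; exact T.pr.symm)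
  · exact key ub (Subgroup.mem_zpowers _) huQ (by rw [h]; exact (huT huQ).symm)
  · exact key (ub * tY t) (by rw [map_mul, htm, mul_one]; exact Subgroup.mem_zpowers _)
      (mul_mem huQ T.htQ) (by
        have : p.lz.pr (⟨ub, huQ⟩ * ⟨t, T.htQ⟩) = w + v := by rw [p.lz.pr_mul, huT huQ, T.pr]
        rw [h]; exact this.symm)

/-- the image in `GL(V)` of a normal subgroup of `C(z̄)` -/
def imgI (I : Subgroup (Gam t)) : Subgroup (p.lz.V ≃ₗ[ZMod 2] p.lz.V) where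
  carrier := {f | ∃ (y : Y t) (hy : (y : G) * z = z * y), mk t y ∈ I ∧ p.lz.act ⟨y, mem_C_of hy⟩ = f}
  one_mem' := ⟨1, by show (1 : G) * z = z * 1; group, by rw [map_one]; exact one_mem _,
    p.lz.act.map_one⟩
  mul_mem' := by
    rintro _ _ ⟨x, hx, hxI, rfl⟩ ⟨y, hy, hyI, rfl⟩
    refine ⟨x * y, ?_, by rw [map_mul]; exact mul_mem hxI hyI, ?_⟩
    · show (x : G) * y * z = z * (x * y)
      rw [mul_assoc, hy, ← mul_assoc, hx, mul_assoc]
    · rw [← map_mul]; rfl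
  inv_mem' := by
    rintro _ ⟨x, hx, hxI, rfl⟩
    refine ⟨x⁻¹, ?_, by rw [map_inv]; exact inv_mem hxI, ?_⟩
    · show (x : G)⁻¹ * z = z * (x : G)⁻¹
      exact (show Commute (x : G) z from hx).inv_left.eq
    · rw [← map_inv]; rfl

include F hσ T in
theorem imgI_le {I : Subgroup (Gam t)} {f : p.lz.V ≃ₗ[ZMod 2] p.lz.V}
    (hf : f ∈ imgI (p := p) I) : f ∈ N ∧ f v = v := by
  obtain ⟨y, hy, -, rfl⟩ := hf
  exact ⟨H_eq F hσ ⟨_, rfl⟩, act_v T y hy⟩

include F in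
theorem imgI_norm {I : Subgroup (Gam t)} (hI : ∀ c, c * zb T = zb T * c → ∀ i ∈ I, c * i * c⁻¹ ∈ I)
    (f : p.lz.V ≃ₗ[ZMod 2] p.lz.V) (hf : f ∈ N) (hv : f v = v) :
    ∀ i ∈ imgI (p := p) I, f * i * f⁻¹ ∈ imgI (p := p) I := by
  rintro _ ⟨y, hy, hyI, rfl⟩
  obtain ⟨c, hc, rfl⟩ := lift F T hf hv
  refine ⟨c * y * c⁻¹, ?_, ?_, ?_⟩
  · show (c : G) * y * (c : G)⁻¹ * z = z * (c * y * (c : G)⁻¹)
    have h1 : Commute (c : G) z := hc
    have h2 : Commute (y : G) z := hy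
    exact ((h1.mul_left h2).mul_left h1.inv_left).eq
  · rw [map_mul, map_mul, map_inv]
    exact hI _ ((comm_zb F T c).2 hc) _ hyI
  · rw [← map_inv, ← map_mul, ← map_mul]; rfl

include F hσ in
theorem cov (I : Subgroup (Gam t)) (hI : ∀ c, c * zb T = zb T * c → ∀ i ∈ I, c * i * c⁻¹ ∈ I)
    (hg : ∀ x ∈ im t (Bg p v w), (mk t ⟨g, gY T⟩ * x * (mk t ⟨g, gY T⟩)⁻¹) * zb T =
      zb T * (mk t ⟨g, gY T⟩ * x * (mk t ⟨g, gY T⟩)⁻¹) → mk t ⟨g, gY T⟩ * x * (mk t ⟨g, gY T⟩)⁻¹ ∈ I)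
    (c : Gam t) (hc : c * zb T = zb T * c) [Finite G] : ∃ i ∈ I, ∃ x ∈ im t Q, c = i * x := by
  obtain ⟨x0, hx0X, hx0v, hx0w, hgen⟩ := F.K_gen
  have hx0I : x0 ∈ imgI (p := p) I := by
    obtain ⟨x, hxA, hx⟩ := p.mem_X.1 hx0X
    have hxz : (x : G) * z = z * x := Subgroup.mem_centralizer_singleton_iff.1 x.2
    -- `x` commutes with `t`
    have hxt : (x : G) * t = t * x := by
      have h1 : p.lz.act x (p.lz.pr ⟨t, T.htQ⟩) = p.lz.pr ⟨t, T.htQ⟩ := by rw [hx, T.pr, hx0v]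
      rw [p.lz.act_pr, p.lz.pr_eq_pr, p.lz.conjQ_coe] at h1
      rcases h1 with h1 | h1
      · exact mul_inv_eq_iff_eq_mul.1 h1
      · exfalso
        have h1' : (x : G) * t * (x : G)⁻¹ = t * z := h1
        rcases p.conj_D T.htA hxA with h2 | h2
        · rw [h2] at h1'
          exact p.lz.z_ne (mul_eq_left.1 h1'.symm)
        · rw [h2] at h1'
          exact p.ne (mul_left_cancel h1')
    -- an element `r` of `B` with `g r g⁻¹` acting as `x₀`
    obtain ⟨r, hrB, hrz, hrx⟩ : ∃ r : Q, InS p.lz v w (p.lz.pr r) ∧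
        ∃ h : (g * r * g⁻¹) * z = z * (g * r * g⁻¹),
        p.lz.act ⟨g * r * g⁻¹, Subgroup.mem_centralizer_singleton_iff.2 h⟩ = x0 := by
      have hgi : ∀ x : G, x ∈ A → g⁻¹ * x * g ∈ Q := by
        intro x hx
        rw [T.QA]
        have : g * (g⁻¹ * x * g) * g⁻¹ = x := by group
        rwa [this]
      have hgt := T.comm
      set r1 : Q := ⟨g⁻¹ * x * g, hgi x hxA⟩ with hr1
      have hcomm : ∀ y : G, y * t = t * y → (g⁻¹ * y * g) * t = t * (g⁻¹ * y * g) := by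
        intro y hy
        have h1 : Commute g t := hgt
        have h2 : Commute y t := hy
        exact ((h1.inv_left.mul_left h2).mul_left h1).eq
      have hr1v : p.lz.b v (p.lz.pr r1) = 0 := (Q_mem_Y T r1).1 (mem_Y.2 (hcomm x hxt))
      have hz : ∀ c : ZMod 2, c = 0 ∨ c = 1 := by decide
      rcases hz (p.lz.b w (p.lz.pr r1)) with hw1 | hw1
      · have e : g * (r1 : G) * g⁻¹ = x := by show g * (g⁻¹ * x * g) * g⁻¹ = x; group
        refine ⟨r1, ⟨hr1v, hw1⟩, by rw [e]; exact hxz, ?_⟩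
        rw [← hx]
        congr 1
        exact Subtype.ext e
      · obtain ⟨d', hd'D, hd'w⟩ := F.exists_D
        obtain ⟨d, hdA, rfl⟩ := hd'D
        have hdv : p.lz.b v (p.lz.pr d) = 0 := p.b_D F.v_mem ⟨d, hdA, rfl⟩
        obtain ⟨hgd1, hgd2⟩ := T.D d d.2 hdA
        have e : g * ((r1 * d : Q) : G) * g⁻¹ = x * (g * d * g⁻¹) := by
          show g * (g⁻¹ * x * g * d) * g⁻¹ = x * (g * d * g⁻¹); group
        have hgdC : g * (d : G) * g⁻¹ ∈ Subgroup.centralizer ({z} : Set G) :=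
          Subgroup.mem_centralizer_singleton_iff.2 (p.lz.comm_z _ hgd1)
        refine ⟨r1 * d, ⟨?_, ?_⟩, ?_, ?_⟩
        · rw [p.lz.pr_mul, map_add, hr1v, hdv, add_zero]
        · rw [p.lz.pr_mul, map_add, hw1, hd'w]; rfl
        · rw [e]
          have h1 : Commute (x : G) z := hxz
          have h2 : Commute (g * (d : G) * g⁻¹) z := p.lz.comm_z _ hgd1
          exact (h1.mul_left h2).eq
        · have e2 : (⟨g * ((r1 * d : Q) : G) * g⁻¹, Subgroup.mem_centralizer_singleton_iff.2 (by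
              rw [e]
              have h1 : Commute (x : G) z := hxz
              have h2 : Commute (g * (d : G) * g⁻¹) z := p.lz.comm_z _ hgd1
              exact (h1.mul_left h2).eq)⟩ : Subgroup.centralizer ({z} : Set G)) =
              x * ⟨g * (d : G) * g⁻¹, hgdC⟩ := Subtype.ext e
          rw [e2, map_mul, hx, p.lz.act_mem ⟨g * (d : G) * g⁻¹, hgdC⟩ hgd1, mul_one]
    have hrY : (r : G) ∈ Y t := (Q_mem_Y T r).2 hrB.1
    refine ⟨⟨g, gY T⟩ * ⟨r, hrY⟩ * ⟨g, gY T⟩⁻¹, hrz, ?_, hrx⟩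
    rw [map_mul, map_mul, map_inv]
    apply hg
    · exact ⟨⟨r, hrY⟩, (coe_mem_Yg p.lz _).2 hrB, rfl⟩
    · have h1 := (comm_zb F T (⟨g, gY T⟩ * ⟨r, hrY⟩ * ⟨g, gY T⟩⁻¹)).2 hrz
      rwa [map_mul, map_mul, map_inv] at h1
  obtain ⟨y, rfl⟩ := mk_surjective t c
  have hyz := (comm_zb F T y).1 hc
  obtain ⟨y', hy'z, hy'I, hy'⟩ := hgen (imgI (p := p) I) (imgI_norm F T hI) hx0I
    (p.lz.act ⟨y, mem_C_of hyz⟩) (H_eq F hσ ⟨_, rfl⟩) (act_v T y hyz)
  refine ⟨mk t y', hy'I, mk t (y'⁻¹ * y), ⟨y'⁻¹ * y, ?_, rfl⟩, ?_⟩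
  · have h1 : p.lz.act (⟨y', mem_C_of hy'z⟩⁻¹ * ⟨y, mem_C_of hyz⟩) = 1 := by
      rw [map_mul, map_inv, hy', inv_mul_cancel]
    exact p.lz.mem_of_act _ h1
  · rw [← map_mul, mul_inv_cancel_left]

end Cfsg.Agent.HNType.LocalB
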