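import Cfsg.Agent.HNType.LocalB

/-!
# The case `HN`: `JData` for `C_G(t) / ⟨t⟩`, assembly (helper344)
-/

set_option autoImplicit false

namespace Cfsg.Agent.HNType.LocalC

open Cfsg.Agent.Co2Type.Quad Cfsg.Agent.LargeExtra.Base
open Cfsg.Agent.LargeExtra.KillNine Cfsg.Agent.LargeExtra.KillNine.EGroup
open Cfsg.Agent.HNType.Iface Cfsg.Agent.HNType.Quot Cfsg.Agent.HNType.Lin Cfsg.Agent.HNType.Involution
open Cfsg.Agent.HNType.Local Cfsg.Agent.HNType.LocalB Cfsg.Agent.HNType.Split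

variable {G : Type*} [Group G] {Q A : Subgroup G} {z a : G}
  {p : Pair Q z A a} {N : Subgroup (p.lz.V ≃ₗ[ZMod 2] p.lz.V)}
  {σ : p.lz.V ≃ₗ[ZMod 2] p.lz.V} {v w : p.lz.V} {t g : G}

variable (F : HNFacts p N σ v w) (hσ : σ ∉ p.H) (T : TG p v t g)

include F in
theorem card_Q [Finite G] : Nat.card Q = 512 := by
  rw [p.lz.card_eq, F.card_V]

include F in
theorem card_P [Finite G] (T : TG p v t g) : Nat.card (im t Q) = 128 := by
  have h1 := card_im T.sq (t_ne F T).1 (R := Q) T.htQ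
  have h2 := Cfsg.Agent.LargeExtra.Local.card_centralizer p.lz T.htQ (t_ne F T).1 (t_ne F T).2
  rw [card_Q F, inf_comm] at h2
  have h3 : Nat.card ↥(Q ⊓ Y t) * 2 = 512 := h2
  omega

include F in
theorem card_P0 [Finite G] (T : TG p v t g) : Nat.card (im t (Bg p v w)) = 64 := by
  have h1 := card_im T.sq (t_ne F T).1 (R := Bg p v w) (t_mem_B F T)
  rw [inf_eq_left.2 (B_le_Y T), card_Yg, card_Sg F] at h1
  omega

include F hσ in
theorem card_C [Finite G] (T : TG p v t g) :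
    Nat.card (Subgroup.centralizer ({zb T} : Set (Gam t))) = 15360 := by
  have e : Subgroup.centralizer ({zb T} : Set (Gam t)) = im t (Subgroup.centralizer ({z} : Set G)) := by
    ext c
    rw [Subgroup.mem_centralizer_singleton_iff]
    obtain ⟨y, rfl⟩ := mk_surjective t c
    rw [comm_zb F T, mk_mem_im T.sq (Subgroup.mem_centralizer_singleton_iff.2 (tz_comm T)),
      Subgroup.mem_centralizer_singleton_iff]
  have h1 := card_im T.sq (t_ne F T).1 (R := Subgroup.centralizer ({z} : Set G))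
    (Subgroup.mem_centralizer_singleton_iff.2 (tz_comm T))
  have h2 := Cfsg.Agent.LargeExtra.Local.card_img p.lz
    (B := Subgroup.centralizer ({z} : Set G) ⊓ Y t) inf_le_left
  -- `|C ∩ Y ∩ Q| = 256`
  have h3 : Nat.card ↥(Subgroup.centralizer ({z} : Set G) ⊓ Y t ⊓ Q) = 256 := by
    have h4 : Subgroup.centralizer ({z} : Set G) ⊓ Y t ⊓ Q = Y t ⊓ Q := by
      ext x
      simp only [Subgroup.mem_inf]
      constructor
      · rintro ⟨⟨-, h⟩, h'⟩; exact ⟨h, h'⟩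
      · rintro ⟨h, h'⟩
        exact ⟨⟨Subgroup.mem_centralizer_singleton_iff.2 (p.lz.comm_z x h'), h⟩, h'⟩
    have h5 := Cfsg.Agent.LargeExtra.Local.card_centralizer p.lz T.htQ (t_ne F T).1 (t_ne F T).2
    rw [card_Q F] at h5
    rw [h4]
    have h6 : Nat.card ↥(Y t ⊓ Q) * 2 = 512 := h5
    omega
  -- the image is `K`
  obtain ⟨K, hK, hKc⟩ := F.K_card
  have h4 : Cfsg.Agent.LargeExtra.Local.img p.lz (Subgroup.centralizer ({z} : Set G) ⊓ Y t) = K := by
    ext f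
    rw [hK]
    constructor
    · rintro ⟨c, hc, rfl⟩
      have hcY : (c : G) ∈ Y t := (Subgroup.mem_inf.1 (show (c : G) ∈ _ from hc)).2
      have hcz : (c : G) * z = z * c := Subgroup.mem_centralizer_singleton_iff.1 c.2
      exact ⟨H_eq F hσ ⟨c, rfl⟩, act_v T ⟨c, hcY⟩ hcz⟩
    · rintro ⟨hf, hfv⟩
      obtain ⟨y, hy, rfl⟩ := lift F T hf hfv
      exact ⟨⟨y, mem_C_of hy⟩, Subgroup.mem_inf.2 ⟨mem_C_of hy, y.2⟩, rfl⟩
  rw [h3, h4, hKc] at h2
  rw [e]
  omega

include F hσ in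
theorem norm_B (T : TG p v t g) (y : Y t) (hy : (y : G) * z = z * y) {b : G} (hb : b ∈ Bg p v w) :
    (y : G) * b * (y : G)⁻¹ ∈ Bg p v w := by
  obtain ⟨hbQ, hbS⟩ := hb
  have h1 := p.lz.conj_mem y hy b hbQ
  refine ⟨h1, ?_⟩
  have h2 : p.lz.act ⟨y, mem_C_of hy⟩ (p.lz.pr ⟨b, hbQ⟩) = p.lz.pr ⟨_, h1⟩ := Pair.act_pr_coe p.lz _ _ _ rfl
  rw [← h2]
  exact inS_map F (H_eq F hσ ⟨_, rfl⟩) (act_v T y hy) hbS

include F hσ in
theorem span [Finite G] (T : TG p v t g) (B' : Subgroup (Gam t)) (hz : zb T ∈ B')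
    (ha : mk t ⟨a, aY T⟩ ∈ B') (hn : ∀ c, c * zb T = zb T * c → ∀ x ∈ B', c * x * c⁻¹ ∈ B') :
    im t (Bg p v w) ≤ B' := by
  let U : Submodule (ZMod 2) p.lz.V :=
    { carrier := {x | ∃ (r : Q) (hr : (r : G) ∈ Y t), mk t ⟨r, hr⟩ ∈ B' ∧ p.lz.pr r = x}
      zero_mem' := ⟨1, (Y t).one_mem, by
        have : (⟨((1 : Q) : G), (Y t).one_mem⟩ : Y t) = 1 := rfl
        rw [this, map_one]; exact one_mem _, p.lz.pr_one⟩
      add_mem' := by
        rintro _ _ ⟨x, hx, hxB, rfl⟩ ⟨y, hy, hyB, rfl⟩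
        refine ⟨x * y, mul_mem hx hy, ?_, p.lz.pr_mul x y⟩
        have e : (⟨((x * y : Q) : G), mul_mem hx hy⟩ : Y t) = ⟨x, hx⟩ * ⟨y, hy⟩ := rfl
        rw [e, map_mul]; exact mul_mem hxB hyB
      smul_mem' := by
        rintro c _ ⟨x, hx, hxB, rfl⟩
        have hc : c = 0 ∨ c = 1 := by revert c; decide
        rcases hc with rfl | rfl
        · refine ⟨1, (Y t).one_mem, ?_, by rw [zero_smul]; exact p.lz.pr_one⟩
          have : (⟨((1 : Q) : G), (Y t).one_mem⟩ : Y t) = 1 := rfl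
          rw [this, map_one]; exact one_mem _
        · exact ⟨x, hx, hxB, by rw [one_smul]⟩ }
  have hvU : v ∈ U := by
    refine ⟨⟨t, T.htQ⟩, mem_Y.2 rfl, ?_, T.pr⟩
    have : mk t ⟨((⟨t, T.htQ⟩ : Q) : G), mem_Y.2 rfl⟩ = 1 := mk_eq_one.2 (Subgroup.mem_zpowers _)
    rw [this]; exact one_mem _
  have haU : p.va ∈ U := ⟨⟨a, p.a_mem⟩, aY T, ha, rfl⟩
  have hKU : ∀ f ∈ N, f v = v → ∀ x ∈ U, f x ∈ U := by
    rintro f hf hv _ ⟨r, hr, hrB, rfl⟩
    obtain ⟨y, hy, rfl⟩ := lift F T hf hv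
    refine ⟨p.lz.conjQ ⟨y, mem_C_of hy⟩ r, mul_mem (mul_mem y.2 hr) (inv_mem y.2), ?_,
      (p.lz.act_pr _ r).symm⟩
    have h1 := hn (mk t y) ((comm_zb F T y).2 hy) _ hrB
    rw [← map_inv, ← map_mul, ← map_mul] at h1
    exact h1
  rintro _ ⟨b, hb, rfl⟩
  obtain ⟨hbQ, hbS⟩ := (show (b : G) ∈ Bg p v w from hb)
  obtain ⟨r, hr, hrB, hrb⟩ := F.K_span U hvU haU hKU _ hbS
  rcases p.lz.pr_eq_pr.1 hrb with h | h
  · have : (⟨r, hr⟩ : Y t) = b := Subtype.ext h
    rw [← this]; exact hrB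
  · have h1 : (⟨r, hr⟩ : Y t) = b * ⟨z, zY T⟩ := Subtype.ext h
    have h2 : mk t b = mk t ⟨r, hr⟩ * zb T := by
      rw [h1, map_mul]
      show _ = mk t b * zb T * zb T
      rw [mul_assoc, (large F hσ T).z_sq, mul_one]
    rw [h2]; exact mul_mem hrB hz

include F hσ in
/-- **`JData` for `Γ = C_G(t) / ⟨t⟩`.** -/
theorem jdata [Finite G] (T : TG p v t g) {û : G} (huQ : û ∈ Q) (hw : p.lz.pr ⟨û, huQ⟩ = w)
    (huY : û ∈ Y t) :
    JData (im t Q) (im t (Bg p v w)) (zb T) (mk t ⟨a, aY T⟩) (mk t ⟨û, huY⟩) (mk t ⟨g, gY T⟩) := by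
  have huT : InT p.lz v w (p.lz.pr ⟨û, huQ⟩) := Or.inr (Or.inr (Or.inl hw))
  have huB : û ∈ Bg p v w := ⟨huQ, by rw [hw]; exact inS_of_inT F (Or.inr (Or.inr (Or.inl rfl)))⟩
  have huu : û * û = z := p.lz.q_eq_one.1 (by rw [hw]; exact F.q_w)
  have hLP := large F hσ T
  -- an element of `B` over `T` lies in `⟨u⟩`
  have hmkT : ∀ (b : Y t) (hbQ : (b : G) ∈ Q), InT p.lz v w (p.lz.pr ⟨b, hbQ⟩) →
      mk t b ∈ Subgroup.zpowers (mk t ⟨û, huY⟩) := fun b hbQ hb =>
    mk_T T (ub := ⟨û, huY⟩) huu (fun _ => hw) huQ hbQ hb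
  exact
    { lz := hLP
      le := by
        rintro _ ⟨b, hb, rfl⟩
        exact ⟨b, (show (b : G) ∈ Bg p v w from hb).1, rfl⟩
      card_P := card_P F T
      card_P0 := card_P0 F T
      card_C := card_C F hσ T
      norm := by
        intro c hc
        obtain ⟨y, rfl⟩ := mk_surjective t c
        rintro _ ⟨b, hb, rfl⟩
        exact ⟨y * b * y⁻¹, norm_B F hσ T y ((comm_zb F T y).1 hc) hb, by
          rw [map_mul, map_mul, map_inv]⟩
      a_mem := ⟨⟨a, aY T⟩, ⟨p.a_mem, F.va_mem⟩, rfl⟩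
      a_ne := by
        intro h
        rcases (mk_eq_mk T.sq).1 h with h1 | h1
        · exact p.ne h1
        · have h2 : (a : G) = z * t := h1
          obtain ⟨k, hk, -⟩ := p.isConj
          apply not_conj F (pr_t_mul_z T) k
          show k * z * k⁻¹ = t * z
          rw [hk, h2, tz_comm T]
      g_z := by
        rw [zb, ← map_inv, ← map_mul, ← map_mul]
        congr 1
        exact Subtype.ext T.g_z
      g_a := by
        rw [zb, ← map_inv, ← map_mul, ← map_mul, ← map_mul]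
        congr 1
        exact Subtype.ext T.g_a
      g_az := by
        rw [zb, ← map_inv, ← map_mul, ← map_mul, ← map_mul]
        congr 1
        apply Subtype.ext
        show g * (a * z) * g⁻¹ = z
        calc g * (a * z) * g⁻¹ = (g * a * g⁻¹) * (g * z * g⁻¹) := by group
          _ = a * z * a := by rw [T.g_a, T.g_z]
          _ = a * a * z := by rw [mul_assoc, ← (p.lz.commz p.a_mem).eq, mul_assoc]
          _ = z := by rw [p.la.z_sq, one_mul]
      span := fun B' _ hz ha hn => span F hσ T B' hz ha hn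
      cen := by
        intro c hc hcc
        obtain ⟨y, rfl⟩ := mk_surjective t c
        have hyz := (comm_zb F T y).1 hc
        have hyb : ∀ b ∈ Bg p v w, (y : G) * b = b * y ∨ (y : G) * b = b * y * t := by
          intro b hb
          have hbY := B_le_Y T hb
          exact (mk_comm T (x := y) (y := ⟨b, hbY⟩)).1 (hcc _ ⟨⟨b, hbY⟩, hb, rfl⟩)
        have hyQ := mem_Q_of F hσ T y hyz hyb
        refine ⟨y, ⟨hyQ, ?_⟩, rfl⟩
        apply inS_of_inT F
        apply inT_of_perp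
        intro s hs
        obtain ⟨b, rfl⟩ := p.lz.pr_surjective s
        have hbB : (b : G) ∈ Bg p v w := (coe_mem_Yg p.lz _).2 hs
        exact (p.lz.b_pr _ _).2 (comm_of_mod F T hyQ b.2 (hyb b hbB))
      u_mem := ⟨⟨û, huY⟩, huB, rfl⟩
      u_sq := by
        rw [zb, ← map_mul]
        congr 1
        exact Subtype.ext huu
      u_cen := by
        rintro _ ⟨b, hb, rfl⟩
        exact (mk_comm T (x := ⟨û, huY⟩) (y := b)).2 (Or.inl (T_comm (x := ⟨û, huQ⟩) huT hb))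
      cen_u := by
        rintro _ ⟨b, hb, rfl⟩ hbc
        obtain ⟨hbQ, hbS⟩ := (show (b : G) ∈ Bg p v w from hb)
        apply hmkT b hbQ
        apply inT_of_perp
        intro s hs
        obtain ⟨b', rfl⟩ := p.lz.pr_surjective s
        have hb'B : (b' : G) ∈ Bg p v w := (coe_mem_Yg p.lz _).2 hs
        have hb'Y := B_le_Y T hb'B
        exact (p.lz.b_pr _ _).2 (comm_of_mod F T hbQ b'.2
          ((mk_comm T (x := b) (y := ⟨b', hb'Y⟩)).1 (hbc _ ⟨⟨b', hb'Y⟩, hb'B, rfl⟩)))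
      o2 := by
        intro I hI hIz hIn
        have h1 : imgI (p := p) I = ⊥ := by
          apply F.K_o2
          · rintro ⟨f, y, hy, hyI, rfl⟩
            obtain ⟨n, hn⟩ := hI ⟨_, hyI⟩
            refine ⟨n, ?_⟩
            apply Subtype.ext
            show (p.lz.act ⟨y, mem_C_of hy⟩) ^ 2 ^ n = 1
            rw [← map_pow]
            apply p.lz.act_mem
            have h2 : mk t (y ^ 2 ^ n) = 1 := by
              rw [map_pow]; exact congrArg Subtype.val hn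
            show ((y : G)) ^ 2 ^ n ∈ Q
            rcases (mem_Zt T.sq).1 (mk_eq_one.1 h2) with h3 | h3
            · have : (y : G) ^ 2 ^ n = 1 := h3
              rw [this]; exact Q.one_mem
            · have h4 : ((y ^ 2 ^ n : Y t) : G) ∈ Q := by rw [h3]; exact T.htQ
              exact h4
          · intro i hi
            exact imgI_le F hσ T hi
          · exact imgI_norm F T hIn
        intro c hc
        obtain ⟨y, rfl⟩ := mk_surjective t c
        have hyz := (comm_zb F T y).1 (hIz _ hc)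
        have h2 : p.lz.act ⟨y, mem_C_of hyz⟩ ∈ imgI (p := p) I := ⟨y, hyz, hc, rfl⟩
        rw [h1, Subgroup.mem_bot] at h2
        exact ⟨y, p.lz.mem_of_act _ h2, rfl⟩
      nc := by
        rintro _ ⟨b, hb, rfl⟩ hbu
        obtain ⟨hbQ, hbS⟩ := (show (b : G) ∈ Bg p v w from hb)
        have hnT : ¬ InT p.lz v w (p.lz.pr ⟨b, hbQ⟩) := fun h => hbu (hmkT b hbQ h)
        simp only [InT, not_or] at hnT
        obtain ⟨f, hf, hfv, hfb⟩ := F.K_nc _ hbS hnT.1 hnT.2.1 hnT.2.2.1 hnT.2.2.2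
        obtain ⟨y, hy, rfl⟩ := lift F T hf hfv
        refine ⟨mk t y, (comm_zb F T y).2 hy, ?_⟩
        have h1 := p.lz.conj_mem y hy b hbQ
        have h2 : p.lz.act ⟨y, mem_C_of hy⟩ (p.lz.pr ⟨b, hbQ⟩) = p.lz.pr ⟨_, h1⟩ :=
          Pair.act_pr_coe p.lz _ _ _ rfl
        rw [h2] at hfb
        have h3 : (b : G) * (y * b * (y : G)⁻¹) = (y * b * (y : G)⁻¹) * b * z := (p.lz.b_pr_one _ _).1 hfb
        intro h4
        have h5 : mk t b * mk t (y * b * y⁻¹) = mk t (y * b * y⁻¹) * mk t b := by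
          rw [map_mul, map_mul, map_inv]; exact h4
        have h6 : (b : G) * (y * b * (y : G)⁻¹) = (y * b * (y : G)⁻¹) * b :=
          comm_of_mod F T hbQ h1 ((mk_comm T (x := b) (y := y * b * y⁻¹)).1 h5)
        rw [h6] at h3
        exact p.lz.z_ne (mul_eq_left.1 h3.symm)
      cov := fun I _ hIn hg c hc => cov F hσ T I hIn hg c hc }

end Cfsg.Agent.HNType.LocalC
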