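import Cfsg.Agent.HNType.Iface
import Cfsg.Agent.HNType.Alt
import Cfsg.Agent.LargeExtra.TOne
import Cfsg.Agent.LargeExtra.TwoCentral
import Cfsg.Agent.Lib.SylowNormalInf
import Cfsg.Agent.Lib.Cores
import Cfsg.Agent.SignalizersComponents.FStarPCore

/-!
# The case `HN` of S1763: part (3) (helper43)

`JData P P0 z a u g` for a finite group `Γ` gives a normal subgroup `J` of index two isomorphic to the Higman–Sims
group, with trivial centraliser.
-/

set_option autoImplicit false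
set_option linter.style.haveILetI false

namespace Cfsg.Agent.HNType.Simple

open Cfsg.Agent.Co2Type.Quad Cfsg.Agent.LargeExtra.Base Cfsg.Agent.HNType.Iface

universe u'

section basic

variable {Γ : Type*} [Group Γ]

/-- An involution normalising `O` without fixed points inverts `O`, and `|O|` is odd. -/
theorem inv_of_cent [Finite Γ] {O : Subgroup Γ} {t : Γ} (hO : ∀ x ∈ O, t * x * t⁻¹ ∈ O)
    (ht : t * t = 1) (h : ∀ x ∈ O, t * x = x * t → x = 1) :
    (∀ x ∈ O, t * x * t⁻¹ = x⁻¹) ∧ Odd (Nat.card O) := by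
  have hti : t⁻¹ = t := inv_eq_of_mul_eq_one_left ht
  let φ : O →* O :=
    { toFun := fun x => ⟨t * x * t⁻¹, hO x x.2⟩
      map_one' := Subtype.ext (by simp)
      map_mul' := fun x y => Subtype.ext (by
        show t * ((x : Γ) * y) * t⁻¹ = t * x * t⁻¹ * (t * y * t⁻¹)
        group) }
  have hφ : MonoidHom.FixedPointFree φ := by
    intro x hx
    apply Subtype.ext
    apply h x x.2
    have h1 : t * (x : Γ) * t⁻¹ = x := congrArg Subtype.val hx
    rwa [mul_inv_eq_iff_eq_mul] at h1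
  have h2 : Function.Involutive φ := by
    intro x
    apply Subtype.ext
    show t * (t * (x : Γ) * t⁻¹) * t⁻¹ = x
    rw [hti]
    calc t * (t * (x : Γ) * t) * t = (t * t) * x * (t * t) := by group
      _ = x := by rw [ht]; group
  refine ⟨fun x hx => ?_, hφ.odd_card_of_involutive h2⟩
  have h3 := hφ.coe_eq_inv_of_involutive h2
  have h4 := congrFun h3 ⟨x, hx⟩
  exact congrArg Subtype.val h4

variable {P : Subgroup Γ} {z : Γ}

theorem cent_trivial (h : Large P z) {O : Subgroup Γ} (hn : O.Normal) (hO : ∀ x ∈ O, x ∈ P → x = 1) :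
    ∀ x ∈ O, z * x = x * z → x = 1 := by
  intro x hx hzx
  apply hO x hx
  apply h.self x hzx.symm
  intro y hy
  have h1 : x * y * x⁻¹ * y⁻¹ ∈ P := P.mul_mem (h.conj_mem x hzx.symm y hy) (P.inv_mem hy)
  have h2 : x * y * x⁻¹ * y⁻¹ ∈ O := by
    have : x * y * x⁻¹ * y⁻¹ = x * (y * x⁻¹ * y⁻¹) := by group
    rw [this]
    exact O.mul_mem hx (hn.conj_mem _ (O.inv_mem hx) y)
  have h3 := hO _ h2 h1
  calc x * y = (x * y * x⁻¹ * y⁻¹) * (y * x) := by group
    _ = y * x := by rw [h3, one_mul]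

theorem inf_trivial_of_odd [Finite Γ] (h : Large P z) {O : Subgroup Γ} (hodd : Odd (Nat.card O)) :
    ∀ x ∈ O, x ∈ P → x = 1 := by
  intro x hx hxP
  have h1 : orderOf x ∣ Nat.card O := by
    have := orderOf_dvd_natCard (⟨x, hx⟩ : O)
    rwa [Subgroup.orderOf_mk] at this
  have h2 : Odd (orderOf x) := Odd.of_dvd_nat hodd h1
  obtain ⟨k, hk⟩ := (isPGroup h) ⟨x, hxP⟩
  have h3 : x ^ 2 ^ k = 1 := congrArg Subtype.val hk
  have h4 : orderOf x ∣ 2 ^ k := orderOf_dvd_of_pow_eq_one h3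
  have h5 : Nat.Coprime (orderOf x) (2 ^ k) := (Nat.coprime_two_right.2 h2).pow_right k
  have h6 : orderOf x = 1 := Nat.Coprime.eq_one_of_dvd h5 h4
  exact orderOf_eq_one_iff.1 h6

end basic

section data

variable {Γ : Type*} [Group Γ] {P P0 : Subgroup Γ} {z a u g : Γ}

/-- no normal subgroup of odd order -/
theorem odd_normal [Finite Γ] (D : JData P P0 z a u g) {O : Subgroup Γ} (hn : O.Normal)
    (hodd : Odd (Nat.card O)) : O = ⊥ := by
  rw [Subgroup.eq_bot_iff_forall]
  intro x hx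
  have hc := cent_trivial D.lz hn (inf_trivial_of_odd D.lz hodd)
  have hz := (inv_of_cent (fun x hx => hn.conj_mem x hx z) D.lz.z_sq hc).1
  have key : ∀ t, (∀ x ∈ O, t * x * t⁻¹ = x⁻¹) → ∀ x ∈ O, (g * t * g⁻¹) * x * (g * t * g⁻¹)⁻¹ = x⁻¹ := by
    intro t ht x hx
    have h1 : g⁻¹ * x * g ∈ O := by
      have := hn.conj_mem x hx g⁻¹
      rwa [inv_inv] at this
    have h2 := ht _ h1
    calc (g * t * g⁻¹) * x * (g * t * g⁻¹)⁻¹ = g * (t * (g⁻¹ * x * g) * t⁻¹) * g⁻¹ := by group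
      _ = x⁻¹ := by rw [h2]; group
  have ha : ∀ x ∈ O, a * x * a⁻¹ = x⁻¹ := by
    have := key z hz
    rwa [D.g_z] at this
  have haz : ∀ x ∈ O, (a * z) * x * (a * z)⁻¹ = x⁻¹ := by
    have := key a ha
    rwa [D.g_a] at this
  have h1 : (a * z) * x * (a * z)⁻¹ = x := by
    calc (a * z) * x * (a * z)⁻¹ = a * (z * x * z⁻¹) * a⁻¹ := by group
      _ = x := by rw [hz x hx, ha _ (O.inv_mem hx), inv_inv]
  have h2 : x⁻¹ = x := (haz x hx).symm.trans h1
  apply hc x hx
  have h3 := hz x hx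
  rw [h2, mul_inv_eq_iff_eq_mul] at h3
  exact h3

/-- every nontrivial normal subgroup contains `z` -/
theorem z_mem_of_normal [Finite Γ] (D : JData P P0 z a u g) {N : Subgroup Γ} (hn : N.Normal)
    (hne : N ≠ ⊥) : z ∈ N := by
  by_cases hex : ∃ x ∈ N, x ∈ P ∧ x ≠ 1
  · obtain ⟨x, hx, hxP, hx1⟩ := hex
    by_cases hxz : x = z
    · rwa [← hxz]
    · obtain ⟨y, hy, hyx⟩ := exists_not_comm D.lz hxP hx1 hxz
      have h2 : z = y⁻¹ * x⁻¹ * y * x := by
        calc z = (x * y)⁻¹ * (x * y * z) := by group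
          _ = (x * y)⁻¹ * (y * x) := by rw [← hyx]
          _ = y⁻¹ * x⁻¹ * y * x := by group
      rw [h2]
      refine N.mul_mem ?_ hx
      have := hn.conj_mem _ (N.inv_mem hx) y⁻¹
      rwa [inv_inv] at this
  · exfalso
    apply hne
    push Not at hex
    have hc := cent_trivial D.lz hn hex
    exact odd_normal D hn (inv_of_cent (fun x hx => hn.conj_mem x hx z) D.lz.z_sq hc).2

theorem u_ne_one (D : JData P P0 z a u g) : u ≠ 1 := by
  intro h
  have := D.u_sq
  rw [h, one_mul] at this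
  exact D.lz.z_ne this.symm

theorem u_ne_z (D : JData P P0 z a u g) : u ≠ z := by
  intro h
  have := D.u_sq
  rw [h, D.lz.z_sq] at this
  exact D.lz.z_ne this.symm

/-- the elements of `⟨u⟩` -/
theorem zpowers_cases (D : JData P P0 z a u g) {x : Γ} (hx : x ∈ Subgroup.zpowers u) :
    x = 1 ∨ x = u ∨ x = z ∨ x = u * z := by
  obtain ⟨k, rfl⟩ := Subgroup.mem_zpowers_iff.1 hx
  have h4 : u ^ (4 : ℤ) = 1 := by
    have : u ^ (4 : ℤ) = (u * u) * (u * u) := by
      rw [zpow_ofNat, pow_succ, pow_succ, pow_two]; simp only [mul_assoc]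
    rw [this, D.u_sq, D.lz.z_sq]
  have h1 : u ^ k = u ^ (k % 4) := by
    conv_lhs => rw [← Int.emod_add_mul_ediv k 4, zpow_add, zpow_mul, h4, one_zpow, mul_one]
  rw [h1]
  have h5 : 0 ≤ k % 4 := Int.emod_nonneg k (by norm_num)
  have h6 : k % 4 < 4 := Int.emod_lt_of_pos k (by norm_num)
  have h7 : k % 4 = 0 ∨ k % 4 = 1 ∨ k % 4 = 2 ∨ k % 4 = 3 := by omega
  rcases h7 with h | h | h | h <;> rw [h]
  · left; simp
  · right; left; simp
  · right; right; left
    rw [← D.u_sq, zpow_ofNat, pow_two]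
  · right; right; right
    rw [← D.u_sq, zpow_ofNat, pow_succ, pow_two, mul_assoc]

theorem z_mem_J [Finite Γ] (D : JData P P0 z a u g) {N : Subgroup Γ} {J : Subgroup Γ} (hJ : J.Normal)
    (hP0 : P0 ≤ J) (hNJ : N ≤ J) (hn : ∀ j ∈ J, ∀ x ∈ N, j * x * j⁻¹ ∈ N) (hne : N ≠ ⊥) : z ∈ N := by
  have : Fact (Nat.Prime 2) := ⟨Nat.prime_two⟩
  by_cases hex : ∃ x ∈ N, x ∈ P0 ∧ x ≠ 1
  · obtain ⟨x, hx, hxP, hx1⟩ := hex
    by_cases hcom : ∀ y ∈ P0, x * y = y * x
    · rcases zpowers_cases D (D.cen_u x hxP hcom) with h | h | h | h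
      · exact absurd h hx1
      · rw [← D.u_sq, ← h]; exact N.mul_mem hx hx
      · rwa [← h]
      · have h2 : x * x = z := by
          rw [h]
          calc u * z * (u * z) = u * (z * u) * z := by group
            _ = u * (u * z) * z := by rw [D.lz.comm_z u (D.le D.u_mem)]
            _ = (u * u) * (z * z) := by group
            _ = z := by rw [D.u_sq, D.lz.z_sq, mul_one]
        rw [← h2]; exact N.mul_mem hx hx
    · push Not at hcom
      obtain ⟨y, hy, hxy⟩ := hcom
      have h1 := (D.lz.comm x (D.le hxP) y (D.le hy)).resolve_left hxy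
      have h2 : z = x⁻¹ * (y⁻¹ * x * y) := by
        calc z = (y * x)⁻¹ * (y * x * z) := by group
          _ = (y * x)⁻¹ * (x * y) := by rw [← h1]
          _ = x⁻¹ * (y⁻¹ * x * y) := by group
      rw [h2]
      refine N.mul_mem (N.inv_mem hx) ?_
      have := hn y⁻¹ (J.inv_mem (hP0 hy)) x hx
      rwa [inv_inv] at this
  · exfalso
    apply hne
    push Not at hex
    have hzJ : z ∈ J := hP0 (by rw [← D.u_sq]; exact P0.mul_mem D.u_mem D.u_mem)
    have hc : ∀ x ∈ N, z * x = x * z → x = 1 := by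
      intro x hx hzx
      apply hex x hx
      apply D.cen x hzx.symm
      intro y hy
      have h1 : x * y * x⁻¹ * y⁻¹ ∈ P0 := P0.mul_mem (D.norm x hzx.symm y hy) (P0.inv_mem hy)
      have h2 : x * y * x⁻¹ * y⁻¹ ∈ N := by
        have : x * y * x⁻¹ * y⁻¹ = x * (y * x⁻¹ * y⁻¹) := by group
        rw [this]
        exact N.mul_mem hx (hn y (hP0 hy) _ (N.inv_mem hx))
      have h3 := hex _ h2 h1
      calc x * y = (x * y * x⁻¹ * y⁻¹) * (y * x) := by group
        _ = y * x := by rw [h3, one_mul]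
    have hodd := (inv_of_cent (fun x hx => hn z hzJ x hx) D.lz.z_sq hc).2
    have hO : Cfsg.pPrimeCore 2 Γ = ⊥ := by
      apply odd_normal D (Cfsg.Agent.Lib.Cores.pPrimeCore_normal 2)
      exact Nat.coprime_two_right.1 (Cfsg.Agent.Lib.Cores.pPrimeCore_coprime (G := Γ) 2)
    have h1 : N.subgroupOf J ≤ Cfsg.pPrimeCore 2 J := by
      apply Cfsg.Agent.Lib.Cores.le_pPrimeCore
      · constructor
        intro x hx j
        exact hn j j.2 x hx
      · rw [Nat.card_congr (Subgroup.subgroupOfEquivOfLe hNJ).toEquiv]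
        exact Nat.coprime_two_right.2 hodd
    have h2 := Cfsg.Agent.Lib.Cores.map_subtype_pPrimeCore 2 hJ
    rw [hO, inf_bot_eq] at h2
    have h3 : (N.subgroupOf J).map J.subtype ≤ ⊥ := by
      rw [← h2]; exact Subgroup.map_mono h1
    rw [Subgroup.subgroupOf_map_subtype, inf_eq_left.2 hNJ] at h3
    exact le_bot_iff.1 h3

/-! ### the normal closure of `z` -/

/-- everything used of `J` = the normal closure of `z` -/
structure JN (P0 : Subgroup Γ) (z : Γ) (J : Subgroup Γ) : Prop where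
  norm : J.Normal
  le : P0 ≤ J
  min : ∀ N : Subgroup Γ, (∀ x : Γ, x * z * x⁻¹ ∈ N) → J ≤ N

theorem exists_J (D : JData P P0 z a u g) : JN P0 z (Subgroup.normalClosure {z}) := by
  have hz : z ∈ Subgroup.normalClosure ({z} : Set Γ) := Subgroup.subset_normalClosure rfl
  refine ⟨inferInstance, ?_, ?_⟩
  · have h1 := D.span (Subgroup.normalClosure {z} ⊓ P) inf_le_right
      (Subgroup.mem_inf.2 ⟨hz, D.lz.z_mem⟩)
      (Subgroup.mem_inf.2 ⟨by
        rw [← D.g_z]
        exact (inferInstance : (Subgroup.normalClosure {z}).Normal).conj_mem z hz g, D.le D.a_mem⟩)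
      (fun c hc x hx => Subgroup.mem_inf.2
        ⟨(inferInstance : (Subgroup.normalClosure {z}).Normal).conj_mem x (Subgroup.mem_inf.1 hx).1 c,
          D.lz.conj_mem c hc x (Subgroup.mem_inf.1 hx).2⟩)
    exact h1.trans inf_le_left
  · intro N hN
    rw [Subgroup.normalClosure, Subgroup.closure_le]
    intro x hx
    obtain ⟨y, hy, hyx⟩ := Group.mem_conjugatesOfSet_iff.1 hx
    rw [Set.mem_singleton_iff] at hy
    subst hy
    obtain ⟨c, rfl⟩ := isConj_iff.1 hyx
    exact hN c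

variable {J : Subgroup Γ}

theorem z_mem_P0 (D : JData P P0 z a u g) : z ∈ P0 := by
  rw [← D.u_sq]; exact P0.mul_mem D.u_mem D.u_mem

theorem card_zpowers_le (D : JData P P0 z a u g) : Nat.card (Subgroup.zpowers u) ≤ 4 := by
  classical
  have h1 : ((Subgroup.zpowers u : Subgroup Γ) : Set Γ) ⊆ (({1, u, z, u * z} : Finset Γ) : Set Γ) := by
    intro x hx
    have := zpowers_cases D hx
    simpa using this
  have h2 := Set.ncard_le_ncard h1 (Finset.finite_toSet _)
  rw [Set.ncard_coe_finset] at h2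
  calc Nat.card (Subgroup.zpowers u) = ((Subgroup.zpowers u : Subgroup Γ) : Set Γ).ncard :=
        Nat.card_coe_set_eq _
    _ ≤ _ := h2
    _ ≤ 4 := Finset.card_le_four

/-- `P0` is not commutative -/
theorem P0_not_comm [Finite Γ] (D : JData P P0 z a u g) : ¬ ∀ x ∈ P0, ∀ y ∈ P0, x * y = y * x := by
  intro h
  have h1 : P0 ≤ Subgroup.zpowers u := fun x hx => D.cen_u x hx (h x hx)
  have h2 := Nat.le_of_dvd Nat.card_pos (Subgroup.card_dvd_of_le h1)
  have h3 := card_zpowers_le D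
  rw [D.card_P0] at h2
  omega

theorem isSimple [Finite Γ] (D : JData P P0 z a u g) (hJ : JN P0 z J) : IsSimpleGroup J := by
  have hzJ : z ∈ J := hJ.le (z_mem_P0 D)
  have : Nontrivial J := ⟨⟨⟨z, hzJ⟩, 1, fun h => D.lz.z_ne (congrArg Subtype.val h)⟩⟩
  refine ⟨fun N hN => ?_⟩
  by_cases hb : N = ⊥
  · exact Or.inl hb
  right
  have hinj : Function.Injective J.subtype := J.subtype_injective
  have key : ∀ x : Γ, x * z * x⁻¹ ∈ N.map J.subtype := by
    intro x
    -- the conjugate of `N` by `x⁻¹`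
    let M : Subgroup Γ := (N.map J.subtype).map (MulAut.conj x⁻¹).toMonoidHom
    have hM : ∀ y, y ∈ M ↔ x * y * x⁻¹ ∈ N.map J.subtype := by
      intro y
      constructor
      · rintro ⟨w, hw, rfl⟩
        have : x * ((MulAut.conj x⁻¹).toMonoidHom w) * x⁻¹ = w := by
          show x * (x⁻¹ * w * x⁻¹⁻¹) * x⁻¹ = w
          group
        rwa [this]
      · intro hy
        refine ⟨_, hy, ?_⟩
        show x⁻¹ * (x * y * x⁻¹) * x⁻¹⁻¹ = y
        group
    have h1 : z ∈ M := by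
      apply z_mem_J D hJ.norm hJ.le
      · intro y hy
        obtain ⟨w, hw, hwy⟩ := (hM y).1 hy
        have h2 : x * y * x⁻¹ ∈ J := by rw [← hwy]; exact w.2
        have h3 := hJ.norm.conj_mem _ h2 x⁻¹
        have h4 : x⁻¹ * (x * y * x⁻¹) * x⁻¹⁻¹ = y := by group
        rwa [h4] at h3
      · intro j hj y hy
        rw [hM] at hy ⊢
        obtain ⟨w, hw, hwy⟩ := hy
        have h2 : x * j * x⁻¹ ∈ J := hJ.norm.conj_mem j hj x
        refine ⟨⟨x * j * x⁻¹, h2⟩ * w * ⟨x * j * x⁻¹, h2⟩⁻¹, hN.conj_mem w hw _, ?_⟩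
        show x * j * x⁻¹ * (w : Γ) * (x * j * x⁻¹)⁻¹ = _
        have h3 : (w : Γ) = x * y * x⁻¹ := hwy
        rw [h3]; group
      · intro hbot
        apply hb
        rw [Subgroup.eq_bot_iff_forall]
        intro w hw
        have h2 : x⁻¹ * (w : Γ) * x ∈ M := by
          rw [hM]
          refine ⟨w, hw, ?_⟩
          show (w : Γ) = _
          group
        rw [hbot, Subgroup.mem_bot] at h2
        apply Subtype.ext
        calc (w : Γ) = x * (x⁻¹ * w * x) * x⁻¹ := by group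
          _ = 1 := by rw [h2]; group
    exact (hM z).1 h1
  have h1 := hJ.min _ key
  rw [Subgroup.eq_top_iff']
  intro w
  obtain ⟨w', hw', hww⟩ := h1 w.2
  have : w' = w := hinj hww
  rwa [← this]

theorem not_comm [Finite Γ] (D : JData P P0 z a u g) (hJ : JN P0 z J) : ¬ IsMulCommutative J := by
  intro h
  apply P0_not_comm D
  intro x hx y hy
  have := h.is_comm.comm ⟨x, hJ.le hx⟩ ⟨y, hJ.le hy⟩
  exact congrArg Subtype.val this

theorem no_index_two [Finite Γ] (D : JData P P0 z a u g) (hJ : JN P0 z J) (H : Subgroup J) : H.index ≠ 2 := by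
  have := isSimple D hJ
  intro h
  have hn : H.Normal := Subgroup.normal_of_index_eq_two h
  rcases hn.eq_bot_or_eq_top with h1 | h1
  · rw [h1, Subgroup.index_bot] at h
    have h2 := Nat.le_of_dvd Nat.card_pos (Subgroup.card_dvd_of_le hJ.le)
    rw [D.card_P0, h] at h2
    omega
  · rw [h1, Subgroup.index_top] at h
    omega

/-- `z` is centralised by `u` conjugates: `c u c⁻¹ ∈ {u, u z}` -/
theorem conj_u (D : JData P P0 z a u g) {c : Γ} (hc : c * z = z * c) :
    c * u * c⁻¹ = u ∨ c * u * c⁻¹ = u * z := by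
  have h1 : c * u * c⁻¹ ∈ P0 := D.norm c hc u D.u_mem
  have hc' : c⁻¹ * z = z * c⁻¹ := by
    calc c⁻¹ * z = c⁻¹ * (z * c) * c⁻¹ := by group
      _ = c⁻¹ * (c * z) * c⁻¹ := by rw [hc]
      _ = z * c⁻¹ := by group
  have h2 : c * u * c⁻¹ ∈ Subgroup.zpowers u := by
    apply D.cen_u _ h1
    intro y hy
    have h3 : c⁻¹ * y * c ∈ P0 := by
      have := D.norm c⁻¹ hc' y hy
      rwa [inv_inv] at this
    have h4 := D.u_cen _ h3
    calc c * u * c⁻¹ * y = c * (u * (c⁻¹ * y * c)) * c⁻¹ := by group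
      _ = c * ((c⁻¹ * y * c) * u) * c⁻¹ := by rw [h4]
      _ = y * (c * u * c⁻¹) := by group
  rcases zpowers_cases D h2 with h | h | h | h
  · exfalso
    apply u_ne_one D
    calc u = c⁻¹ * (c * u * c⁻¹) * c := by group
      _ = 1 := by rw [h]; group
  · exact Or.inl h
  · exfalso
    apply u_ne_z D
    calc u = c⁻¹ * (c * u * c⁻¹) * c := by group
      _ = z := by rw [h, hc']; group
  · exact Or.inr h

theorem not_P_le [Finite Γ] (D : JData P P0 z a u g) (hJ : JN P0 z J) : ¬ P ≤ J := by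
  intro hP
  have hzJ : z ∈ J := hJ.le (z_mem_P0 D)
  have hcomm : ∀ {x y : J}, x * y = y * x ↔ (x : Γ) * y = y * x := by
    intro x y
    exact ⟨fun h => congrArg Subtype.val h, fun h => Subtype.ext h⟩
  have hL : Large (P.subgroupOf J) (⟨z, hzJ⟩ : J) :=
    { z_mem := D.lz.z_mem
      z_ne := fun h => D.lz.z_ne (congrArg Subtype.val h)
      z_sq := Subtype.ext D.lz.z_sq
      comm_z := fun x hx => Subtype.ext (D.lz.comm_z x hx)
      conj_mem := fun c hc x hx => D.lz.conj_mem c (congrArg Subtype.val hc) x hx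
      sq := fun x hx => (D.lz.sq x hx).imp (fun h => Subtype.ext h) (fun h => Subtype.ext h)
      comm := fun x hx y hy => (D.lz.comm x hx y hy).imp (fun h => Subtype.ext h) (fun h => Subtype.ext h)
      cent := fun x hx h => (D.lz.cent x hx (fun y hy => congrArg Subtype.val (h ⟨y, hP hy⟩ hy))).imp
        (fun h => Subtype.ext h) (fun h => Subtype.ext h)
      self := fun c hc h => D.lz.self c (congrArg Subtype.val hc)
        (fun y hy => congrArg Subtype.val (h ⟨y, hP hy⟩ hy)) }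
  have h8 : 8 < Nat.card (P.subgroupOf J) := by
    rw [Nat.card_congr (Subgroup.subgroupOfEquivOfLe hP).toEquiv, D.card_P]
    norm_num
  have huJ : u ∈ J := hJ.le D.u_mem
  have h1 : hL.pr ⟨⟨u, huJ⟩, D.le D.u_mem⟩ = 0 := by
    apply LargeExtra.TOne.eq_zero_of_fixed (no_index_two D hJ) hL h8
    intro c
    have hc : (c : J) * ⟨z, hzJ⟩ = ⟨z, hzJ⟩ * c := Subgroup.mem_centralizer_singleton_iff.1 c.2
    rcases conj_u D (congrArg Subtype.val hc) with h2 | h2
    · apply LargeExtra.Base.Pair.act_pr_coe hL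
      exact Subtype.ext h2
    · have h3 := LargeExtra.Base.Pair.act_pr_coe hL c ⟨⟨u, huJ⟩, D.le D.u_mem⟩
        ⟨⟨u * z, J.mul_mem huJ hzJ⟩, P.mul_mem (D.le D.u_mem) D.lz.z_mem⟩ (Subtype.ext h2)
      rw [h3]
      apply hL.pr_eq_pr.2
      right
      rfl
  rcases hL.pr_eq_zero.1 h1 with h2 | h2
  · exact u_ne_one D (congrArg Subtype.val h2)
  · exact u_ne_z D (congrArg Subtype.val h2)

theorem inf_P [Finite Γ] (D : JData P P0 z a u g) (hJ : JN P0 z J) : J ⊓ P = P0 := by
  have h0 : P0 ≤ J ⊓ P := le_inf hJ.le D.le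
  obtain ⟨k, hk⟩ := Subgroup.card_dvd_of_le h0
  obtain ⟨l, hl⟩ := Subgroup.card_dvd_of_le (inf_le_right : J ⊓ P ≤ P)
  rw [D.card_P0] at hk
  rw [D.card_P, hk] at hl
  have hkl : k * l = 2 := by
    have : 64 * (k * l) = 64 * 2 := by rw [← mul_assoc, ← hl]
    exact Nat.eq_of_mul_eq_mul_left (by norm_num) this
  have hk2 : k = 1 ∨ k = 2 := (Nat.dvd_prime Nat.prime_two).1 (Dvd.intro l hkl)
  rcases hk2 with h | h
  · symm
    apply Subgroup.eq_of_le_of_card_ge h0
    rw [hk, h, D.card_P0]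
  · exfalso
    apply not_P_le D hJ
    have h2 : J ⊓ P = P := by
      apply Subgroup.eq_of_le_of_card_ge inf_le_right
      rw [hk, h, D.card_P]
    rw [← h2]
    exact inf_le_left

theorem cover (D : JData P P0 z a u g) (hJ : JN P0 z J) (c : Γ) (hc : c * z = z * c) :
    ∃ i ∈ J, i * z = z * i ∧ ∃ x ∈ P, c = i * x := by
  obtain ⟨i, hi, x, hx, h⟩ := D.cov (J ⊓ Subgroup.centralizer ({z} : Set Γ))
    (fun i hi => Subgroup.mem_centralizer_singleton_iff.1 (Subgroup.mem_inf.1 hi).2)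
    (fun c hc i hi => Subgroup.mem_inf.2 ⟨hJ.norm.conj_mem i (Subgroup.mem_inf.1 hi).1 c,
      Subgroup.mul_mem _ (Subgroup.mul_mem _ (Subgroup.mem_centralizer_singleton_iff.2 hc)
        (Subgroup.mem_inf.1 hi).2) (Subgroup.inv_mem _ (Subgroup.mem_centralizer_singleton_iff.2 hc))⟩)
    (fun x hx hxz => Subgroup.mem_inf.2 ⟨hJ.norm.conj_mem x (hJ.le hx) g,
      Subgroup.mem_centralizer_singleton_iff.2 hxz⟩) c hc
  exact ⟨i, (Subgroup.mem_inf.1 hi).1, Subgroup.mem_centralizer_singleton_iff.1 (Subgroup.mem_inf.1 hi).2,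
    x, hx, h⟩

theorem card_CJ [Finite Γ] (D : JData P P0 z a u g) (hJ : JN P0 z J) :
    Nat.card ↥(J ⊓ Subgroup.centralizer ({z} : Set Γ)) = 7680 := by
  have hPC : P ≤ Subgroup.centralizer ({z} : Set Γ) := fun x hx =>
    Subgroup.mem_centralizer_singleton_iff.2 (D.lz.comm_z x hx)
  have h1 := LargeExtra.Local.card_img D.lz (le_refl (Subgroup.centralizer ({z} : Set Γ)))
  have h2 := LargeExtra.Local.card_img D.lz (B := J ⊓ Subgroup.centralizer ({z} : Set Γ)) inf_le_right
  rw [inf_eq_right.2 hPC, D.card_P, D.card_C] at h1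
  have h3 : J ⊓ Subgroup.centralizer ({z} : Set Γ) ⊓ P = P0 := by
    rw [inf_assoc, inf_eq_right.2 hPC, inf_P D hJ]
  rw [h3, D.card_P0] at h2
  have h4 : LargeExtra.Local.img D.lz (J ⊓ Subgroup.centralizer ({z} : Set Γ)) =
      LargeExtra.Local.img D.lz (Subgroup.centralizer ({z} : Set Γ)) := by
    apply le_antisymm
    · intro f hf
      obtain ⟨c, hc, rfl⟩ := (LargeExtra.Local.mem_img _ _ _).1 hf
      exact (LargeExtra.Local.mem_img _ _ _).2 ⟨c, (Subgroup.mem_inf.1 hc).2, rfl⟩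
    · intro f hf
      obtain ⟨c, hc, rfl⟩ := (LargeExtra.Local.mem_img _ _ _).1 hf
      obtain ⟨i, hi, hiz, x, hx, h⟩ := cover D hJ c (Subgroup.mem_centralizer_singleton_iff.1 hc)
      refine (LargeExtra.Local.mem_img _ _ _).2
        ⟨⟨i, Subgroup.mem_centralizer_singleton_iff.2 hiz⟩,
          Subgroup.mem_inf.2 ⟨hi, Subgroup.mem_centralizer_singleton_iff.2 hiz⟩, ?_⟩
      have h5 : c = ⟨i, Subgroup.mem_centralizer_singleton_iff.2 hiz⟩ * ⟨x, hPC hx⟩ := Subtype.ext h
      have h6 : D.lz.act ⟨x, hPC hx⟩ = 1 := D.lz.act_mem _ hx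
      rw [h5, map_mul, h6, mul_one]
  rw [h4] at h2
  have h5 : Nat.card (LargeExtra.Local.img D.lz (Subgroup.centralizer ({z} : Set Γ))) = 120 := by omega
  rw [h5] at h2
  omega

/-- the whole group is `J P` -/
theorem eq_JP [Finite Γ] (D : JData P P0 z a u g) (hJ : JN P0 z J) : P ⊔ J = ⊤ := by
  have : Fact (Nat.Prime 2) := ⟨Nat.prime_two⟩
  have hn := hJ.norm
  have hzJ : z ∈ J := hJ.le (z_mem_P0 D)
  obtain ⟨S, hS⟩ := (isPGroup D.lz).exists_le_sylow
  have hSC := LargeExtra.TwoCentral.le_centralizer_of_two D.lz S.2 hS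
  have hfr := Lib.SylowNormalInf.normalizer_inf_sup_eq_top S J
  have hsub : Subgroup.normalizer (((S : Subgroup Γ) ⊓ J : Subgroup Γ) : Set Γ) ≤ P ⊔ J := by
    intro y hy
    have hy2 : ∀ x, x ∈ (S : Subgroup Γ) ⊓ J ↔ y * x * y⁻¹ ∈ (S : Subgroup Γ) ⊓ J :=
      Subgroup.mem_normalizer_iff.1 hy
    have hz1 : y * z * y⁻¹ ∈ (S : Subgroup Γ) ⊓ J :=
      (hy2 z).1 (Subgroup.mem_inf.2 ⟨hS D.lz.z_mem, hzJ⟩)
    have hz2 : (y * z * y⁻¹) * z = z * (y * z * y⁻¹) :=
      Subgroup.mem_centralizer_singleton_iff.1 (hSC (Subgroup.mem_inf.1 hz1).1)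
    have hcom : ∀ x ∈ P0, (y * z * y⁻¹) * x = x * (y * z * y⁻¹) := by
      intro x hx
      have h1 : y * (y⁻¹ * x * y) * y⁻¹ ∈ (S : Subgroup Γ) ⊓ J := by
        have : y * (y⁻¹ * x * y) * y⁻¹ = x := by group
        rw [this]
        exact Subgroup.mem_inf.2 ⟨hS (D.le hx), hJ.le hx⟩
      have h2 := (hy2 _).2 h1
      have h3 : (y⁻¹ * x * y) * z = z * (y⁻¹ * x * y) :=
        Subgroup.mem_centralizer_singleton_iff.1 (hSC (Subgroup.mem_inf.1 h2).1)
      calc (y * z * y⁻¹) * x = y * (z * (y⁻¹ * x * y)) * y⁻¹ := by group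
        _ = y * ((y⁻¹ * x * y) * z) * y⁻¹ := by rw [h3]
        _ = x * (y * z * y⁻¹) := by group
    have hmem := D.cen _ hz2 hcom
    have hzu := D.cen_u _ hmem hcom
    have hsq : (y * z * y⁻¹) * (y * z * y⁻¹) = 1 := by
      calc (y * z * y⁻¹) * (y * z * y⁻¹) = y * (z * z) * y⁻¹ := by group
        _ = 1 := by rw [D.lz.z_sq]; group
    have hyz : y * z * y⁻¹ = z := by
      rcases zpowers_cases D hzu with h | h | h | h
      · exfalso
        apply D.lz.z_ne
        calc z = y⁻¹ * (y * z * y⁻¹) * y := by group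
          _ = 1 := by rw [h]; group
      · exfalso
        rw [h, D.u_sq] at hsq
        exact D.lz.z_ne hsq
      · exact h
      · exfalso
        apply D.lz.z_ne
        rw [h] at hsq
        calc z = (u * u) * (z * z) := by rw [D.u_sq, D.lz.z_sq, mul_one]
          _ = u * (u * z) * z := by group
          _ = u * (z * u) * z := by rw [D.lz.comm_z u (D.le D.u_mem)]
          _ = (u * z) * (u * z) := by group
          _ = 1 := hsq
    obtain ⟨i, hi, -, x, hx, h⟩ := cover D hJ y (by rw [mul_inv_eq_iff_eq_mul] at hyz; exact hyz)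
    rw [h]
    exact Subgroup.mul_mem _ (Subgroup.mem_sup_right hi) (Subgroup.mem_sup_left hx)
  rw [eq_top_iff, ← hfr]
  exact sup_le hsub le_sup_right

theorem index_J [Finite Γ] (D : JData P P0 z a u g) (hJ : JN P0 z J) : J.index = 2 := by
  have hn := hJ.norm
  have h1 := Subgroup.relIndex_sup_right P J
  rw [eq_JP D hJ, Subgroup.relIndex_top_right] at h1
  rw [h1, ← Subgroup.inf_relIndex_right, inf_P D hJ]
  have h2 := Lib.SylowNormalInf.card_mul_relIndex P0 P D.le
  rw [D.card_P0, D.card_P] at h2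
  omega

theorem cent_J [Finite Γ] (D : JData P P0 z a u g) (hJ : JN P0 z J) (x : Γ)
    (hx : ∀ y ∈ J, x * y = y * x) : x = 1 := by
  have hn := hJ.norm
  by_contra hne
  have hC : (Subgroup.centralizer (J : Set Γ)).Normal := Subgroup.normal_centralizer
  have hb : Subgroup.centralizer (J : Set Γ) ≠ ⊥ := by
    intro h
    have h2 : x ∈ Subgroup.centralizer (J : Set Γ) := by
      rw [Subgroup.mem_centralizer_iff]
      intro y hy
      exact (hx y hy).symm
    rw [h, Subgroup.mem_bot] at h2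
    exact hne h2
  have h1 := z_mem_of_normal D hC hb
  have h2 := hJ.min _ (fun y => hC.conj_mem z h1 y)
  apply P0_not_comm D
  intro y hy w hw
  exact (Subgroup.mem_centralizer_iff.1 (h2 (hJ.le hy)) w (hJ.le hw)).symm

/-! ### the centraliser of `z` in `J` -/

section inner

variable (D : JData P P0 z a u g) (hJ : JN P0 z J)

theorem mem_CJ {zJ : J} {c : J} : c ∈ Subgroup.centralizer ({zJ} : Set J) ↔ (c : Γ) * zJ = zJ * c := by
  rw [Subgroup.mem_centralizer_singleton_iff]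
  exact ⟨fun h => congrArg Subtype.val h, fun h => Subtype.ext h⟩

theorem card_centralizer_J (zJ : J) (hz : (zJ : Γ) = z) :
    Nat.card (Subgroup.centralizer ({zJ} : Set J)) =
      Nat.card ↥(J ⊓ Subgroup.centralizer ({z} : Set Γ)) := by
  apply Nat.card_congr
  refine
    { toFun := fun c => ⟨(c : J), Subgroup.mem_inf.2 ⟨(c : J).2, ?_⟩⟩
      invFun := fun c => ⟨⟨c, (Subgroup.mem_inf.1 c.2).1⟩, ?_⟩
      left_inv := fun _ => rfl
      right_inv := fun _ => rfl }
  · rw [Subgroup.mem_centralizer_singleton_iff, ← hz]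
    exact mem_CJ.1 c.2
  · rw [mem_CJ, hz]
    exact Subgroup.mem_centralizer_singleton_iff.1 (Subgroup.mem_inf.1 c.2).2

/-- `P0` inside `C_J(z)` -/
def Qz (P0 : Subgroup Γ) (zJ : J) : Subgroup (Subgroup.centralizer ({zJ} : Set J)) :=
  P0.comap (J.subtype.comp (Subgroup.centralizer ({zJ} : Set J)).subtype)

theorem mem_Qz {zJ : J} {c : Subgroup.centralizer ({zJ} : Set J)} :
    c ∈ Qz P0 zJ ↔ ((c : J) : Γ) ∈ P0 := Iff.rfl

include D hJ in
theorem Qz_lift {zJ : J} (hz : (zJ : Γ) = z) {x : Γ} (hx : x ∈ P0) :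
    ∃ c ∈ Qz P0 zJ, ((c : J) : Γ) = x :=
  ⟨⟨⟨x, hJ.le hx⟩, mem_CJ.2 (by rw [hz]; exact D.lz.comm_z x (D.le hx))⟩, hx, rfl⟩

include D in
theorem Qz_normal {zJ : J} (hz : (zJ : Γ) = z) : (Qz P0 zJ).Normal := by
  refine ⟨fun x hx c => ?_⟩
  have h1 : ((c : J) : Γ) * z = z * c := by rw [← hz]; exact mem_CJ.1 c.2
  exact D.norm _ h1 _ hx

include D in
theorem Qz_isPGroup {zJ : J} : IsPGroup 2 (Qz P0 zJ) := by
  intro x
  obtain ⟨k, hk⟩ := isPGroup D.lz ⟨((x : Subgroup.centralizer ({zJ} : Set J)) : J), D.le x.2⟩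
  refine ⟨k, ?_⟩
  have h1 : ((((x : Subgroup.centralizer ({zJ} : Set J)) : J) : Γ)) ^ 2 ^ k = 1 := congrArg Subtype.val hk
  apply Subtype.ext
  apply Subtype.ext
  apply Subtype.ext
  exact h1

include D hJ in
theorem Qz_centralizer {zJ : J} (hz : (zJ : Γ) = z) :
    Subgroup.centralizer (Qz P0 zJ : Set (Subgroup.centralizer ({zJ} : Set J))) ≤ Qz P0 zJ := by
  intro c hc
  have h1 : ((c : J) : Γ) * z = z * c := by rw [← hz]; exact mem_CJ.1 c.2
  apply D.cen _ h1
  intro x hx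
  obtain ⟨y, hy, rfl⟩ := Qz_lift D hJ hz hx
  have h2 := Subgroup.mem_centralizer_iff.1 hc y hy
  exact (congrArg (fun w : Subgroup.centralizer ({zJ} : Set J) => ((w : J) : Γ)) h2).symm

include D hJ in
theorem FStar_eq [Finite Γ] {zJ : J} (hz : (zJ : Γ) = z) :
    Cfsg.generalizedFittingSubgroup ↥(Subgroup.centralizer ({zJ} : Set J)) = Qz P0 zJ := by
  have : Fact (Nat.Prime 2) := ⟨Nat.prime_two⟩
  rw [SignalizersComponents.FStarPCore.generalizedFitting_eq_pCore_of_centralizer_le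
    (Qz_normal D hz) (Qz_isPGroup D) (Qz_centralizer D hJ hz)]
  apply le_antisymm
  · -- the image of `O₂(C_J(z))` in `Γ`
    have hn : (Cfsg.pCore 2 ↥(Subgroup.centralizer ({zJ} : Set J))).Normal := inferInstance
    have hp : IsPGroup 2 (Cfsg.pCore 2 ↥(Subgroup.centralizer ({zJ} : Set J))) :=
      Cfsg.Agent.Lib.Cores.pCore_isPGroup 2
    have hQ : Qz P0 zJ ≤ Cfsg.pCore 2 ↥(Subgroup.centralizer ({zJ} : Set J)) :=
      Cfsg.Agent.Lib.Cores.le_pCore (Qz_normal D hz) (Qz_isPGroup D)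
    set O := Cfsg.pCore 2 ↥(Subgroup.centralizer ({zJ} : Set J)) with hO
    let φ := J.subtype.comp (Subgroup.centralizer ({zJ} : Set J)).subtype
    have h1 : O.map φ ≤ P := by
      apply D.o2
      · exact hp.map φ
      · rintro _ ⟨w, -, rfl⟩
        have := mem_CJ.1 w.2
        rw [hz] at this
        exact this
      · rintro c hc _ ⟨w, hw, rfl⟩
        obtain ⟨i, hi, hiz, x, hx, rfl⟩ := cover D hJ c hc
        have hwz : ((w : J) : Γ) * z = z * w := by rw [← hz]; exact mem_CJ.1 w.2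
        have hq : x * ((w : J) : Γ) * x⁻¹ * (w : Γ)⁻¹ ∈ P0 := by
          rw [← inf_P D hJ, Subgroup.mem_inf]
          constructor
          · refine J.mul_mem (hJ.norm.conj_mem _ (w : J).2 x) (J.inv_mem (w : J).2)
          · have h3 : x * ((w : J) : Γ) * x⁻¹ * (w : Γ)⁻¹ = x * (((w : J) : Γ) * x⁻¹ * (w : Γ)⁻¹) := by group
            rw [h3]
            exact P.mul_mem hx (D.lz.conj_mem _ hwz _ (P.inv_mem hx))
        obtain ⟨q, hq1, hq2⟩ := Qz_lift D hJ hz hq
        have h4 : x * ((w : J) : Γ) * x⁻¹ = ((q * w : Subgroup.centralizer ({zJ} : Set J)) : J) := by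
          show _ = ((q : J) : Γ) * ((w : J) : Γ)
          rw [hq2]; group
        let i' : Subgroup.centralizer ({zJ} : Set J) := ⟨⟨i, hi⟩, mem_CJ.2 (by rw [hz]; exact hiz)⟩
        refine ⟨i' * (q * w) * i'⁻¹, hn.conj_mem _ (O.mul_mem (hQ hq1) hw) i', ?_⟩
        show i * (((q * w : Subgroup.centralizer ({zJ} : Set J)) : J) : Γ) * i⁻¹ = _
        rw [← h4]
        show _ = i * x * ((w : J) : Γ) * (i * x)⁻¹
        group
    intro w hw
    rw [mem_Qz, ← inf_P D hJ, Subgroup.mem_inf]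
    exact ⟨(w : J).2, h1 ⟨w, hw, rfl⟩⟩
  · exact Cfsg.Agent.Lib.Cores.le_pCore (Qz_normal D hz) (Qz_isPGroup D)

include D hJ in
theorem card_Qz {zJ : J} (hz : (zJ : Γ) = z) : Nat.card (Qz P0 zJ) = 64 := by
  rw [← D.card_P0]
  apply Nat.card_congr
  refine
    { toFun := fun c => ⟨((c : Subgroup.centralizer ({zJ} : Set J)) : J), c.2⟩
      invFun := fun x => ⟨⟨⟨x, hJ.le x.2⟩, mem_CJ.2 (by rw [hz]; exact D.lz.comm_z x (D.le x.2))⟩, x.2⟩
      left_inv := fun _ => rfl
      right_inv := fun _ => rfl }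

include D hJ in
theorem symplectic_Qz {zJ : J} (hz : (zJ : Γ) = z) : Cfsg.IsOfSymplecticType (Qz P0 zJ) := by
  have hn := Qz_normal (J := J) D hz
  refine ⟨Qz_isPGroup D, fun A hA hcomm => ?_⟩
  have hval : ∀ w : Qz P0 zJ, (((w : Subgroup.centralizer ({zJ} : Set J)) : J) : Γ) ∈ P0 := fun w => w.2
  have hsub : ∀ w ∈ A, (((w : Subgroup.centralizer ({zJ} : Set J)) : J) : Γ) ∈ Subgroup.zpowers u := by
    intro w hw
    by_contra hnot
    obtain ⟨c, hc, hne⟩ := D.nc _ (hval w) hnot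
    obtain ⟨i, hi, hiz, x, hx, rfl⟩ := cover D hJ c hc
    apply hne
    let i' : Subgroup.centralizer ({zJ} : Set J) := ⟨⟨i, hi⟩, mem_CJ.2 (by rw [hz]; exact hiz)⟩
    have hw2 : (MulAut.conjNormal i' : MulAut (Qz P0 zJ)) w ∈ A := by
      have h1 := hA.fixed (MulAut.conjNormal i')
      have h2 : w ∈ A.comap ((MulAut.conjNormal i' : MulAut (Qz P0 zJ))).toMonoidHom := by
        rw [h1]; exact hw
      exact h2
    have h3 := congrArg (fun y : Qz P0 zJ => (((y : Subgroup.centralizer ({zJ} : Set J)) : J) : Γ))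
      (congrArg Subtype.val (hcomm.is_comm.comm ⟨w, hw⟩ ⟨_, hw2⟩))
    set W : Γ := (((w : Subgroup.centralizer ({zJ} : Set J)) : J) : Γ) with hW
    have h4 : W * (i * W * i⁻¹) = (i * W * i⁻¹) * W := h3
    have hWP : W ∈ P := D.le (hval w)
    have h5 : x * W * x⁻¹ = W ∨ x * W * x⁻¹ = W * z := by
      rcases D.lz.comm x hx W hWP with h | h
      · left; rw [h]; group
      · right
        rw [h]
        calc W * x * z * x⁻¹ = W * (x * z) * x⁻¹ := by group
          _ = W * (z * x) * x⁻¹ := by rw [D.lz.comm_z x hx]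
          _ = W * z := by group
    have h6 : i * x * W * (i * x)⁻¹ = i * (x * W * x⁻¹) * i⁻¹ := by group
    rw [h6]
    rcases h5 with h | h
    · rw [h]; exact h4
    · rw [h]
      have h7 : i * (W * z) * i⁻¹ = (i * W * i⁻¹) * z := by
        calc i * (W * z) * i⁻¹ = i * W * i⁻¹ * (i * z) * i⁻¹ := by group
          _ = i * W * i⁻¹ * (z * i) * i⁻¹ := by rw [hiz]
          _ = _ := by group
      rw [h7, ← mul_assoc, h4, mul_assoc, D.lz.comm_z W hWP, ← mul_assoc]
  let f : A →* Subgroup.zpowers u :=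
    { toFun := fun w => ⟨((((w : Qz P0 zJ) : Subgroup.centralizer ({zJ} : Set J)) : J) : Γ), hsub w w.2⟩
      map_one' := rfl
      map_mul' := fun _ _ => rfl }
  apply isCyclic_of_injective f
  intro x y hxy
  apply Subtype.ext
  apply Subtype.ext
  apply Subtype.ext
  apply Subtype.ext
  exact congrArg (fun w : Subgroup.zpowers u => (w : Γ)) hxy

end inner

/-! ### an elementary abelian subgroup of order eight -/

theorem exists_y [Finite Γ] (D : JData P P0 z a u g) :
    ∃ y ∈ P0, y * a = a * y ∧ y * y = 1 ∧ y ≠ 1 ∧ y ≠ z ∧ y ≠ a ∧ y ≠ a * z := by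
  classical
  have haP := D.le D.a_mem
  have hzP0 := z_mem_P0 D
  have hai : a * a = 1 := by
    have h1 : a * a = g * (z * z) * g⁻¹ := by
      rw [← D.g_z]; group
    rw [h1, D.lz.z_sq]; group
  have hcz : ∀ x ∈ P0, x * z = z * x := fun x hx => D.lz.comm_z x (D.le hx)
  -- `|C_{P0}(a)| ≥ 32`
  have h32 : 32 ≤ Nat.card ↥(P0 ⊓ Subgroup.centralizer ({a} : Set Γ)) := by
    by_cases hall : ∀ x ∈ P0, x * a = a * x
    · have : P0 ⊓ Subgroup.centralizer ({a} : Set Γ) = P0 := by
        rw [inf_eq_left]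
        intro x hx
        exact Subgroup.mem_centralizer_singleton_iff.2 (hall x hx)
      rw [this, D.card_P0]; norm_num
    · push Not at hall
      obtain ⟨x0, hx0, hx0a⟩ := hall
      have hidx : ((Subgroup.centralizer ({a} : Set Γ)).subgroupOf P0).index = 2 := by
        rw [Subgroup.index_eq_two_iff]
        refine ⟨⟨x0, hx0⟩, fun b => ?_⟩
        rw [Subgroup.mem_subgroupOf, Subgroup.mem_subgroupOf, Subgroup.mem_centralizer_singleton_iff,
          Subgroup.mem_centralizer_singleton_iff]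
        show Xor ((b : Γ) * x0 * a = a * (b * x0)) ((b : Γ) * a = a * b)
        have h0 : x0 * a = a * x0 * z := (D.lz.comm x0 (D.le hx0) a haP).resolve_left hx0a
        rcases D.lz.comm b (D.le b.2) a haP with hb | hb
        · right
          refine ⟨hb, fun h => ?_⟩
          apply D.lz.z_ne
          have h1 : (b : Γ) * x0 * a = a * (b * x0) * z := by
            calc (b : Γ) * x0 * a = b * (x0 * a) := by group
              _ = b * (a * x0 * z) := by rw [h0]
              _ = (b * a) * x0 * z := by group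
              _ = (a * b) * x0 * z := by rw [hb]
              _ = _ := by group
          rw [h1] at h
          exact mul_eq_left.1 h
        · left
          constructor
          · calc (b : Γ) * x0 * a = b * (x0 * a) := by group
              _ = b * (a * x0 * z) := by rw [h0]
              _ = (b * a) * x0 * z := by group
              _ = (a * b * z) * x0 * z := by rw [hb]
              _ = a * b * (z * x0) * z := by group
              _ = a * b * (x0 * z) * z := by rw [hcz x0 hx0]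
              _ = a * (b * x0) * (z * z) := by group
              _ = a * (b * x0) := by rw [D.lz.z_sq, mul_one]
          · intro h
            rw [hb] at h
            apply D.lz.z_ne
            exact mul_eq_left.1 h
      have h1 := Subgroup.card_mul_index ((Subgroup.centralizer ({a} : Set Γ)).subgroupOf P0)
      rw [hidx, D.card_P0] at h1
      have h2 : Nat.card ↥(P0 ⊓ Subgroup.centralizer ({a} : Set Γ)) =
          Nat.card ((Subgroup.centralizer ({a} : Set Γ)).subgroupOf P0) := by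
        rw [← Subgroup.inf_subgroupOf_left]
        exact (Nat.card_congr (Subgroup.subgroupOfEquivOfLe inf_le_left).toEquiv).symm
      omega
  -- an element outside `⟨u, a⟩`
  obtain ⟨y, hy, hyS⟩ : ∃ y ∈ P0 ⊓ Subgroup.centralizer ({a} : Set Γ),
      y ∉ ({1, z, a, a * z, u, u * z, a * u, a * u * z} : Finset Γ) := by
    by_contra hcon
    push Not at hcon
    have h1 : ((P0 ⊓ Subgroup.centralizer ({a} : Set Γ) : Subgroup Γ) : Set Γ) ⊆
        (({1, z, a, a * z, u, u * z, a * u, a * u * z} : Finset Γ) : Set Γ) := fun x hx => by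
      exact hcon x hx
    have h2 := Set.ncard_le_ncard h1 (Finset.finite_toSet _)
    rw [Set.ncard_coe_finset] at h2
    have h3 : ({1, z, a, a * z, u, u * z, a * u, a * u * z} : Finset Γ).card ≤ 8 := by
      refine (Finset.card_insert_le _ _).trans (Nat.succ_le_succ ?_)
      refine (Finset.card_insert_le _ _).trans (Nat.succ_le_succ ?_)
      refine (Finset.card_insert_le _ _).trans (Nat.succ_le_succ ?_)
      refine (Finset.card_insert_le _ _).trans (Nat.succ_le_succ ?_)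
      exact Finset.card_le_four
    have h4 : Nat.card ↥(P0 ⊓ Subgroup.centralizer ({a} : Set Γ)) =
      ((P0 ⊓ Subgroup.centralizer ({a} : Set Γ) : Subgroup Γ) : Set Γ).ncard := Nat.card_coe_set_eq _
    omega
  obtain ⟨hyP, hya⟩ := Subgroup.mem_inf.1 hy
  rw [Subgroup.mem_centralizer_singleton_iff] at hya
  simp only [Finset.mem_insert, Finset.mem_singleton, not_or] at hyS
  obtain ⟨y1, y2, y3, y4, y5, y6, y7, y8⟩ := hyS
  rcases D.lz.sq y (D.le hyP) with h | h
  · exact ⟨y, hyP, hya, h, y1, y2, y3, y4⟩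
  · have huy := D.u_cen y hyP
    have hua := D.u_cen a D.a_mem
    have huz := hcz u D.u_mem
    refine ⟨y * u, P0.mul_mem hyP D.u_mem, ?_, ?_, ?_, ?_, ?_, ?_⟩
    · calc y * u * a = y * (u * a) := by group
        _ = (y * a) * u := by rw [hua]; group
        _ = a * (y * u) := by rw [hya]; group
    · calc y * u * (y * u) = y * (u * y) * u := by group
        _ = (y * y) * (u * u) := by rw [huy]; group
        _ = 1 := by rw [h, D.u_sq, D.lz.z_sq]
    · intro h1
      apply y6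
      calc y = (y * u) * u⁻¹ := by group
        _ = u * z := by
            rw [h1, one_mul, ← D.u_sq]
            apply inv_eq_of_mul_eq_one_left
            calc u * (u * u) * u = (u * u) * (u * u) := by group
              _ = 1 := by rw [D.u_sq, D.lz.z_sq]
    · intro h1
      apply y5
      calc y = (y * u) * u⁻¹ := by group
        _ = u := by rw [h1, ← D.u_sq]; group
    · intro h1
      apply y8
      calc y = (y * u) * u⁻¹ := by group
        _ = a * u * z := by
            rw [h1, ← D.u_sq]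
            have : u⁻¹ = u * (u * u) := by
              apply inv_eq_of_mul_eq_one_left
              calc u * (u * u) * u = (u * u) * (u * u) := by group
                _ = 1 := by rw [D.u_sq, D.lz.z_sq]
            rw [this]; group
    · intro h1
      apply y7
      calc y = (y * u) * u⁻¹ := by group
        _ = a * u := by rw [h1, ← D.u_sq]; group

theorem exists_E [Finite Γ] (D : JData P P0 z a u g) (hJ : JN P0 z J) :
    ∃ E : Subgroup J, Cfsg.IsElementaryAbelian 2 E ∧ Nat.card E = 8 := by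
  classical
  have : Fact (Nat.Prime 2) := ⟨Nat.prime_two⟩
  obtain ⟨y, hyP, hya, hyy, y1, yz, ya, yaz⟩ := exists_y D
  have hzJ : z ∈ J := hJ.le (z_mem_P0 D)
  have haJ : a ∈ J := hJ.le D.a_mem
  have hyJ : y ∈ J := hJ.le hyP
  have hai : a * a = 1 := by
    have h1 : a * a = g * (z * z) * g⁻¹ := by
      rw [← D.g_z]; group
    rw [h1, D.lz.z_sq]; group
  have ha1 : a ≠ 1 := by
    intro h
    apply D.lz.z_ne
    calc z = g⁻¹ * (g * z * g⁻¹) * g := by group
      _ = 1 := by rw [D.g_z, h]; group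
  have haz := D.lz.comm_z a (D.le D.a_mem)
  have hyz := D.lz.comm_z y (D.le hyP)
  set F : Subgroup J := Subgroup.closure {(⟨z, hzJ⟩ : J), ⟨a, haJ⟩, ⟨y, hyJ⟩} with hF
  have hcomm : IsMulCommutative F := by
    apply Subgroup.isMulCommutative_closure
    rintro x (rfl | rfl | rfl) w (rfl | rfl | rfl)
    · rfl
    · exact Subtype.ext haz.symm
    · exact Subtype.ext hyz.symm
    · exact Subtype.ext haz
    · rfl
    · exact Subtype.ext hya.symm
    · exact Subtype.ext hyz
    · exact Subtype.ext hya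
    · rfl
  have hsq : ∀ x ∈ F, x ^ 2 = 1 := by
    intro x hx
    induction hx using Subgroup.closure_induction with
    | mem x hx =>
      rw [pow_two]
      rcases hx with rfl | rfl | rfl
      · exact Subtype.ext D.lz.z_sq
      · exact Subtype.ext hai
      · exact Subtype.ext hyy
    | one => exact one_pow 2
    | mul x w hx hw h1 h2 =>
      have h3 : x * w = w * x := congrArg Subtype.val (hcomm.is_comm.comm ⟨x, hx⟩ ⟨w, hw⟩)
      rw [pow_two] at h1 h2 ⊢
      calc x * w * (x * w) = x * (w * x) * w := by group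
        _ = x * (x * w) * w := by rw [h3]
        _ = (x * x) * (w * w) := by group
        _ = 1 := by rw [h1, h2, one_mul]
    | inv x hx h1 => rw [inv_pow, h1, inv_one]
  have hp : IsPGroup 2 F := fun x => ⟨1, Subtype.ext (by
    rw [pow_one]; exact hsq x x.2)⟩
  obtain ⟨n, hn⟩ := IsPGroup.iff_card.1 hp
  -- at least five elements
  have h5 : 5 ≤ Nat.card F := by
    have hzF : (⟨z, hzJ⟩ : J) ∈ F := Subgroup.subset_closure (by simp)
    have haF : (⟨a, haJ⟩ : J) ∈ F := Subgroup.subset_closure (by simp)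
    have hyF : (⟨y, hyJ⟩ : J) ∈ F := Subgroup.subset_closure (by simp)
    have h1 : ((({1, ⟨z, hzJ⟩, ⟨a, haJ⟩, ⟨a, haJ⟩ * ⟨z, hzJ⟩, ⟨y, hyJ⟩} : Finset J)) : Set J) ⊆ (F : Set J) := by
      intro x hx
      simp only [Finset.coe_insert, Finset.coe_singleton, Set.mem_insert_iff, Set.mem_singleton_iff] at hx
      rcases hx with rfl | rfl | rfl | rfl | rfl
      · exact F.one_mem
      · exact hzF
      · exact haF
      · exact F.mul_mem haF hzF
      · exact hyF
    have h2 := Set.ncard_le_ncard h1 (Set.toFinite _)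
    rw [Set.ncard_coe_finset] at h2
    have h3 : Nat.card F = (F : Set J).ncard := Nat.card_coe_set_eq _
    have hinj : ∀ {x w : J}, (x : Γ) ≠ w → x ≠ w := fun h e => h (congrArg Subtype.val e)
    have n1 : (1 : J) ≠ ⟨z, hzJ⟩ := hinj (Ne.symm D.lz.z_ne)
    have n2 : (1 : J) ≠ ⟨a, haJ⟩ := hinj (Ne.symm ha1)
    have n3 : (1 : J) ≠ ⟨a, haJ⟩ * ⟨z, hzJ⟩ := hinj (by
      show (1 : Γ) ≠ a * z
      intro h
      apply D.a_ne
      calc a = (a * z) * z⁻¹ := by group
        _ = z⁻¹ := by rw [← h, one_mul]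
        _ = z := D.lz.z_inv)
    have n4 : (1 : J) ≠ ⟨y, hyJ⟩ := hinj (Ne.symm y1)
    have n5 : (⟨z, hzJ⟩ : J) ≠ ⟨a, haJ⟩ := hinj (Ne.symm D.a_ne)
    have n6 : (⟨z, hzJ⟩ : J) ≠ ⟨a, haJ⟩ * ⟨z, hzJ⟩ := hinj (by
      show z ≠ a * z
      intro h
      exact ha1 (mul_eq_right.1 h.symm))
    have n7 : (⟨z, hzJ⟩ : J) ≠ ⟨y, hyJ⟩ := hinj (Ne.symm yz)
    have n8 : (⟨a, haJ⟩ : J) ≠ ⟨a, haJ⟩ * ⟨z, hzJ⟩ := hinj (by
      show a ≠ a * z
      intro h
      exact D.lz.z_ne (mul_eq_left.1 h.symm))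
    have n9 : (⟨a, haJ⟩ : J) ≠ ⟨y, hyJ⟩ := hinj (Ne.symm ya)
    have n10 : (⟨a, haJ⟩ * ⟨z, hzJ⟩ : J) ≠ ⟨y, hyJ⟩ := hinj (Ne.symm yaz)
    rw [Finset.card_insert_of_notMem (by
        simp only [Finset.mem_insert, Finset.mem_singleton, not_or]; exact ⟨n1, n2, n3, n4⟩),
      Finset.card_insert_of_notMem (by simp only [Finset.mem_insert, Finset.mem_singleton, not_or]; exact ⟨n5, n6, n7⟩),
      Finset.card_insert_of_notMem (by simp only [Finset.mem_insert, Finset.mem_singleton, not_or]; exact ⟨n8, n9⟩),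
      Finset.card_insert_of_notMem (by simp only [Finset.mem_singleton]; exact n10),
      Finset.card_singleton] at h2
    omega
  have hn3 : 3 ≤ n := by
    by_contra hlt
    push Not at hlt
    have : 2 ^ n ≤ 2 ^ 2 := Nat.pow_le_pow_right (by norm_num) (by omega)
    omega
  have hdvd : 2 ^ 3 ∣ Nat.card F := by
    rw [hn]; exact pow_dvd_pow 2 hn3
  obtain ⟨K, hK⟩ := Sylow.exists_subgroup_card_pow_prime 2 hdvd
  refine ⟨K.map F.subtype, ⟨?_, ?_⟩, ?_⟩
  · refine ⟨⟨?_⟩⟩
    rintro ⟨_, ⟨x, hx, rfl⟩⟩ ⟨_, ⟨w, hw, rfl⟩⟩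
    apply Subtype.ext
    show (x : J) * w = w * x
    exact congrArg Subtype.val (hcomm.is_comm.comm x w)
  · rintro _ ⟨x, hx, rfl⟩
    exact hsq _ x.2
  · rw [Nat.card_congr (K.equivMapOfInjective F.subtype F.subtype_injective).symm.toEquiv, hK]
    norm_num

end data

open Cfsg in
/-- **Part (3) of the case `HN`.** -/
theorem main {Γ : Type u'} [Group Γ] [Finite Γ] {P P0 : Subgroup Γ} {z a u g : Γ} (D : JData P P0 z a u g)
    (alt : ∀ (J : Type u') [Group J] [Finite J] [IsSimpleGroup J] (_ : ¬ IsMulCommutative J) (z : J)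
      (_ : orderOf z = 2)
      (_ : Cfsg.IsOfSymplecticType ↥(Cfsg.generalizedFittingSubgroup ↥(Subgroup.centralizer ({z} : Set J)))),
      Cfsg.IsExtraspecial 2 ↥(Cfsg.generalizedFittingSubgroup ↥(Subgroup.centralizer ({z} : Set J))) ∨
      (QuotientGroup.mk' (Cfsg.oddCore J) z ∈ Subgroup.center (J ⧸ Cfsg.oddCore J)) ∨
      (∃ (F : Type) (_ : Field F) (_ : Fintype F),
        ((∃ n : ℕ, Fintype.card F = 2 ^ n + 1) ∨ (∃ n : ℕ, Fintype.card F + 1 = 2 ^ n)) ∧
        Nonempty (J ≃* Matrix.ProjectiveSpecialLinearGroup (Fin 2) F)) ∨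
      Cfsg.Spor.IsoM11 J ∨
      (∃ (F : Type) (_ : Field F) (_ : Fintype F), Fintype.card F = 3 ∧
        Nonempty (J ≃* Matrix.ProjectiveSpecialLinearGroup (Fin 3) F)) ∨
      (∃ (F : Type) (_ : Field F) (_ : Fintype F), Fintype.card F = 9 ∧ Nonempty (J ≃* Cfsg.PSU 3 F 3)) ∨
      Cfsg.Spor.IsoHS J) :
    ∃ J : Subgroup Γ, J.Normal ∧ J.index = 2 ∧ P0 ≤ J ∧ (∀ x, (∀ y ∈ J, x * y = y * x) → x = 1) ∧
      Nonempty (J ≃* Cfsg.Spor.HS) ∧ (∀ c, c * z = z * c → ∃ i ∈ J, ∃ x ∈ P, c = i * x) := by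
  have hJ := exists_J D
  set J := Subgroup.normalClosure ({z} : Set Γ)
  have hzJ : z ∈ J := hJ.le (z_mem_P0 D)
  have hsimple := isSimple D hJ
  have hnc := not_comm D hJ
  refine ⟨J, hJ.norm, index_J D hJ, hJ.le, cent_J D hJ, ?_, fun c hc => ?_⟩
  · have ho : orderOf (⟨z, hzJ⟩ : J) = 2 := by
      rw [Subgroup.orderOf_mk]
      exact orderOf_z D.lz
    have hFeq := FStar_eq D hJ (zJ := (⟨z, hzJ⟩ : J)) rfl
    obtain ⟨E, hE, hE8⟩ := exists_E D hJ
    have h1 := alt J hnc ⟨z, hzJ⟩ ho (by rw [hFeq]; exact symplectic_Qz D hJ rfl)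
    exact Alt.isoHS hnc ⟨z, hzJ⟩ ho (by rw [card_centralizer_J (⟨z, hzJ⟩ : J) rfl, card_CJ D hJ])
      (by rw [hFeq]; exact card_Qz D hJ rfl) E hE hE8 h1
  · obtain ⟨i, hi, -, x, hx, h⟩ := cover D hJ c hc
    exact ⟨i, hi, x, hx, h⟩

end Cfsg.Agent.HNType.Simple
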