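import Cfsg.Agent.HNType.Final
import Cfsg.Agent.HNType.Split
import Cfsg.Agent.HNType.LocalC
import Cfsg.Agent.HNType.Simple
import Cfsg.Agent.HNType.Facts
import Cfsg.Agent.LargeExtra.KillNine.PtsHN

/-!
# S1763, case [HN]: recognition of the Harada–Norton group (helper344)
-/

set_option autoImplicit false

namespace Cfsg.Agent.HNType.Main

open Cfsg.Agent.Co2Type.Quad Cfsg.Agent.LargeExtra.Base Cfsg.Agent.LargeExtra.Local
open Cfsg.Agent.LargeExtra.KillNine.EGroup Cfsg.Agent.LargeExtra.KillNine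
open Cfsg.Agent.HNType.Iface Cfsg.Agent.HNType.Quot
open Cfsg.Agent.LargeExtra.Nine

universe u

/-- the output of part (3) -/
def Out3 {Γ : Type u} [Group Γ] (P P0 : Subgroup Γ) (z : Γ) : Prop :=
  ∃ J : Subgroup Γ, J.Normal ∧ J.index = 2 ∧ P0 ≤ J ∧ (∀ x, (∀ y ∈ J, x * y = y * x) → x = 1) ∧
    Nonempty (J ≃* Spor.HS) ∧ (∀ c, c * z = z * c → ∃ i ∈ J, ∃ x ∈ P, c = i * x)

theorem index_ne_two {G : Type u} [Group G] [Finite G] [IsSimpleGroup G] (hG : ¬ IsMulCommutative G)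
    (H : Subgroup G) : H.index ≠ 2 := by
  intro h
  have hn : H.Normal := Subgroup.normal_of_index_eq_two h
  rcases hn.eq_bot_or_eq_top with h1 | h1
  · subst h1
    rw [Subgroup.index_bot] at h
    apply hG
    have : Fact (Nat.Prime 2) := ⟨Nat.prime_two⟩
    have : IsCyclic G := isCyclic_of_prime_card h
    exact ⟨⟨fun x y => (IsCyclic.commGroup (α := G)).mul_comm x y⟩⟩
  · subst h1
    rw [Subgroup.index_top] at h
    omega

theorem orb_pts : ∀ n ∈ PtsHN.orb, ∃ s ∈ Tables.pts, s.1 = n := by decide +kernel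

theorem recognize {G : Type u} [Group G] [Finite G] [IsSimpleGroup G] (hG : ¬ IsMulCommutative G)
    (h1674 : ∀ (t : G), orderOf t = 2 → ∀ (M : Subgroup (Subgroup.centralizer ({t} : Set G))), M.Normal →
      M.index = 2 → Subgroup.centralizer (M : Set (Subgroup.centralizer ({t} : Set G))) ≤ M →
      Cfsg.IsNonsplitDoubleCover M Cfsg.Spor.HS → Cfsg.Spor.IsoHN G)
    (h3 : ∀ {Γ : Type u} [Group Γ] [Finite Γ] {P P0 : Subgroup Γ} {z a u g : Γ}, JData P P0 z a u g →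
      Out3 P P0 z)
    {Q A : Subgroup G} {z a : G} (p : Pair Q z A a) (φ : Coord p.lz) (hc : IsConf p φ confHN) :
    Cfsg.Spor.IsoHN G := by
  have hidx := index_ne_two hG
  have F := Facts.facts_of_conf p φ hc (by
    intro x hx hx0
    obtain ⟨n, hn, hv⟩ := PtsHN.pts p φ hc x hx hx0
    obtain ⟨s, hs, hs'⟩ := orb_pts n hn
    exact ⟨s, hs, by rw [hs']; exact hv⟩)
  have hσ := Split.sigma_not_mem hidx F
  obtain ⟨t, g, T⟩ := Involution.exists_tg F
  obtain ⟨û, hu⟩ := p.lz.pr_surjective (Stab.ww φ)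
  have huY : (û : G) ∈ Y t := (Local.Q_mem_Y T û).2 (by rw [hu]; exact F.b_vw)
  have D := LocalC.jdata F hσ T û.2 hu huY
  obtain ⟨J, hJ, hJ2, hP0, hcent, e, hcov⟩ := h3 D
  exact Final.isoHN h1674 F T.htQ û.2 (Local.zY T) T.sq T.pr hu J hJ hJ2 hP0 hcent e hcov

/-- **Case [HN] of S1763** (modulo the statements S1674, for `G`, and S1758, in the universe of `G`). -/
theorem isoHN {G : Type u} [Group G] [Finite G] [IsSimpleGroup G] (hG : ¬ IsMulCommutative G)
    (h1674 : ∀ (t : G), orderOf t = 2 → ∀ (M : Subgroup (Subgroup.centralizer ({t} : Set G))), M.Normal →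
      M.index = 2 → Subgroup.centralizer (M : Set (Subgroup.centralizer ({t} : Set G))) ≤ M →
      Cfsg.IsNonsplitDoubleCover M Cfsg.Spor.HS → Cfsg.Spor.IsoHN G)
    (h1758 : ∀ (J : Type u) [Group J] [Finite J] [IsSimpleGroup J] (_ : ¬ IsMulCommutative J) (z : J)
      (_ : orderOf z = 2)
      (_ : Cfsg.IsOfSymplecticType ↥(Cfsg.generalizedFittingSubgroup ↥(Subgroup.centralizer ({z} : Set J)))),
      Cfsg.IsExtraspecial 2 ↥(Cfsg.generalizedFittingSubgroup ↥(Subgroup.centralizer ({z} : Set J))) ∨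
      (QuotientGroup.mk' (Cfsg.oddCore J) z ∈ Subgroup.center (J ⧸ Cfsg.oddCore J)) ∨
      (∃ (F : Type) (_ : Field F) (_ : Fintype F),
        ((∃ n : ℕ, Fintype.card F = 2 ^ n + 1) ∨ (∃ n : ℕ, Fintype.card F + 1 = 2 ^ n)) ∧
        Nonempty (J ≃* Matrix.ProjectiveSpecialLinearGroup (Fin 2) F)) ∨
      Cfsg.Spor.IsoM11 J ∨
      (∃ (F : Type) (_ : Field F) (_ : Fintype F), Fintype.card F = 3 ∧
        Nonempty (J ≃* Matrix.ProjectiveSpecialLinearGroup (Fin 3) F)) ∨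
      (∃ (F : Type) (_ : Field F) (_ : Fintype F), Fintype.card F = 9 ∧ Nonempty (J ≃* Cfsg.PSU 3 F 3)) ∨
      Cfsg.Spor.IsoHS J)
    {Q A : Subgroup G} {z a : G} (p : Pair Q z A a) (φ : Coord p.lz) (hc : IsConf p φ confHN) :
    Cfsg.Spor.IsoHN G :=
  recognize hG h1674 (fun D => Simple.main D h1758) p φ hc

end Cfsg.Agent.HNType.Main
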