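import Cfsg.Agent.HNType.Iface

/-!
# The group `C_G(t) / ⟨t⟩` (helper344)
-/

set_option autoImplicit false

namespace Cfsg.Agent.HNType.Quot

open Cfsg.Agent.Co2Type.Quad Cfsg.Agent.LargeExtra.Base Cfsg.Agent.HNType.Iface

variable {G : Type*} [Group G]

/-- `C_G(t)` -/
abbrev Y (t : G) : Subgroup G := Subgroup.centralizer ({t} : Set G)

theorem mem_Y {t g : G} : g ∈ Y t ↔ g * t = t * g := Subgroup.mem_centralizer_singleton_iff

/-- `t` as an element of `C_G(t)` -/
def tY (t : G) : Y t := ⟨t, mem_Y.2 rfl⟩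

/-- `⟨t⟩ ≤ C_G(t)` -/
def Zt (t : G) : Subgroup (Y t) := Subgroup.zpowers (tY t)

theorem comm_tY {t : G} (x : Y t) : x * tY t = tY t * x := Subtype.ext (mem_Y.1 x.2)

instance normal_Zt (t : G) : (Zt t).Normal where
  conj_mem := by
    intro n hn g
    obtain ⟨k, rfl⟩ := Subgroup.mem_zpowers_iff.1 hn
    have h1 : Commute g (tY t) := comm_tY g
    have h2 : g * tY t ^ k * g⁻¹ = tY t ^ k := by rw [(h1.zpow_right k).eq]; group
    rw [h2]; exact Subgroup.zpow_mem _ (Subgroup.mem_zpowers _) k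

/-- `Γ = C_G(t) / ⟨t⟩` -/
abbrev Gam (t : G) : Type _ := Y t ⧸ Zt t

/-- the projection `C_G(t) → Γ` -/
def mk (t : G) : Y t →* Gam t := QuotientGroup.mk' (Zt t)

theorem mk_surjective (t : G) : Function.Surjective (mk t) := QuotientGroup.mk'_surjective _

theorem mk_eq_one {t : G} {x : Y t} : mk t x = 1 ↔ x ∈ Zt t := QuotientGroup.eq_one_iff x

theorem mem_Zt {t : G} (ht : t * t = 1) {x : Y t} : x ∈ Zt t ↔ (x : G) = 1 ∨ (x : G) = t := by
  constructor
  · intro hx
    obtain ⟨k, rfl⟩ := Subgroup.mem_zpowers_iff.1 hx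
    have h2 : tY t ^ (2 : ℤ) = 1 := by
      rw [zpow_two]; exact Subtype.ext ht
    rcases Int.even_or_odd' k with ⟨m, rfl | rfl⟩
    · left; rw [zpow_mul, h2, one_zpow]; rfl
    · right; rw [zpow_add, zpow_mul, h2, one_zpow, one_mul, zpow_one]; rfl
  · rintro (h | h)
    · have : x = 1 := Subtype.ext h
      rw [this]; exact one_mem _
    · have : x = tY t := Subtype.ext h
      rw [this]; exact Subgroup.mem_zpowers _

theorem mk_eq_mk {t : G} (ht : t * t = 1) {x y : Y t} :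
    mk t x = mk t y ↔ (x : G) = y ∨ (x : G) = y * t := by
  have h1 : mk t x = mk t y ↔ y⁻¹ * x ∈ Zt t := by
    rw [← mk_eq_one, map_mul, map_inv, inv_mul_eq_one, eq_comm]
  rw [h1, mem_Zt ht]
  constructor
  · rintro (h | h)
    · left
      have : (y : G)⁻¹ * x = 1 := h
      exact (inv_mul_eq_one.1 this).symm
    · right
      have : (y : G)⁻¹ * x = t := h
      exact inv_mul_eq_iff_eq_mul.1 this
  · rintro (h | h)
    · left
      show (y : G)⁻¹ * x = 1
      rw [h]; group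
    · right
      show (y : G)⁻¹ * x = t
      rw [h]; group

/-- the image in `Γ` of a subgroup `R` of `G` -/
def im (t : G) (R : Subgroup G) : Subgroup (Gam t) := (R.subgroupOf (Y t)).map (mk t)

theorem mem_im {t : G} {R : Subgroup G} {x : Gam t} :
    x ∈ im t R ↔ ∃ y : Y t, (y : G) ∈ R ∧ mk t y = x := Iff.rfl

theorem mk_mem_im {t : G} (ht : t * t = 1) {R : Subgroup G} (htR : t ∈ R) {y : Y t} :
    mk t y ∈ im t R ↔ (y : G) ∈ R := by
  constructor
  · rintro ⟨x, hx, hxy⟩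
    rcases (mk_eq_mk ht).1 hxy with h | h
    · rw [← h]; exact hx
    · have : (y : G) = x * t := by rw [h, mul_assoc, ht, mul_one]
      rw [this]; exact R.mul_mem hx htR
  · intro hy
    exact ⟨y, hy, rfl⟩

/-- the submodule `S = ⟨v, w⟩^⊥` -/
def Sg {Q : Subgroup G} {z : G} (h : Large Q z) (v w : h.V) : Submodule (ZMod 2) h.V where
  carrier := {x | InS h v w x}
  zero_mem' := ⟨map_zero _, map_zero _⟩
  add_mem' := by
    rintro x y ⟨h1, h2⟩ ⟨h3, h4⟩
    exact ⟨by rw [map_add, h1, h3, add_zero], by rw [map_add, h2, h4, add_zero]⟩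
  smul_mem' := by
    rintro c x ⟨h1, h2⟩
    exact ⟨by rw [map_smul, h1, smul_zero], by rw [map_smul, h2, smul_zero]⟩

theorem mem_Sg {Q : Subgroup G} {z : G} {h : Large Q z} {v w x : h.V} : x ∈ Sg h v w ↔ InS h v w x := Iff.rfl

end Cfsg.Agent.HNType.Quot
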