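import Cfsg.Agent.HNType.Tables
import Cfsg.Agent.LargeExtra.KillNine.Cert

/-!
# The case `HN` of S1763: the group `N`, the stabiliser of a vector (helper344)
-/

set_option autoImplicit false

namespace Cfsg.Agent.HNType.Stab

open Cfsg.Agent.Co2Type.Quad Cfsg.Agent.LargeExtra.Base Cfsg.Agent.LargeExtra.Nine
open Cfsg.Agent.LargeExtra.KillNine.Codes Cfsg.Agent.HNType.Tables

theorem closure_ind {M : Type*} [Group M] [Finite M] {s : Set M} {p : M → Prop} (h1 : p 1)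
    (hm : ∀ x ∈ s, ∀ y, p y → p (x * y)) : ∀ x ∈ Subgroup.closure s, p x := by
  intro x hx
  rw [← Subgroup.mem_toSubmonoid, Subgroup.closure_toSubmonoid_of_finite] at hx
  induction hx using Submonoid.closure_induction_left with
  | one => exact h1
  | mul_left x hx y hy ih => exact hm x hx y ih

variable {G : Type*} [Group G] {Q : Subgroup G} {z : G}

instance finite_GL [Finite Q] (h : Large Q z) : Finite (h.V ≃ₗ[ZMod 2] h.V) :=
  Finite.of_injective (fun f : h.V ≃ₗ[ZMod 2] h.V => (f : h.V → h.V)) DFunLike.coe_injective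

section

variable {h : Large Q z} (φ : Coord h)

/-- elements with matrix in the list `l` -/
def lset (l : List (List ℕ)) : Set (h.V ≃ₗ[ZMod 2] h.V) := {f | ∃ L ∈ l, Acts φ L f}

/-- the group `N` -/
noncomputable def NN : Subgroup (h.V ≃ₗ[ZMod 2] h.V) := Subgroup.closure (lset φ gensN)

/-- the group generated by `kgens` -/
noncomputable def KK : Subgroup (h.V ≃ₗ[ZMod 2] h.V) := Subgroup.closure (lset φ kgens)

/-- the generators exist -/
def Gen : Prop := ∀ L ∈ gensN, ∃ f, Acts φ L f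

variable {φ}

theorem in_NN (hg : Gen φ) {L : List ℕ} (hL : L ∈ gensN) : In φ (NN φ) L := by
  obtain ⟨f, hf⟩ := hg L hL
  exact ⟨f, Subgroup.subset_closure ⟨L, hL, hf⟩, hf⟩

theorem getD_mem {l : List (List ℕ)} {i : ℕ} (hi : i < l.length) : l.getD i [] ∈ l := by
  rw [List.getD_eq_getElem _ _ hi]; exact List.getElem_mem hi

theorem exists_idx {l : List (List ℕ)} {L : List ℕ} (hL : L ∈ l) : ∃ i < l.length, L = l.getD i [] := by
  obtain ⟨i, hi, rfl⟩ := List.getElem_of_mem hL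
  exact ⟨i, hi, (List.getD_eq_getElem _ _ hi).symm⟩

theorem kg_in (hg : Gen φ) {i : ℕ} (hi : i < 4) : In φ (NN φ) (kgens.getD i []) := by
  obtain ⟨h1, h2⟩ := c_kw i hi
  rw [h2]
  apply In.prod
  intro L hL
  obtain ⟨j, hj, rfl⟩ := List.mem_map.1 hL
  exact in_NN hg (getD_mem (show j < gensN.length from h1 j hj))

theorem kg_in' (hg : Gen φ) {i : ℕ} (hi : i < 4) : In φ (KK φ) (kgens.getD i []) := by
  obtain ⟨f, -, hf⟩ := kg_in hg hi
  exact ⟨f, Subgroup.subset_closure ⟨_, getD_mem (show i < kgens.length from hi), hf⟩, hf⟩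

theorem K_in (hg : Gen φ) : ∀ i < 120, In φ (KK φ) (K.getD i []) := by
  intro i
  induction i using Nat.strong_induction_on with
  | _ i ih =>
    intro hi
    rcases c_kpar i hi with rfl | ⟨h1, h2, h3⟩
    · rw [c_K0]; exact In.one
    · rw [h3]
      exact (ih _ h1 (h1.trans hi)).mul (kg_in' hg h2)

theorem T_in (hg : Gen φ) : ∀ i < 60, In φ (NN φ) (T.getD i []) := by
  intro i
  induction i using Nat.strong_induction_on with
  | _ i ih =>
    intro hi
    rcases c_tpar i hi with rfl | ⟨h1, h2, h3⟩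
    · rw [c_T0]; exact In.one
    · rw [h3]
      exact (ih _ h1 (h1.trans hi)).mul (in_NN hg (getD_mem (show _ < gensN.length from h2)))

theorem KK_le (hg : Gen φ) : KK φ ≤ NN φ := by
  rw [KK, Subgroup.closure_le]
  rintro f ⟨L, hL, hf⟩
  obtain ⟨i, hi, rfl⟩ := exists_idx hL
  obtain ⟨g, hg', hg''⟩ := kg_in hg (show i < 4 from hi)
  rw [Acts.ext hf hg'']; exact hg'

theorem KK_list [Finite Q] {f : h.V ≃ₗ[ZMod 2] h.V} (hf : f ∈ KK φ) :
    ∃ i < 120, Acts φ (K.getD i []) f := by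
  revert f
  apply closure_ind
  · exact ⟨0, by norm_num, by rw [c_K0]; exact Acts.one⟩
  · rintro x ⟨L, hL, hx⟩ y ⟨j, hj, hy⟩
    obtain ⟨i, hi, rfl⟩ := exists_idx hL
    obtain ⟨h1, h2⟩ := c_ktab i hi j hj
    exact ⟨_, h1, h2 ▸ Acts.mul hy hx⟩

theorem decomp [Finite Q] (hg : Gen φ) {f : h.V ≃ₗ[ZMod 2] h.V} (hf : f ∈ NN φ) :
    ∃ j < 60, ∃ t, Acts φ (T.getD j []) t ∧ ∃ k ∈ KK φ, f = t * k := by
  revert f
  apply closure_ind
  · exact ⟨0, by norm_num, 1, by rw [c_T0]; exact Acts.one, 1, one_mem _, (mul_one _).symm⟩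
  · rintro x ⟨L, hL, hx⟩ y ⟨j, hj, t, ht, k, hk, rfl⟩
    obtain ⟨i, hi, rfl⟩ := exists_idx hL
    obtain ⟨h1, h2, h3⟩ := c_nt i hi j hj
    obtain ⟨t', -, ht'⟩ := T_in hg _ h1
    obtain ⟨k', hk', hk''⟩ := K_in hg _ h2
    refine ⟨_, h1, t', ht', k' * k, mul_mem hk' hk, ?_⟩
    have e : x * t = t' * k' := Acts.ext (φ := φ) (h3 ▸ Acts.mul ht hx) (Acts.mul hk'' ht')
    rw [← mul_assoc, e, mul_assoc]

variable (φ) in
/-- the vector with code 2 -/
noncomputable def vv : h.V := φ.e.symm (vec 2)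

variable (φ) in
/-- the vector with code 197 -/
noncomputable def ww : h.V := φ.e.symm (vec 197)

theorem e_vv : φ.e (vv φ) = vec 2 := φ.e.apply_symm_apply _
theorem e_ww : φ.e (ww φ) = vec 197 := φ.e.apply_symm_apply _

theorem acts_code {L : List ℕ} {f : h.V ≃ₗ[ZMod 2] h.V} (hf : Acts φ L f) {v : h.V} {n : ℕ}
    (hv : φ.e v = vec n) : φ.e (f v) = vec (ap L n) := by
  rw [hf v, hv, lin_vec]

theorem KK_vv [Finite Q] {f : h.V ≃ₗ[ZMod 2] h.V} (hf : f ∈ KK φ) : f (vv φ) = vv φ := by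
  obtain ⟨i, hi, hf'⟩ := KK_list hf
  apply φ.e.injective
  rw [acts_code hf' e_vv, c_K2 i hi, e_vv]

theorem stab [Finite Q] (hg : Gen φ) {f : h.V ≃ₗ[ZMod 2] h.V} (hf : f ∈ NN φ)
    (hv : f (vv φ) = vv φ) : f ∈ KK φ := by
  obtain ⟨j, hj, t, ht, k, hk, rfl⟩ := decomp hg hf
  rw [LinearEquiv.mul_apply, KK_vv hk] at hv
  have h1 : vec (ap (T.getD j []) 2) = vec 2 := by
    rw [← acts_code ht e_vv, hv, e_vv]
  have h2 := vec_inj _ (c_T256 j hj) _ (by norm_num) h1
  rcases c_T2 j hj with rfl | h3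
  · have : t = 1 := Acts.ext (φ := φ) ht (by rw [c_T0]; exact Acts.one)
    rw [this, one_mul]; exact hk
  · exact absurd h2 h3

end

end Cfsg.Agent.HNType.Stab
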