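import Cfsg.Agent.LargeExtra.KillNine.Codes

/-!
# The case `HN` of S1763: tables (helper344)

`gensN` = generators of `N = (A₅ × A₅).2` (codes of `Nine.Iface`), `K` = the 120 elements of the stabiliser of the
code 2 in `N` (`≅ S₅`), `T` = a transversal (images of the code 2), `kgens` = four transpositions generating `K`.
-/

set_option autoImplicit false

namespace Cfsg.Agent.HNType.Tables

open Cfsg.Agent.LargeExtra.Nine Cfsg.Agent.LargeExtra.KillNine.Codes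

/-- generators of `N` -/
def gensN : List (List ℕ) := confHN.X ++ confHN.N

/-- the element `s` of `N.2` -/
def sL : List ℕ := [1, 2, 6, 10, 18, 231, 66, 128]

/-- generators of `K` -/
def kgens : List (List ℕ) := [
    [1, 2, 4, 9, 144, 36, 66, 128], [1, 2, 5, 8, 88, 40, 64, 131],
    [14, 2, 4, 7, 132, 176, 217, 20], [73, 2, 30, 10, 18, 237, 66, 210]]

/-- the stabiliser of the code 2 -/
def K : List (List ℕ) := [
    [1, 2, 4, 8, 16, 32, 64, 128], [1, 2, 4, 9, 144, 36, 66, 128],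
    [1, 2, 5, 8, 88, 40, 64, 131], [14, 2, 4, 7, 132, 176, 217, 20],
    [73, 2, 30, 10, 18, 237, 66, 210], [1, 2, 5, 9, 219, 45, 66, 131],
    [14, 2, 4, 9, 144, 180, 219, 20], [73, 2, 30, 67, 192, 243, 64, 210],
    [14, 2, 10, 7, 90, 183, 217, 24], [73, 2, 87, 10, 90, 231, 66, 153],
    [15, 2, 4, 7, 132, 52, 90, 148], [15, 2, 5, 6, 134, 243, 146, 93],
    [22, 2, 30, 85, 204, 45, 193, 12], [74, 2, 159, 11, 146, 234, 64, 80],
    [208, 2, 133, 5, 134, 112, 219, 75], [14, 2, 10, 9, 66, 189, 219, 24],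
    [73, 2, 87, 67, 195, 176, 64, 153], [15, 2, 4, 8, 16, 48, 88, 148],
    [15, 2, 5, 9, 219, 246, 144, 93], [22, 2, 30, 67, 192, 51, 195, 12],
    [74, 2, 159, 65, 194, 117, 66, 80], [208, 2, 133, 213, 205, 245, 217, 75],
    [15, 2, 11, 7, 217, 51, 90, 153], [15, 2, 10, 6, 18, 245, 146, 80],
    [22, 2, 8, 85, 88, 120, 193, 24], [74, 2, 213, 11, 217, 225, 64, 24],
    [208, 2, 85, 5, 88, 117, 219, 153], [14, 2, 5, 6, 134, 117, 18, 222],
    [95, 2, 30, 85, 204, 225, 88, 222], [95, 2, 87, 28, 206, 36, 194, 13],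
    [150, 2, 159, 215, 207, 40, 195, 13], [130, 2, 133, 87, 206, 189, 195, 3],
    [220, 2, 159, 11, 146, 120, 217, 93], [82, 2, 133, 5, 134, 246, 88, 72],
    [155, 2, 135, 4, 132, 48, 144, 75], [15, 2, 11, 8, 64, 56, 88, 153],
    [15, 2, 10, 9, 66, 255, 144, 80], [22, 2, 8, 67, 64, 112, 195, 24],
    [74, 2, 213, 65, 193, 52, 66, 24], [208, 2, 85, 213, 193, 32, 217, 153],
    [14, 2, 5, 8, 88, 112, 16, 222], [95, 2, 30, 10, 18, 255, 90, 222],
    [95, 2, 87, 67, 195, 115, 192, 13], [150, 2, 159, 65, 194, 183, 193, 13],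
    [130, 2, 133, 213, 205, 56, 193, 3], [220, 2, 159, 215, 207, 231, 219, 93],
    [82, 2, 133, 87, 206, 115, 90, 72], [155, 2, 135, 159, 207, 183, 146, 75],
    [14, 2, 11, 6, 146, 115, 18, 210], [95, 2, 65, 85, 193, 180, 88, 131],
    [95, 2, 8, 28, 16, 56, 194, 80], [150, 2, 9, 215, 219, 255, 195, 153],
    [130, 2, 7, 87, 90, 234, 195, 131], [220, 2, 67, 11, 64, 115, 217, 131],
    [82, 2, 215, 5, 219, 243, 88, 24], [155, 2, 28, 4, 16, 52, 144, 210],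
    [1, 2, 10, 6, 18, 231, 134, 72], [22, 2, 87, 28, 206, 234, 16, 148],
    [220, 2, 213, 157, 205, 32, 192, 12], [82, 2, 85, 135, 204, 180, 207, 13],
    [129, 2, 135, 30, 204, 255, 192, 3], [150, 2, 213, 11, 217, 56, 146, 20],
    [26, 2, 135, 4, 132, 180, 16, 72], [14, 2, 11, 8, 64, 120, 16, 210],
    [95, 2, 65, 10, 66, 245, 90, 131], [95, 2, 8, 67, 64, 48, 192, 80],
    [150, 2, 9, 65, 66, 246, 193, 153], [130, 2, 7, 213, 217, 237, 193, 131],
    [220, 2, 67, 215, 195, 48, 219, 131], [82, 2, 215, 87, 195, 36, 90, 24],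
    [155, 2, 28, 159, 194, 40, 146, 210], [1, 2, 10, 7, 90, 237, 132, 72],
    [22, 2, 87, 10, 90, 189, 18, 148], [220, 2, 213, 65, 193, 245, 194, 12],
    [82, 2, 85, 213, 193, 225, 205, 13], [129, 2, 135, 159, 207, 120, 194, 3],
    [150, 2, 213, 157, 205, 237, 144, 20], [26, 2, 135, 30, 204, 51, 18, 72],
    [1, 2, 11, 6, 146, 225, 134, 75], [22, 2, 65, 28, 194, 246, 16, 128],
    [220, 2, 9, 157, 144, 189, 192, 210], [82, 2, 7, 135, 132, 51, 207, 93],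
    [129, 2, 6, 30, 18, 225, 192, 128], [150, 2, 67, 11, 64, 51, 146, 128],
    [26, 2, 157, 4, 144, 176, 16, 80], [73, 2, 8, 28, 16, 40, 206, 72],
    [130, 2, 85, 135, 204, 120, 132, 148], [74, 2, 67, 157, 192, 176, 205, 3],
    [208, 2, 215, 135, 207, 48, 204, 12], [26, 2, 28, 133, 206, 246, 205, 12],
    [129, 2, 28, 4, 16, 36, 132, 222], [1, 2, 11, 7, 217, 234, 132, 75],
    [22, 2, 65, 10, 66, 183, 18, 128], [220, 2, 9, 65, 66, 180, 194, 210],
    [82, 2, 7, 213, 217, 52, 205, 93], [129, 2, 6, 159, 146, 231, 194, 128],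
    [150, 2, 67, 157, 192, 112, 144, 128], [26, 2, 157, 30, 192, 45, 18, 80],
    [73, 2, 8, 85, 88, 32, 204, 72], [130, 2, 85, 5, 88, 45, 134, 148],
    [74, 2, 67, 215, 195, 243, 207, 3], [208, 2, 215, 87, 195, 231, 206, 12],
    [26, 2, 28, 159, 194, 234, 207, 12], [129, 2, 28, 133, 206, 56, 134, 222],
    [73, 2, 65, 28, 194, 52, 206, 3], [130, 2, 215, 135, 207, 255, 132, 20],
    [74, 2, 9, 157, 144, 45, 205, 75], [208, 2, 7, 135, 132, 183, 204, 222],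
    [26, 2, 6, 133, 134, 115, 205, 20], [129, 2, 157, 4, 144, 32, 132, 93],
    [155, 2, 157, 133, 205, 112, 206, 13], [155, 2, 6, 30, 18, 243, 204, 148],
    [73, 2, 65, 85, 193, 117, 204, 3], [130, 2, 215, 5, 219, 40, 134, 20],
    [74, 2, 9, 215, 219, 36, 207, 75], [208, 2, 7, 87, 90, 176, 206, 222],
    [26, 2, 6, 159, 146, 117, 207, 20], [129, 2, 157, 133, 205, 189, 134, 93],
    [155, 2, 157, 30, 192, 237, 204, 13], [155, 2, 6, 133, 134, 245, 206, 148]]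

/-- the transversal -/
def T : List (List ℕ) := [
    [1, 2, 4, 8, 16, 32, 64, 128], [1, 3, 4, 8, 60, 32, 73, 133],
    [129, 6, 4, 24, 16, 32, 96, 128], [73, 10, 20, 8, 16, 32, 64, 176],
    [129, 135, 4, 24, 44, 32, 249, 5], [15, 13, 4, 8, 44, 48, 95, 159],
    [73, 67, 20, 8, 44, 32, 1, 237], [130, 7, 5, 80, 88, 40, 104, 131],
    [249, 30, 20, 24, 16, 32, 96, 176], [74, 11, 148, 9, 144, 36, 66, 52],
    [130, 133, 5, 80, 37, 40, 186, 4], [132, 131, 4, 52, 44, 32, 217, 5],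
    [155, 157, 4, 24, 60, 48, 235, 11], [249, 231, 20, 24, 60, 32, 129, 93],
    [14, 12, 4, 9, 41, 180, 220, 30], [95, 85, 20, 8, 60, 48, 15, 255],
    [74, 65, 148, 9, 41, 36, 1, 234], [64, 75, 56, 8, 44, 32, 1, 225],
    [150, 9, 11, 72, 64, 56, 96, 153], [186, 87, 93, 80, 88, 40, 104, 243],
    [126, 159, 148, 153, 144, 36, 102, 52], [217, 51, 56, 52, 60, 32, 105, 153],
    [82, 5, 128, 7, 132, 52, 90, 36], [134, 128, 5, 117, 37, 40, 146, 4],
    [186, 237, 93, 80, 125, 40, 130, 20], [144, 153, 4, 36, 60, 48, 219, 11],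
    [164, 243, 20, 36, 60, 32, 161, 93], [26, 28, 4, 153, 185, 180, 236, 10],
    [208, 215, 5, 80, 125, 112, 224, 11], [179, 180, 4, 52, 16, 28, 230, 10],
    [235, 245, 20, 24, 44, 48, 155, 75], [126, 225, 148, 153, 185, 36, 129, 222],
    [217, 234, 56, 52, 16, 32, 132, 120], [123, 112, 56, 8, 16, 28, 14, 222],
    [66, 72, 189, 9, 41, 36, 1, 231], [96, 255, 40, 24, 60, 32, 129, 65],
    [88, 93, 40, 8, 60, 48, 15, 243], [22, 8, 10, 75, 66, 189, 102, 24],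
    [63, 213, 222, 210, 219, 45, 111, 117], [146, 115, 120, 117, 125, 40, 97, 210],
    [90, 183, 189, 176, 185, 36, 110, 24], [219, 45, 40, 36, 44, 48, 111, 131],
    [26, 4, 131, 6, 134, 117, 18, 45], [146, 148, 11, 115, 59, 56, 134, 4],
    [174, 176, 93, 45, 125, 40, 170, 20], [16, 24, 4, 32, 185, 180, 88, 10],
    [219, 210, 5, 45, 125, 112, 144, 11], [160, 117, 148, 32, 185, 36, 165, 222],
    [55, 48, 4, 176, 144, 157, 224, 11], [240, 246, 5, 117, 88, 85, 236, 10],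
    [105, 222, 40, 52, 16, 32, 132, 72], [207, 80, 40, 24, 16, 12, 26, 234],
    [125, 120, 40, 8, 16, 28, 14, 210], [104, 189, 32, 80, 125, 40, 130, 65],
    [16, 20, 32, 8, 125, 112, 14, 176], [88, 40, 45, 32, 41, 180, 104, 131],
    [144, 36, 32, 45, 37, 112, 102, 128], [171, 52, 222, 40, 250, 45, 175, 148],
    [41, 32, 4, 180, 132, 135, 252, 5], [60, 56, 32, 8, 88, 85, 15, 153]]

def kpar : List (ℕ × ℕ) := [
    (0, 0), (0, 0), (0, 1), (0, 2), (0, 3), (1, 1), (1, 2), (1, 3), (2, 2), (2, 3),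
    (3, 0), (3, 1), (3, 3), (4, 0), (4, 2), (5, 2), (5, 3), (6, 0), (6, 1), (6, 3),
    (7, 0), (7, 2), (8, 0), (8, 1), (8, 3), (9, 0), (9, 2), (10, 1), (10, 3), (11, 3),
    (12, 0), (12, 2), (13, 2), (14, 0), (14, 1), (15, 0), (15, 1), (15, 3), (16, 0), (16, 2),
    (17, 1), (17, 3), (18, 3), (19, 0), (19, 2), (20, 2), (21, 0), (21, 1), (22, 1), (22, 3),
    (23, 3), (24, 0), (24, 2), (25, 2), (26, 0), (26, 1), (27, 2), (27, 3), (29, 0), (29, 2),
    (31, 1), (32, 1), (33, 1), (35, 1), (35, 3), (36, 3), (37, 0), (37, 2), (38, 2), (39, 0),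
    (39, 1), (40, 2), (40, 3), (42, 0), (42, 2), (44, 1), (45, 1), (46, 1), (48, 2), (48, 3),
    (50, 0), (50, 2), (52, 1), (53, 1), (54, 1), (56, 3), (57, 2), (58, 2), (59, 0), (59, 1),
    (62, 2), (63, 2), (63, 3), (65, 0), (65, 2), (67, 1), (68, 1), (69, 1), (71, 3), (72, 2),
    (73, 2), (74, 0), (74, 1), (77, 2), (78, 3), (79, 2), (80, 2), (81, 0), (81, 1), (84, 2),
    (88, 1), (90, 3), (91, 3), (92, 2), (93, 2), (94, 0), (94, 1), (97, 2), (101, 1), (103, 3)]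

def tpar : List (ℕ × ℕ) := [
    (0, 0), (0, 2), (0, 3), (0, 5), (1, 3), (1, 4), (1, 5), (2, 1), (2, 5), (3, 0),
    (4, 1), (4, 2), (4, 4), (4, 5), (5, 0), (5, 5), (6, 0), (6, 2), (7, 4), (7, 5),
    (8, 0), (8, 2), (9, 4), (10, 2), (10, 5), (11, 4), (11, 5), (12, 0), (12, 1), (12, 2),
    (12, 5), (13, 0), (13, 2), (15, 2), (16, 2), (17, 3), (17, 4), (18, 0), (19, 0), (19, 2),
    (20, 2), (21, 4), (22, 1), (23, 4), (23, 5), (25, 0), (25, 1), (26, 0), (27, 2), (28, 2),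
    (32, 3), (33, 3), (33, 4), (35, 1), (36, 1), (41, 0), (41, 1), (44, 0), (48, 4), (52, 1)]

def ktab : List (List ℕ) := [[
    1, 0, 5, 10, 13, 2, 17, 20, 22, 25, 3, 27, 30, 4, 33, 35, 38, 6, 40, 43,
    7, 46, 8, 48, 51, 9, 54, 11, 45, 58, 12, 44, 41, 14, 62, 15, 63, 66, 16, 69,
    18, 32, 73, 19, 31, 28, 21, 77, 23, 68, 80, 24, 67, 64, 26, 84, 78, 76, 29, 88,
    75, 72, 34, 36, 53, 93, 37, 52, 49, 39, 97, 91, 61, 42, 101, 60, 57, 47, 56, 96,
    50, 107, 95, 92, 55, 106, 105, 104, 59, 110, 109, 71, 83, 65, 115, 82, 79, 70, 114, 113,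
    112, 74, 118, 117, 87, 86, 85, 81, 119, 90, 89, 116, 100, 99, 98, 94, 111, 103, 102, 108],
  [
    2, 5, 0, 11, 9, 1, 18, 16, 23, 4, 27, 3, 29, 25, 34, 36, 7, 40, 6, 42,
    38, 47, 48, 8, 50, 13, 55, 10, 57, 12, 58, 60, 61, 62, 14, 63, 15, 65, 20, 70,
    17, 72, 19, 73, 75, 76, 77, 21, 22, 79, 24, 80, 82, 83, 84, 26, 71, 28, 30, 89,
    31, 32, 33, 35, 92, 37, 93, 95, 96, 97, 39, 56, 41, 43, 102, 44, 45, 46, 91, 49,
    51, 108, 52, 53, 54, 98, 103, 100, 110, 59, 99, 78, 64, 66, 116, 67, 68, 69, 85, 90,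
    87, 118, 74, 86, 112, 117, 114, 119, 81, 113, 88, 115, 104, 109, 106, 111, 94, 105, 101, 107],
  [
    3, 6, 8, 0, 14, 15, 1, 21, 2, 26, 17, 23, 31, 32, 4, 5, 39, 10, 36, 44,
    45, 7, 35, 11, 52, 53, 9, 56, 46, 59, 43, 12, 13, 41, 55, 22, 18, 67, 68, 16,
    71, 33, 74, 30, 19, 20, 28, 70, 78, 69, 81, 66, 24, 25, 64, 34, 27, 86, 87, 29,
    89, 83, 90, 91, 54, 94, 51, 37, 38, 49, 47, 40, 99, 100, 42, 102, 96, 103, 48, 105,
    106, 50, 108, 61, 109, 107, 57, 58, 104, 60, 62, 63, 113, 114, 65, 116, 76, 117, 115, 72,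
    73, 112, 75, 77, 88, 79, 80, 85, 82, 84, 118, 119, 101, 92, 93, 98, 95, 97, 110, 111],
  [
    4, 7, 9, 12, 0, 16, 19, 1, 24, 2, 28, 29, 3, 20, 31, 37, 5, 41, 42, 6,
    13, 44, 49, 50, 8, 38, 52, 57, 10, 11, 45, 14, 43, 46, 60, 64, 65, 15, 25, 67,
    72, 17, 18, 32, 21, 30, 33, 75, 79, 22, 23, 68, 26, 66, 69, 82, 85, 27, 76, 81,
    34, 73, 77, 92, 35, 36, 53, 39, 51, 54, 95, 98, 40, 61, 94, 47, 58, 62, 104, 48,
    96, 59, 55, 93, 97, 56, 107, 106, 105, 108, 111, 112, 63, 83, 74, 70, 80, 84, 71, 115,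
    114, 113, 116, 119, 78, 88, 87, 86, 89, 118, 117, 90, 91, 101, 100, 99, 102, 110, 109, 103]]

def nt : List (List (ℕ × ℕ)) := [[
    (0, 1), (1, 1), (2, 1), (9, 0), (4, 1), (14, 0), (16, 0), (7, 1), (20, 0), (3, 0),
    (10, 1), (11, 1), (27, 0), (31, 0), (5, 0), (28, 105), (6, 0), (34, 0), (37, 0), (38, 0),
    (8, 0), (40, 0), (22, 17), (23, 1), (32, 23), (45, 0), (47, 0), (12, 0), (15, 100), (48, 0),
    (39, 22), (13, 0), (24, 23), (49, 105), (17, 0), (52, 94), (50, 110), (18, 0), (19, 0), (30, 18),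
    (21, 0), (55, 0), (42, 17), (54, 87), (57, 0), (25, 0), (51, 84), (26, 0), (29, 0), (33, 100),
    (36, 94), (46, 65), (35, 110), (59, 94), (43, 86), (41, 0), (58, 108), (44, 0), (56, 108), (53, 110)],
  [
    (0, 2), (1, 2), (7, 0), (3, 2), (10, 0), (14, 56), (6, 2), (2, 0), (19, 0), (9, 2),
    (4, 0), (23, 0), (28, 0), (24, 0), (5, 56), (27, 105), (16, 2), (17, 2), (18, 17), (8, 0),
    (38, 0), (39, 0), (42, 0), (11, 0), (13, 0), (46, 0), (44, 0), (15, 100), (12, 0), (49, 0),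
    (40, 22), (32, 23), (31, 23), (48, 105), (34, 2), (53, 0), (54, 0), (37, 17), (20, 0), (21, 0),
    (30, 18), (56, 0), (22, 0), (50, 16), (26, 0), (51, 84), (25, 0), (57, 0), (33, 100), (29, 0),
    (43, 25), (45, 65), (59, 0), (35, 0), (36, 0), (58, 108), (41, 0), (47, 0), (55, 108), (52, 0)],
  [
    (1, 0), (0, 0), (7, 44), (9, 38), (11, 0), (5, 17), (17, 0), (2, 44), (21, 0), (3, 38),
    (23, 0), (4, 0), (29, 0), (32, 0), (14, 17), (33, 0), (34, 0), (6, 0), (18, 4), (39, 0),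
    (40, 0), (8, 0), (22, 82), (10, 0), (31, 23), (44, 49), (46, 61), (48, 0), (49, 0), (12, 0),
    (38, 22), (24, 23), (13, 0), (15, 0), (16, 0), (50, 0), (52, 0), (37, 4), (30, 18), (19, 0),
    (20, 0), (41, 17), (42, 82), (53, 16), (25, 61), (57, 49), (26, 49), (51, 29), (27, 0), (28, 0),
    (35, 0), (47, 26), (36, 0), (43, 25), (59, 0), (55, 17), (56, 17), (45, 61), (58, 1), (54, 0)],
  [
    (2, 0), (4, 0), (0, 0), (8, 0), (1, 0), (12, 0), (13, 0), (11, 44), (3, 0), (20, 0),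
    (22, 116), (7, 44), (5, 0), (6, 0), (27, 0), (30, 0), (31, 0), (35, 0), (25, 44), (26, 44),
    (9, 0), (40, 38), (10, 119), (23, 82), (36, 113), (18, 44), (19, 44), (14, 0), (39, 29), (29, 17),
    (15, 0), (16, 0), (50, 0), (51, 0), (52, 94), (17, 0), (24, 112), (45, 44), (47, 44), (28, 26),
    (21, 38), (53, 106), (42, 4), (43, 82), (44, 82), (37, 44), (49, 114), (38, 44), (48, 17), (46, 117),
    (32, 0), (33, 0), (34, 110), (41, 103), (54, 1), (59, 62), (56, 1), (57, 82), (58, 17), (55, 37)],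
  [
    (0, 17), (5, 0), (2, 17), (3, 17), (12, 0), (1, 0), (15, 0), (18, 0), (8, 17), (22, 0),
    (20, 116), (25, 0), (4, 0), (30, 0), (14, 1), (6, 0), (19, 72), (36, 0), (7, 0), (16, 64),
    (10, 119), (41, 0), (9, 0), (43, 0), (35, 113), (11, 0), (31, 117), (27, 1), (38, 116), (44, 49),
    (13, 0), (26, 114), (49, 102), (52, 0), (51, 94), (24, 112), (17, 0), (37, 1), (28, 119), (47, 96),
    (53, 59), (21, 0), (42, 2), (23, 0), (29, 61), (45, 1), (50, 16), (39, 96), (58, 0), (32, 107),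
    (46, 25), (34, 110), (33, 0), (40, 59), (54, 2), (59, 92), (57, 96), (56, 96), (48, 0), (55, 92)],
  [
    (3, 0), (6, 0), (8, 0), (0, 0), (13, 0), (15, 0), (1, 0), (19, 0), (2, 0), (17, 38),
    (24, 0), (26, 0), (30, 0), (4, 0), (27, 44), (5, 0), (18, 72), (9, 38), (16, 64), (7, 0),
    (35, 38), (39, 44), (36, 38), (44, 0), (10, 0), (31, 117), (11, 0), (14, 44), (40, 22), (43, 49),
    (12, 0), (25, 114), (46, 61), (33, 17), (34, 4), (20, 38), (22, 38), (37, 82), (53, 38), (21, 44),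
    (28, 18), (47, 99), (54, 38), (29, 61), (23, 0), (45, 2), (32, 49), (41, 104), (48, 4), (50, 80),
    (49, 70), (51, 17), (52, 17), (38, 38), (42, 38), (55, 2), (57, 99), (56, 104), (58, 4), (59, 17)]]

def st : List (ℕ × ℕ) := [
    (0, 1), (0, 2), (1, 5), (42, 15), (0, 17), (37, 27)]

def mt : ℕ × ℕ := (37, 62)

def kw : List (List ℕ) := [[0], [1], [0, 4, 0], [0, 1, 5, 0, 2, 5, 0]]

def cc : List ℕ := [0, 56, 10, 13]

/-- the 75 points -/
def pts : List (ℕ × ℕ × ℕ) := [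
    (1, 0, 0), (14, 0, 3), (15, 0, 10), (16, 14, 60), (18, 2, 12), (22, 0, 12), (26, 0, 62), (33, 14, 12),
    (37, 5, 12), (41, 5, 62), (44, 14, 62), (55, 1, 62), (59, 1, 12), (60, 14, 34), (63, 7, 13), (64, 1, 4),
    (66, 1, 13), (73, 0, 4), (74, 0, 13), (82, 0, 33), (88, 5, 4), (90, 3, 33), (95, 0, 28), (96, 4, 4),
    (97, 15, 62), (102, 4, 13), (103, 6, 62), (104, 10, 4), (105, 11, 4), (110, 6, 33), (111, 10, 13), (118, 1, 33),
    (123, 1, 28), (125, 5, 28), (126, 2, 13), (129, 0, 60), (130, 0, 31), (132, 1, 60), (134, 1, 31), (144, 5, 60),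
    (146, 2, 30), (150, 0, 30), (155, 0, 34), (160, 15, 60), (161, 10, 30), (164, 6, 60), (165, 10, 12), (170, 4, 30),
    (171, 11, 12), (174, 6, 31), (175, 4, 12), (179, 1, 34), (185, 5, 34), (186, 3, 31), (190, 1, 30), (192, 6, 14),
    (193, 15, 34), (194, 11, 28), (195, 6, 34), (204, 4, 32), (205, 10, 28), (206, 10, 32), (207, 4, 28), (208, 0, 14),
    (217, 7, 30), (219, 14, 4), (220, 0, 32), (224, 3, 14), (230, 7, 32), (235, 2, 28), (236, 2, 32), (240, 1, 14),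
    (249, 2, 4), (250, 14, 28), (252, 1, 32)]


theorem c_ktab : ∀ i < 4, ∀ j < 120, (ktab.getD i []).getD j 0 < 120 ∧
    mulL (K.getD j []) (kgens.getD i []) = K.getD ((ktab.getD i []).getD j 0) [] := by
  decide +kernel

theorem c_kpar : ∀ i < 120, i = 0 ∨ ((kpar.getD i (0, 0)).1 < i ∧ (kpar.getD i (0, 0)).2 < 4 ∧
    K.getD i [] = mulL (K.getD (kpar.getD i (0, 0)).1 []) (kgens.getD (kpar.getD i (0, 0)).2 [])) := by
  decide +kernel

theorem c_tpar : ∀ i < 60, i = 0 ∨ ((tpar.getD i (0, 0)).1 < i ∧ (tpar.getD i (0, 0)).2 < 6 ∧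
    T.getD i [] = mulL (T.getD (tpar.getD i (0, 0)).1 []) (gensN.getD (tpar.getD i (0, 0)).2 [])) := by
  decide +kernel

theorem c_nt : ∀ i < 6, ∀ j < 60, ((nt.getD i []).getD j (0, 0)).1 < 60 ∧
    ((nt.getD i []).getD j (0, 0)).2 < 120 ∧
    mulL (T.getD j []) (gensN.getD i []) = mulL (K.getD ((nt.getD i []).getD j (0, 0)).2 [])
      (T.getD ((nt.getD i []).getD j (0, 0)).1 []) := by
  decide +kernel

theorem c_kw : ∀ i < 4, (∀ j ∈ kw.getD i [], j < 6) ∧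
    kgens.getD i [] = prodL ((kw.getD i []).map fun j => gensN.getD j []) := by
  decide +kernel

theorem c_cc : ∀ i < 4, cc.getD i 0 < 120 ∧
    mulL (K.getD (cc.getD i 0) []) (kgens.getD i []) = mulL (kgens.getD 0 []) (K.getD (cc.getD i 0) []) := by
  decide +kernel

theorem c_st : ∀ i < 6, (st.getD i (0, 0)).1 < 60 ∧ (st.getD i (0, 0)).2 < 120 ∧
    mulL (mulL sL (gensN.getD i [])) sL = mulL (K.getD (st.getD i (0, 0)).2 []) (T.getD (st.getD i (0, 0)).1 []) := by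
  decide +kernel

theorem c_mt : mt.1 < 60 ∧ mt.2 < 120 ∧ ∀ L ∈ confHN.M, mulL L sL = mulL (K.getD mt.2 []) (T.getD mt.1 []) := by
  decide +kernel

theorem c_ss : mulL sL sL = idL := by decide +kernel

theorem c_pts : ∀ s ∈ pts, s.2.1 < 60 ∧ s.2.2 < 120 ∧ ap (T.getD s.2.1 []) (ap (K.getD s.2.2 []) 1) = s.1 := by
  decide +kernel

theorem c_K2 : ∀ i < 120, ap (K.getD i []) 2 = 2 := by decide +kernel

theorem c_T2 : ∀ i < 60, i = 0 ∨ ap (T.getD i []) 2 ≠ 2 := by decide +kernel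

theorem c_T256 : ∀ i < 60, ap (T.getD i []) 2 < 256 := by decide +kernel

theorem c_K0 : K.getD 0 [] = idL := by decide +kernel

theorem c_T0 : T.getD 0 [] = idL := by decide +kernel

theorem c_Kinj : K.Nodup := by decide +kernel

theorem c_s_not : sL ∉ K := by decide +kernel

theorem c_K197 : ∀ i < 120, ap (K.getD i []) 197 = 197 ∨ ap (K.getD i []) 197 = 199 := by decide +kernel

theorem c_o1 : ap (kgens.getD 0 []) 197 = 199 := by decide +kernel

end Cfsg.Agent.HNType.Tables
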